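import Cfsg.Agent.H1.Shult.CyclicHH2
import Cfsg.Agent.H1.Shult.KeyLemma
import Cfsg.Agent.H1.Gross.Prelim

/-!
General facts for the theorem on the Fitting height of a group with a coprime automorphism of prime order:
fixed points in cosets, orbit sums, displacements, radicals of commutator forms.
-/

set_option autoImplicit false
set_option linter.style.haveILetI false

namespace H1.Turull

open Module Subgroup
open H1.Shult

universe u v w

section Group

variable {Q : Type u} [Group Q]

/-- The subgroup generated by the displacements. -/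
def disp (θ : MulAut Q) : Subgroup Q := closure (Set.range fun a : Q => a⁻¹ * θ a)

theorem disp_mem (θ : MulAut Q) (a : Q) : a⁻¹ * θ a ∈ disp θ := subset_closure ⟨a, rfl⟩

theorem disp_apply_mem (θ : MulAut Q) {x : Q} (hx : x ∈ disp θ) : θ x ∈ disp θ := by
  have h : (disp θ).map θ.toMonoidHom ≤ disp θ := by
    rw [disp, MonoidHom.map_closure, closure_le]
    rintro _ ⟨_, ⟨a, rfl⟩, rfl⟩
    exact subset_closure ⟨θ a, by simp⟩
  exact h (mem_map_of_mem θ.toMonoidHom hx)

theorem pow_apply_mem {θ : MulAut Q} {N : Subgroup Q} (hN : ∀ x ∈ N, θ x ∈ N) (i : ℕ) {x : Q} (hx : x ∈ N) :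
    (θ ^ i) x ∈ N := by
  induction i with
  | zero => exact hx
  | succ i ih => rw [pow_succ', MulAut.mul_apply]; exact hN _ ih

/-- A fixed coset of an invariant subgroup of order prime to `r` contains a fixed element. -/
theorem exists_fixed_coset [Finite Q] {r : ℕ} [Fact r.Prime] (θ : MulAut Q) (hθ : θ ^ r = 1) (N : Subgroup Q)
    (hN : ∀ x ∈ N, θ x ∈ N) (hr : ¬ r ∣ Nat.card N) (a : Q) (ha : a⁻¹ * θ a ∈ N) :
    ∃ c, a⁻¹ * c ∈ N ∧ θ c = c := by
  let α := {x : Q // a⁻¹ * x ∈ N}
  have hmem : ∀ x : α, a⁻¹ * θ x.1 ∈ N := fun x => by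
    have h := N.mul_mem ha (hN _ x.2)
    rwa [map_mul, map_inv, mul_assoc, mul_inv_cancel_left] at h
  let e : Equiv.Perm α := Equiv.ofBijective (fun x => ⟨θ x.1, hmem x⟩)
    (Finite.injective_iff_bijective.mp fun x y h => Subtype.ext (θ.injective (congrArg Subtype.val h)))
  have hpow : ∀ (i : ℕ) (x : α), ((e ^ i) x).1 = (θ ^ i) x.1 := by
    intro i
    induction i with
    | zero => intro x; rfl
    | succ i ih =>
      intro x
      rw [pow_succ', Equiv.Perm.mul_apply, pow_succ', MulAut.mul_apply, ← ih]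
      rfl
  have her : e ^ r = 1 := Equiv.ext fun x => Subtype.ext (by rw [hpow, hθ]; rfl)
  obtain ⟨j, -, hj⟩ := (Nat.dvd_prime_pow (Fact.out : r.Prime)).mp
    (show orderOf e ∣ r ^ 1 by rw [pow_one]; exact orderOf_dvd_of_pow_eq_one her)
  have hP : IsPGroup r (zpowers e) := IsPGroup.of_card (n := j) (by rw [Nat.card_zpowers, hj])
  have hcard : Nat.card α = Nat.card N := Nat.card_congr
    { toFun := fun x => ⟨a⁻¹ * x.1, x.2⟩
      invFun := fun n => ⟨a * n, by simp [n.2]⟩
      left_inv := fun x => Subtype.ext (by simp)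
      right_inv := fun n => Subtype.ext (by simp) }
  obtain ⟨x, hx⟩ := hP.nonempty_fixed_point_of_prime_not_dvd_card α (hcard ▸ hr)
  exact ⟨x.1, x.2, congrArg Subtype.val (hx ⟨e, mem_zpowers e⟩)⟩

/-- The product of the orbit of an element of a commutative group. -/
def orbitProd {M : Type*} [CommGroup M] (θ : MulAut M) (r : ℕ) (m : M) : M :=
  ∏ i ∈ Finset.range r, (θ ^ i) m

theorem apply_orbitProd {M : Type*} [CommGroup M] (θ : MulAut M) {r : ℕ} (hθ : θ ^ r = 1) (m : M) :
    θ (orbitProd θ r m) = orbitProd θ r m := by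
  have h1 := (Finset.prod_range_succ (fun i => (θ ^ i) m) r).symm.trans
    (Finset.prod_range_succ' (fun i => (θ ^ i) m) r)
  rw [hθ, pow_zero, MulAut.one_apply] at h1
  rw [orbitProd, map_prod]
  refine Eq.trans (Finset.prod_congr rfl fun i _ => ?_) (mul_right_cancel h1).symm
  rw [← MulAut.mul_apply, ← pow_succ']

theorem orbitProd_of_fixed {M : Type*} [CommGroup M] (θ : MulAut M) (r : ℕ) (m : M) (hm : θ m = m) :
    orbitProd θ r m = m ^ r := by
  have h : ∀ i : ℕ, (θ ^ i) m = m := by
    intro i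
    induction i with
    | zero => rfl
    | succ i ih => rw [pow_succ', MulAut.mul_apply, ih, hm]
  simp [orbitProd, h]

/-- The commutator. -/
def com (x y : Q) : Q := x * y * x⁻¹ * y⁻¹

theorem map_com {R : Type*} [Group R] (f : Q →* R) (x y : Q) : f (com x y) = com (f x) (f y) := by
  simp [com]

theorem map_com' (θ : MulAut Q) (x y : Q) : θ (com x y) = com (θ x) (θ y) := by
  simp [com]

theorem com_mul_left (hcls : ∀ a b : Q, com a b ∈ center Q) (x x' y : Q) :
    com (x * x') y = com x y * com x' y := by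
  have h := hcls x' y
  rw [mem_center_iff] at h
  calc com (x * x') y = x * com x' y * (y * x⁻¹ * y⁻¹) := by simp [com, mul_assoc]
    _ = com x' y * x * (y * x⁻¹ * y⁻¹) := by rw [h x]
    _ = com x' y * com x y := by simp [com, mul_assoc]
    _ = com x y * com x' y := (h (com x y)).symm

theorem com_swap (x y : Q) : com y x = (com x y)⁻¹ := by simp [com, mul_assoc]

theorem com_mul_right (hcls : ∀ a b : Q, com a b ∈ center Q) (x y y' : Q) :
    com x (y * y') = com x y * com x y' := by
  rw [com_swap (y * y') x, com_mul_left hcls, mul_inv_rev, ← com_swap, ← com_swap]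
  have h := hcls x y'
  rw [mem_center_iff] at h
  exact (h _).symm

theorem com_eq_one_of_mem_center {x : Q} (hx : x ∈ center Q) (y : Q) : com x y = 1 := by
  rw [com, (mem_center_iff.mp hx y).symm, mul_inv_cancel_right, mul_inv_cancel]

end Group

section Radical

variable {Q : Type u} [Group Q] {K : Type v} [Field K]

/-- A function multiplicative on the centre. -/
structure IsCentralChar (ψ : Q → K) : Prop where
  one : ψ 1 = 1
  mul : ∀ a ∈ center Q, ∀ b ∈ center Q, ψ (a * b) = ψ a * ψ b

theorem IsCentralChar.inv {ψ : Q → K} (h : IsCentralChar ψ) {a : Q} (ha : a ∈ center Q) :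
    ψ a⁻¹ = (ψ a)⁻¹ := by
  refine eq_inv_of_mul_eq_one_left ?_
  rw [← h.mul _ (inv_mem ha) _ ha, inv_mul_cancel, h.one]

theorem IsCentralChar.ne_zero {ψ : Q → K} (h : IsCentralChar ψ) {a : Q} (ha : a ∈ center Q) : ψ a ≠ 0 := by
  intro h0
  have := h.mul _ ha _ (inv_mem ha)
  rw [h0, zero_mul, mul_inv_cancel, h.one] at this
  exact one_ne_zero this

variable {ψ : Q → K}

/-- The radical of the commutator form of a central character. -/
def rad (hψ : IsCentralChar ψ) (hcls : ∀ a b : Q, com a b ∈ center Q) : Subgroup Q where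
  carrier := {x | ∀ y, ψ (com x y) = 1}
  one_mem' := fun y => by rw [com_eq_one_of_mem_center (one_mem _), hψ.one]
  mul_mem' := fun {a b} ha hb y => by
    rw [com_mul_left hcls, hψ.mul _ (hcls _ _) _ (hcls _ _), ha y, hb y, one_mul]
  inv_mem' := fun {a} ha y => by
    have h : com a⁻¹ y * com a y = 1 := by
      rw [← com_mul_left hcls, inv_mul_cancel, com_eq_one_of_mem_center (one_mem _)]
    have h2 := hψ.mul _ (hcls a⁻¹ y) _ (hcls a y)
    rw [h, hψ.one, ha y, mul_one] at h2
    exact h2.symm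

variable (hψ : IsCentralChar ψ) (hcls : ∀ a b : Q, com a b ∈ center Q)

theorem mem_rad {x : Q} : x ∈ rad hψ hcls ↔ ∀ y, ψ (com x y) = 1 := Iff.rfl

theorem center_le_rad : center Q ≤ rad hψ hcls := fun x hx y => by
  rw [com_eq_one_of_mem_center hx, hψ.one]

theorem rad_normal : (rad hψ hcls).Normal := by
  refine ⟨fun x hx g => ?_⟩
  rw [show g * x * g⁻¹ = com g x * x by simp [com]]
  exact mul_mem (center_le_rad hψ hcls (hcls g x)) hx

theorem rad_apply_mem (θ : MulAut Q) (hθ : ∀ z ∈ center Q, ψ (θ z) = ψ z) {x : Q} (hx : x ∈ rad hψ hcls) :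
    θ x ∈ rad hψ hcls := by
  intro y
  obtain ⟨y', rfl⟩ := θ.surjective y
  rw [← map_com', hθ _ (hcls _ _)]
  exact hx y'

/-- A displacement which is orthogonal to all displacements is fixed modulo the radical. -/
theorem fixed_mod_rad (θ : MulAut Q) (hθ : ∀ z ∈ center Q, ψ (θ z) = ψ z) {x : Q}
    (hx : ∀ a, ψ (com x (a⁻¹ * θ a)) = 1) : x⁻¹ * θ x ∈ rad hψ hcls := by
  intro y
  obtain ⟨y', rfl⟩ := θ.surjective y
  have hxy : ψ (com x (θ y')) = ψ (com x y') := by
    conv_lhs => rw [show θ y' = y' * (y'⁻¹ * θ y') by group]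
    rw [com_mul_right hcls, hψ.mul _ (hcls _ _) _ (hcls _ _), hx, mul_one]
  have hθxy : ψ (com (θ x) (θ y')) = ψ (com x y') := by rw [← map_com', hθ _ (hcls _ _)]
  have h := hψ.mul _ (hcls x (θ y')) _ (hcls (x⁻¹ * θ x) (θ y'))
  rw [← com_mul_left hcls, mul_inv_cancel_left, hθxy, hxy] at h
  exact (mul_right_eq_self₀.mp h.symm).resolve_right (hψ.ne_zero (hcls _ _))

end Radical

section Operators

variable {K : Type v} [Field K] {V : Type w} [AddCommGroup V] [Module K V]

/-- The sum of the powers of an operator. -/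
def tr (S : Module.End K V) (r : ℕ) : Module.End K V := ∑ i ∈ Finset.range r, S ^ i

theorem mul_tr {S : Module.End K V} {r : ℕ} (hS : S ^ r = 1) : S * tr S r = tr S r := by
  have h1 := (Finset.sum_range_succ (fun i => S ^ i) r).symm.trans (Finset.sum_range_succ' (fun i => S ^ i) r)
  rw [hS, pow_zero] at h1
  rw [tr, Finset.mul_sum]
  exact Eq.trans (Finset.sum_congr rfl fun i _ => (pow_succ' S i).symm) (add_right_cancel h1).symm

theorem commute_tr {S T : Module.End K V} (h : T * S = S * T) (r : ℕ) : T * tr S r = tr S r * T :=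
  Commute.sum_right _ _ _ fun i _ => (show Commute T S from h).pow_right i

theorem tr_mul {S : Module.End K V} {r : ℕ} (hS : S ^ r = 1) : tr S r * S = tr S r :=
  (commute_tr (rfl : S * S = S * S) r).symm.trans (mul_tr hS)

theorem pow_apply_of_fixed {S : Module.End K V} {v : V} (hv : S v = v) (i : ℕ) : (S ^ i) v = v := by
  induction i with
  | zero => rfl
  | succ i ih => rw [pow_succ', Module.End.mul_apply, ih, hv]

theorem tr_apply (S : Module.End K V) (r : ℕ) (v : V) :
    tr S r v = ∑ i ∈ Finset.range r, (S ^ i) v := by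
  rw [tr, LinearMap.sum_apply]

theorem tr_of_fixed {S : Module.End K V} (r : ℕ) {v : V} (hv : S v = v) : tr S r v = (r : K) • v := by
  rw [tr_apply, Finset.sum_congr rfl fun i _ => pow_apply_of_fixed hv i, Finset.sum_const,
    Finset.card_range, Nat.cast_smul_eq_nsmul]

theorem apply_tr {S : Module.End K V} {r : ℕ} (hS : S ^ r = 1) (v : V) : S (tr S r v) = tr S r v := by
  rw [← Module.End.mul_apply, mul_tr hS]

/-- An orbit sum of an eigenvector with a moved character vanishes only trivially. -/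
theorem orbit_zero {A : Type u} [Group A] (ρ : A → Module.End K V) (θ : MulAut A) {r : ℕ} (hr : r.Prime)
    (hθ : θ ^ r = 1) (S : Module.End K V) (hcomp : ∀ a, S * ρ a = ρ (θ a) * S) (y : V) (χ : A → K)
    (hy : ∀ a, ρ a y = χ a • y) (hmov : ∃ a, χ (θ a) ≠ χ a) (hsum : tr S r y = 0) : y = 0 := by
  by_contra hy0
  obtain ⟨a, ha⟩ := hmov
  have h := H1.Gross.char_fixed ρ hr θ (n := 0) (by rw [zero_add, pow_one, hθ]) S hcomp y hy0 χ hy
    (by rw [zero_add, pow_one, ← tr_apply]; exact hsum) a
  rw [pow_zero, pow_one] at h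
  exact ha h

/-- A nontrivial operator of a commutative group is seen on some eigenvector. -/
theorem exists_eigen_ne [IsAlgClosed K] [FiniteDimensional K V] {A : Type u} [Group A] [Finite A] {q : ℕ}
    [Fact q.Prime] (hA : IsPGroup q A) (hq : (q : K) ≠ 0) (ρ : A →* Module.End K V)
    (hcomm : ∀ a b, ρ a * ρ b = ρ b * ρ a) (a : A) (ha : ρ a ≠ 1) :
    ∃ v : V, v ≠ 0 ∧ ∃ χ : A → K, (∀ b, ρ b v = χ b • v) ∧ χ a ≠ 1 := by
  by_contra hno
  push Not at hno
  refine ha ?_
  rw [← one_smul K (1 : Module.End K V)]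
  exact eq_smul_of_eigen ρ hcomm a (natCast_orderOf_ne_zero hA hq a) 1
    fun v hv χ hχ => hno v hv χ hχ

theorem eigen_mul {A : Type u} [Group A] (ρ : A →* Module.End K V) {v : V} (hv : v ≠ 0) {χ : A → K}
    (hχ : ∀ b, ρ b v = χ b • v) : χ 1 = 1 ∧ ∀ a b, χ (a * b) = χ a * χ b := by
  refine ⟨smul_left_injective K hv ?_, fun a b => smul_left_injective K hv ?_⟩
  · show χ 1 • v = (1 : K) • v
    rw [← hχ, map_one, Module.End.one_apply, one_smul]
  · show χ (a * b) • v = (χ a * χ b) • v
    rw [← hχ, map_mul, Module.End.mul_apply, hχ b, map_smul, hχ a, smul_smul, mul_comm]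

end Operators

end H1.Turull
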