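import Cfsg.Agent.H1.Turull.Gauge

/-!
When a group of automorphisms is trivial on the fixed vectors, a centralising element moves a fixed vector.
-/

set_option autoImplicit false
set_option linter.style.haveILetI false

namespace H1.Turull

open Module Subgroup
open H1.Shult

universe u v w

/-- Two commuting involutions with irreducible displacements of the same order coincide. -/
theorem involution_unique {E : Type u} [CommGroup E] [Finite E] {q : ℕ} [Fact q.Prime] (hE : ∀ e : E, e ^ q = 1)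
    (hq2 : q ≠ 2) {r : ℕ} [Fact r.Prime] (hqr : q ≠ r) (hr2 : r ≠ 2) {k : ℕ} (hk : q ^ k + 1 = 2 * r)
    (θ : MulAut E) (hθ : θ ^ r = 1) (hfpf : ∀ x, θ x = x → x = 1) (A : Subgroup (MulAut E))
    (hA : ∀ a ∈ A, θ * a = a * θ) (hsq : ∀ a ∈ A, a ^ 2 = 1)
    (hcard : ∀ a ∈ A, a ≠ 1 → Nat.card (disp a) = q ^ (2 * k)) {a b : MulAut E} (ha : a ∈ A) (hb : b ∈ A)
    (ha1 : a ≠ 1) (hb1 : b ≠ 1) : a = b := by
  classical
  have hq : q.Prime := Fact.out
  have hq2' : Nat.Coprime q 2 := (Nat.coprime_primes hq Nat.prime_two).mpr hq2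
  have happ : ∀ a ∈ A, ∀ x, a (a x) = x := fun a ha x => by
    rw [← MulAut.mul_apply, ← pow_two, hsq a ha]; rfl
  have hinvA : ∀ a ∈ A, ∀ b ∈ A, ∀ x, a (b x) = b (a x) := by
    intro a ha b hb x
    have h1 := happ _ (mul_mem ha hb)
    apply b.injective
    apply a.injective
    have h2 := h1 x
    rw [MulAut.mul_apply, MulAut.mul_apply] at h2
    rw [happ b hb, happ a ha, h2]
  have hinv : ∀ a ∈ A, ∀ w ∈ disp a, a w = w⁻¹ := by
    intro a ha w hw
    have h1 := fixed_disp_eq_one hE hq2' a (hsq a ha) (mul_mem hw (disp_apply_mem a hw))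
      (by rw [map_mul, happ a ha, mul_comm])
    exact (eq_inv_of_mul_eq_one_right h1)
  have hdθ : ∀ a ∈ A, ∀ w ∈ disp a, θ w ∈ disp a := by
    intro a ha w hw
    suffices h : disp a ≤ (disp a).comap θ.toMonoidHom from h hw
    rw [disp, closure_le]
    rintro _ ⟨x, rfl⟩
    show θ (x⁻¹ * a x) ∈ disp a
    rw [map_mul, map_inv]
    show (θ x)⁻¹ * (θ * a) x ∈ disp a
    rw [hA a ha]
    exact disp_mem a (θ x)
  -- no common fixed point forces equality
  have key : ∀ a ∈ A, ∀ b ∈ A, a ≠ 1 → b ≠ 1 → (∀ w ∈ disp a, b w = w → w = 1) → a = b := by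
    intro a ha b hb ha1 hb1 hfix
    have hbw : ∀ w ∈ disp a, b w = w⁻¹ := by
      intro w hw
      refine eq_inv_of_mul_eq_one_right (hfix _ (mul_mem hw ?_) (by rw [map_mul, happ b hb, mul_comm]))
      suffices h : disp a ≤ (disp a).comap b.toMonoidHom from h hw
      rw [disp, closure_le]
      rintro _ ⟨x, rfl⟩
      show b (x⁻¹ * a x) ∈ disp a
      rw [map_mul, map_inv, ← hinvA a ha b hb]
      exact disp_mem a (b x)
    have hle : disp a ≤ disp b := by
      intro w hw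
      have h1 := disp_mem b w
      rw [hbw w hw] at h1
      have h2 : w ^ 2 ∈ disp b := by
        have := inv_mem h1
        rwa [← mul_inv_rev, inv_inv, ← pow_two] at this
      obtain ⟨t, -, ht⟩ := Nat.exists_mul_mod_eq_one_of_coprime hq2'.symm hq.one_lt
      have h3 := pow_mem h2 t
      rwa [← pow_mul, pow_eq_pow_mod _ (hE w), ht, pow_one] at h3
    have heq : disp a = disp b := Subgroup.eq_of_le_of_card_ge hle (by rw [hcard a ha ha1, hcard b hb hb1])
    refine MulEquiv.ext fun x => ?_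
    have hd : x⁻¹ * (a * b) x ∈ disp a := by
      rw [MulAut.mul_apply, show x⁻¹ * a (b x) = (x⁻¹ * b x) * ((b x)⁻¹ * a (b x)) by group]
      exact mul_mem (heq ▸ disp_mem b x) (disp_mem a _)
    obtain ⟨j, hj⟩ := IsPGroup.iff_card.mp (fun e : E => ⟨1, by rw [pow_one, hE]⟩ : IsPGroup q E)
    have h1 := H1.Gross.eq_of_disp_fixed (a * b) (k := 2) (hsq _ (mul_mem ha hb))
      (hj ▸ hq2'.symm.pow_right j) x (by
        show a (b _) = _
        rw [hbw _ hd, map_inv, hinv a ha _ hd, inv_inv])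
    rw [MulAut.mul_apply] at h1
    exact (congrArg a h1).symm.trans (happ a ha (b x))
  by_cases hfix : ∀ w ∈ disp a, b w = w → w = 1
  · exact key a ha b hb ha1 hb1 hfix
  -- otherwise it fixes all displacements
  push Not at hfix
  obtain ⟨w0, hw0, hbw0, hw01⟩ := hfix
  let θW : MulAut (disp a) := H28.subAut θ (disp a) (hdθ a ha)
  let U : Subgroup (disp a) :=
    { carrier := {w | b (w : E) = w}
      one_mem' := map_one b
      mul_mem' := fun {x y} hx hy => by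
        show b ((x : E) * y) = x * y
        rw [map_mul, hx, hy]
      inv_mem' := fun {x} hx => by
        show b ((x : E)⁻¹) = (x : E)⁻¹
        rw [map_inv, hx] }
  have hU : U = ⊤ := by
    refine (irreducible_of_card θW (r := r) (p := q) (k := k)
      (MulEquiv.ext fun w => Subtype.ext (by rw [H28.subAut_pow_coe, hθ]; rfl))
      (fun w hw => Subtype.ext (hfpf _ (congrArg Subtype.val hw))) hr2 (Or.inr ⟨hk, hq2⟩) (hcard a ha ha1) U
      (fun w hw => ?_)).resolve_left fun h => hw01 (congrArg Subtype.val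
        ((Subgroup.eq_bot_iff_forall _).mp h ⟨w0, hw0⟩ hbw0))
    show b (θ (w : E)) = θ (w : E)
    rw [← MulAut.mul_apply, ← hA b hb, MulAut.mul_apply]
    exact congrArg θ hw
  have hall : ∀ w ∈ disp a, b w = w := fun w hw => by
    have h : (⟨w, hw⟩ : disp a) ∈ U := by rw [hU]; exact mem_top _
    exact h
  by_contra hne
  have hab1 : a * b ≠ 1 := fun h => hne (mul_right_cancel (h.trans ((hsq b hb).symm.trans (pow_two b))))
  have h := key a ha (a * b) (mul_mem ha hb) ha1 hab1 fun w hw hfix' => by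
    rw [MulAut.mul_apply, hall w hw, hinv a ha w hw] at hfix'
    have h2 : w ^ 2 = 1 := by rw [pow_two]; exact mul_eq_one_iff_eq_inv.mpr hfix'.symm
    have := pow_gcd_eq_one.mpr ⟨hE w, h2⟩
    rwa [hq2', pow_one] at this
  exact hb1 (mul_eq_left.mp h.symm)

section

variable {Q : Type u} [Group Q] [Finite Q] {K : Type v} [Field K] [IsAlgClosed K]
  {V : Type w} [AddCommGroup V] [Module K V] [FiniteDimensional K V]
  {q : ℕ} [Fact q.Prime] (hQ : IsPGroup q Q) (hcls : ∀ a b : Q, com a b ∈ center Q)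
  (hpow : ∀ a : Q, a ^ q ∈ center Q) {r : ℕ} [Fact r.Prime] (hqr : q ≠ r) (θ : MulAut Q) (hθ : θ ^ r = 1)
  (htop : disp θ = ⊤) (hrK : (r : K) ≠ 0) (hqK : (q : K) ≠ 0) (ρ : Q →* Module.End K V)
  (hρ : Function.Injective ρ) (S : Module.End K V) (hS : S ^ r = 1) (hcomp : ∀ a, S * ρ a = ρ (θ a) * S)

include hQ hcls hpow hqr hθ htop hrK hqK hρ hS hcomp in
/-- Automorphisms trivial on the fixed vectors force a moved fixed vector for a centralising element. -/
theorem dichotomy {l : ℕ} [Fact l.Prime] (hlq : l ≠ q) (hlr : l ≠ r)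
    (U : Subgroup (MulAut Q)) (hUl : IsPGroup l U) (hUθ : ∀ g ∈ U, θ * g = g * θ)
    (hUZ : (∀ a b : Q, a * b = b * a) ∨ ∀ g ∈ U, ∀ z ∈ center Q, g z = z)
    (hops : ∀ g ∈ U, ∃ e' : ℕ, ∃ G : Module.End K V, g ^ l ^ e' = 1 ∧ G ^ l ^ e' = 1 ∧ G * S = S * G ∧
      (∀ a, G * ρ a = ρ (g a) * G) ∧ ∀ v, S v = v → G v = v)
    (U2 : Subgroup (MulAut Q)) (hU2θ : ∀ u ∈ U2, θ * u = u * θ) (hU2n : ∀ u ∈ U2, ∀ g ∈ U, u * g * u⁻¹ ∈ U)
    (hUgen : U ≤ closure {x | ∃ u ∈ U2, ∃ g ∈ U, x = com u g}) (hUne : ∃ g ∈ U, g ≠ 1) :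
    ∃ u ∈ U2, ∃ z0 ∈ center Q, θ z0 = z0 ∧ ∃ w : V, S w = w ∧ ρ (z0⁻¹ * u z0) w ≠ w := by
  classical
  have hr : r.Prime := Fact.out
  have hq : q.Prime := Fact.out
  obtain ⟨jQ, hjQ⟩ := IsPGroup.iff_card.mp hQ
  by_cases hab : ∀ a b : Q, a * b = b * a
  · exfalso
    obtain ⟨g, hg, hg1⟩ := hUne
    apply hg1
    refine MulEquiv.ext fun a => ?_
    obtain ⟨e, G, hge, -, hSG, hgρ, hGfix⟩ := hops g hg
    by_contra hne
    obtain ⟨v, hv, χ, hχ, hχne⟩ := exists_eigen_ne hQ hqK ρ (fun a b => by rw [← map_mul, ← map_mul, hab])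
      (a⁻¹ * g a) (fun h => hne (inv_mul_eq_one.mp (hρ (h.trans (map_one ρ).symm))).symm)
    obtain ⟨h1, hm⟩ := eigen_mul ρ hv hχ
    refine hχne ?_
    rw [hm, char_fixed_of_fix θ hθ htop hqK ρ S hlr hS hcomp g hge (hUθ g hg) G hSG hgρ hGfix hv χ hχ, ← hm,
      inv_mul_cancel, h1]
  replace hUZ := hUZ.resolve_left hab
  -- a character of the centre on which some element is seen
  obtain ⟨ψ, hψ, ⟨v, hvb, hv⟩, g0, hg0, hg0ne⟩ : ∃ ψ : Q → K, ∃ hψ : IsCentralChar ψ,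
      (∃ v ∈ block ρ ψ, v ≠ 0) ∧ ∃ g, ∃ hg : g ∈ U,
        radAut hψ hcls g (fun z hz => by rw [hUZ g hg z hz]) ≠ 1 := by
    obtain ⟨g, hg, hg1⟩ := hUne
    by_contra hno
    apply hg1
    refine MulEquiv.ext fun a => ?_
    obtain ⟨e, G, hge, -⟩ := hops g hg
    refine H1.Gross.eq_of_disp_fixed g hge (hjQ ▸ ((Nat.coprime_primes Fact.out hq).mpr hlq).pow e jQ) a
      (hUZ g hg _ (mem_center_iff.mpr fun y => ?_))
    by_contra hy
    have hcne : com (a⁻¹ * g a) y ≠ 1 := fun h => hy (by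
      rw [com, mul_inv_eq_one, mul_inv_eq_iff_eq_mul] at h; exact h.symm)
    let ρZ : center Q →* Module.End K V := ρ.comp (center Q).subtype
    obtain ⟨v, hv, χ, hχ, hχne⟩ := exists_eigen_ne (hQ.to_subgroup (center Q)) hqK ρZ
      (fun x y => by
        show ρ (x : Q) * ρ y = ρ y * ρ x
        rw [← map_mul, ← map_mul, (mem_center_iff.mp x.2 y).symm]) ⟨_, hcls (a⁻¹ * g a) y⟩
      (fun h => hcne (hρ (h.trans (map_one ρ).symm)))
    obtain ⟨hχ1, hχm⟩ := eigen_mul ρZ hv hχ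
    let ψ : Q → K := fun x => if h : x ∈ center Q then χ ⟨x, h⟩ else 1
    have hψc : ∀ (x : Q) (h : x ∈ center Q), ψ x = χ ⟨x, h⟩ := fun x h => dif_pos h
    have hψ : IsCentralChar ψ := ⟨(hψc 1 (one_mem _)).trans hχ1, fun x hx y hy => by
      rw [hψc _ (mul_mem hx hy), hψc x hx, hψc y hy]; exact hχm ⟨x, hx⟩ ⟨y, hy⟩⟩
    refine hno ⟨ψ, hψ, ⟨v, fun z hz => by rw [hψc z hz]; exact hχ ⟨z, hz⟩, hv⟩, g, hg, fun h => hχne ?_⟩
    have h2 := congrArg (fun f : MulAut (Q ⧸ rad hψ hcls) => f (QuotientGroup.mk a)) h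
    have h3 : a⁻¹ * g a ∈ rad hψ hcls := QuotientGroup.eq.mp h2.symm
    exact (hψc _ (hcls _ _)).symm.trans (h3 y)
  have hψU : ∀ g ∈ U, ∀ z ∈ center Q, ψ (g z) = ψ z := fun g hg z hz => by rw [hUZ g hg z hz]
  have hblock : block ρ ψ ≠ ⊥ := (Submodule.ne_bot_iff _).mpr ⟨v, hvb, hv⟩
  have hψθ : ∀ z ∈ center Q, ψ (θ z) = ψ z := by
    by_contra hψθ
    push Not at hψθ
    obtain ⟨e, G, -, -, hSG, hgρ, hGfix⟩ := hops g0 hg0
    apply hg0ne
    refine MulEquiv.ext fun y => ?_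
    obtain ⟨a, rfl⟩ := QuotientGroup.mk_surjective y
    exact (QuotientGroup.eq.mpr (moved_block_trivial hcls θ hθ ρ S hcomp g0 (hUZ g0 hg0) G hSG hgρ hS hGfix hψ hv
      hvb hψθ a)).symm
  set θE := radAut hψ hcls θ hψθ with hθE
  have hfpfθ : ∀ x, θE x = x → x = 1 := fun x hx => fixed_disp_eq_one (radQuot_pow hψ hcls hpow)
    ((Nat.coprime_primes hq hr).mpr hqr) θE (radAut_pow hψ hcls θ hψθ hθ)
    ((disp_radAut_top hψ hcls θ hψθ htop).symm ▸ mem_top x) hx
  let φ := radRes hψ hcls U hUZ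
  have hφ : ∀ g : U, φ g = radAut hψ hcls (g : MulAut Q) (hψU g g.2) := fun g => MulEquiv.ext fun y => by
    obtain ⟨a, rfl⟩ := QuotientGroup.mk_surjective y
    rfl
  have hgauge : ∀ g : U, φ g ≠ 1 → l = 2 ∧ φ g ^ 2 = 1 ∧ r ≠ 2 ∧ q ≠ 2 ∧
      ∃ k, q ^ k + 1 = 2 * r ∧ Nat.card (disp (φ g)) = q ^ (2 * k) := by
    intro g hne
    obtain ⟨e, G, hge, hGe, hSG, hgρ, hGfix⟩ := hops g g.2
    rw [hφ] at hne ⊢
    exact gauge hQ hcls hpow hqr θ hθ htop hrK ρ S hS hcomp hlq hlr hψ hψθ hblock g hge (hUθ g g.2)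
      (hUZ g g.2) G hGe hSG hgρ hGfix hne
  have hg0φ : φ ⟨g0, hg0⟩ ≠ 1 := by rw [hφ]; exact hg0ne
  obtain ⟨-, -, hr2, hq2, k, hk, -⟩ := hgauge _ hg0φ
  have hone : ∀ g : U, φ g ≠ 1 → φ g = φ ⟨g0, hg0⟩ := by
    intro g hg
    refine involution_unique (radQuot_pow hψ hcls hpow) hq2 hqr hr2 hk θE (radAut_pow hψ hcls θ hψθ hθ) hfpfθ
      φ.range ?_ ?_ ?_ ⟨g, rfl⟩ ⟨_, rfl⟩ hg hg0φ
    · rintro _ ⟨g, rfl⟩
      rw [hφ]
      exact MulEquiv.ext fun y => by
        obtain ⟨a, rfl⟩ := QuotientGroup.mk_surjective y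
        exact congrArg QuotientGroup.mk (congrArg (fun f : MulAut Q => f a) (hUθ g g.2))
    · rintro _ ⟨g, rfl⟩
      by_cases h : φ g = 1
      · rw [h, one_pow]
      · exact (hgauge g h).2.1
    · rintro _ ⟨g, rfl⟩ h
      obtain ⟨-, -, -, -, k', hk', hc⟩ := hgauge g h
      rw [hc, show k' = k from Nat.pow_right_injective hq.two_le (Nat.add_right_cancel (hk'.trans hk.symm))]
  -- some centralising element moves the character
  obtain ⟨u, hu, z1, hz1, hzne⟩ : ∃ u ∈ U2, ∃ z ∈ center Q, ψ (u z) ≠ ψ z := by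
    by_contra hno
    push Not at hno
    apply hg0φ
    have hle : U ≤ φ.ker.map U.subtype := by
      refine hUgen.trans ((closure_le _).mpr ?_)
      rintro _ ⟨u, hu, g, hg, rfl⟩
      have hcU : com u g ∈ U := mul_mem (hU2n u hu g hg) (inv_mem hg)
      refine ⟨⟨com u g, hcU⟩, ?_, rfl⟩
      have hsplit : (⟨com u g, hcU⟩ : U) = ⟨u * g * u⁻¹, hU2n u hu g hg⟩ * (⟨g, hg⟩ : U)⁻¹ := rfl
      rw [SetLike.mem_coe, MonoidHom.mem_ker, hsplit, map_mul, map_inv, mul_inv_eq_one]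
      set uE := radAut hψ hcls u (hno u hu) with huE
      have hc : φ ⟨u * g * u⁻¹, hU2n u hu g hg⟩ * uE = uE * φ ⟨g, hg⟩ := by
        rw [hφ, hφ]
        refine MulEquiv.ext fun y => ?_
        obtain ⟨a, rfl⟩ := QuotientGroup.mk_surjective y
        refine congrArg QuotientGroup.mk ?_
        show ((u * g * u⁻¹) * u) a = (u * g) a
        rw [inv_mul_cancel_right]
      by_cases h1 : φ ⟨g, hg⟩ = 1
      · rw [h1, mul_one] at hc
        rw [h1]
        exact mul_eq_right.mp hc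
      · rw [hone _ h1]
        refine hone _ fun h2 => h1 ?_
        rw [h2, one_mul] at hc
        exact mul_eq_left.mp hc.symm
    obtain ⟨g', hg', hg'e⟩ := hle hg0
    rw [show g' = ⟨g0, hg0⟩ from Subtype.ext hg'e] at hg'
    exact hg'
  -- a fixed central element moving the character
  letI : CommGroup (center Q) := { (inferInstance : Group (center Q)) with
    mul_comm := fun x y => Subtype.ext (mem_center_iff.mp y.2 x) }
  let θZ : MulAut (center Q) := H28.subAut θ (center Q) fun _ h => apply_center_mem θ h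
  have hθZ : θZ ^ r = 1 := MulEquiv.ext fun x => Subtype.ext (by rw [H28.subAut_pow_coe, hθ]; rfl)
  let z0 : center Q := orbitProd θZ r ⟨z1, hz1⟩
  have hz0 : θ (z0 : Q) = z0 := congrArg Subtype.val (apply_orbitProd θZ hθZ ⟨z1, hz1⟩)
  let ψZ : center Q →* K :=
    { toFun := fun x => ψ x, map_one' := hψ.one, map_mul' := fun x y => hψ.mul _ x.2 _ y.2 }
  let uZ : MulAut (center Q) := H28.subAut u (center Q) fun x hx => apply_center_mem u hx
  have hψz0 : ψ (z0 : Q) = ψ z1 ^ r := by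
    show ψZ z0 = _
    rw [show z0 = ∏ i ∈ Finset.range r, (θZ ^ i) ⟨z1, hz1⟩ from rfl, map_prod]
    refine (Finset.prod_eq_pow_card fun i hi => ?_).trans (by rw [Finset.card_range])
    clear hi
    show ψ (((θZ ^ i) ⟨z1, hz1⟩ : center Q) : Q) = ψ z1
    rw [H28.subAut_pow_coe]
    induction i with
    | zero => rfl
    | succ i ih =>
      rw [pow_succ', MulAut.mul_apply, hψθ _ (by
        have := ((θZ ^ i) ⟨z1, hz1⟩).2
        rwa [H28.subAut_pow_coe] at this), ih]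
  have hcomm : ∀ (i : ℕ) (x : Q), u ((θ ^ i) x) = (θ ^ i) (u x) := fun i x => by
    rw [← MulAut.mul_apply, ← ((show Commute θ u from hU2θ u hu).pow_left i).eq, MulAut.mul_apply]
  have hψuz0 : ψ (u (z0 : Q)) = ψ (u z1) ^ r := by
    show (ψZ.comp uZ.toMonoidHom) z0 = _
    rw [show z0 = ∏ i ∈ Finset.range r, (θZ ^ i) ⟨z1, hz1⟩ from rfl, map_prod]
    refine (Finset.prod_eq_pow_card fun i hi => ?_).trans (by rw [Finset.card_range])
    clear hi
    show ψ (u (((θZ ^ i) ⟨z1, hz1⟩ : center Q) : Q)) = ψ (u z1)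
    rw [H28.subAut_pow_coe, hcomm]
    induction i with
    | zero => rfl
    | succ i ih =>
      rw [pow_succ', MulAut.mul_apply, hψθ _ (by
        rw [← hcomm]
        refine apply_center_mem u ?_
        have := ((θZ ^ i) ⟨z1, hz1⟩).2
        rwa [H28.subAut_pow_coe] at this), ih]
  have hzne0 : ψ (u (z0 : Q)) ≠ ψ (z0 : Q) := by
    rw [hψz0, hψuz0]
    intro h
    apply hzne
    have huz : u z1 ∈ center Q := apply_center_mem u hz1
    have hroot : ∀ (x : Q) (hx : x ∈ center Q), ψ x ^ q ^ jQ = 1 := fun x hx => by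
      show ψZ ⟨x, hx⟩ ^ q ^ jQ = 1
      rw [← map_pow, ← hjQ, show (⟨x, hx⟩ : center Q) ^ Nat.card Q = 1 from
        Subtype.ext (by simp [pow_card_eq_one']), map_one]
    have h1 : (ψ (u z1) / ψ z1) ^ r = 1 := by
      rw [div_pow, h, div_self (pow_ne_zero _ (hψ.ne_zero hz1))]
    have h2 : (ψ (u z1) / ψ z1) ^ q ^ jQ = 1 := by rw [div_pow, hroot _ huz, hroot _ hz1, div_one]
    have h3 := pow_gcd_eq_one.mpr ⟨h1, h2⟩
    rw [((Nat.coprime_primes hr hq).mpr (Ne.symm hqr)).pow_right jQ, pow_one] at h3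
    exact (div_eq_one_iff_eq (hψ.ne_zero hz1)).mp h3
  obtain ⟨w, hwb, hw0, hSw⟩ : ∃ w ∈ block ρ ψ, w ≠ 0 ∧ S w = w := by
    by_contra hw
    push Not at hw
    refine hq2 (exceptional_disp hQ hcls hpow hqr θ hθ hrK ρ S hS hcomp hψ hψθ (block ρ ψ) hblock
      (fun w hw => block_S_mem θ ρ ψ S hcomp hψθ hw) (fun x _ w hw => block_apply_mem ρ ψ x hw) le_rfl
      (fun w hwb hSw => by_contra fun h => hw w hwb h hSw) fun hle => hg0ne (MulEquiv.ext fun y => ?_)).1
    obtain ⟨a, rfl⟩ := QuotientGroup.mk_surjective y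
    exact (QuotientGroup.eq.mpr ((htop ▸ hle) (mem_top _))).symm
  refine ⟨u, hu, z0, z0.2, hz0, w, hSw, fun h => hzne0 ?_⟩
  have h1 := congrArg (ρ (z0 : Q)) h
  rw [← Module.End.mul_apply, ← map_mul, mul_inv_cancel_left, hwb _ z0.2,
    hwb _ (apply_center_mem u z0.2)] at h1
  exact smul_left_injective K hw0 h1

end

end H1.Turull
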