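import Cfsg.Agent.H1.Turull.StepAbelian

/-!
An automorphism normalising a group of operators and fixing every moved character on the fixed points fixes
the fixed points.
-/

set_option autoImplicit false
set_option linter.style.haveILetI false
set_option linter.unusedSectionVars false

namespace H1.Turull

open Module Subgroup
open H1.Shult
open Cfsg.Agent.H29 (eigProj sum_eigProj mul_eigProj)

universe u v w

/-- A linear map vanishing on the common eigenvectors of an invariant space vanishes on it. -/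
theorem eq_zero_on_of_eigen {A : Type u} [Group A] [Finite A] {K : Type v} [Field K] [IsAlgClosed K]
    {V : Type w} [AddCommGroup V] [Module K V] [FiniteDimensional K V] (ρ : A →* Module.End K V)
    (hcomm : ∀ a b, ρ a * ρ b = ρ b * ρ a) (hA : (Nat.card A : K) ≠ 0) (L : Module.End K V) :
    ∀ (d : ℕ) (U : Submodule K V), Module.finrank K U ≤ d → (∀ a, ∀ v ∈ U, ρ a v ∈ U) →
      (∀ y ∈ U, (∀ a, ∃ k : K, ρ a y = k • y) → L y = 0) → ∀ v ∈ U, L v = 0 := by
  intro d
  induction d with
  | zero =>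
    intro U hU _ _ v hv
    rw [(Submodule.finrank_eq_zero (S := U)).mp (Nat.le_zero.mp hU), Submodule.mem_bot] at hv
    rw [hv, map_zero]
  | succ d ih =>
    intro U hU hinv heig v hv
    by_cases hall : ∀ a, ∃ k : K, ∀ x ∈ U, ρ a x = k • x
    · refine heig v hv fun a => ?_
      obtain ⟨k, hk⟩ := hall a
      exact ⟨k, hk v hv⟩
    push Not at hall
    obtain ⟨a, ha⟩ := hall
    have ho : (orderOf a : K) ≠ 0 := fun h => hA (by
      obtain ⟨c, hc⟩ := orderOf_dvd_natCard a
      rw [hc, Nat.cast_mul, h, zero_mul])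
    haveI : NeZero (orderOf a : K) := ⟨ho⟩
    obtain ⟨ζ, hζ⟩ := HasEnoughRootsOfUnity.exists_primitiveRoot K (orderOf a)
    have hpow : ∀ i : ℕ, ∀ x ∈ U, (ρ a ^ i) x ∈ U := by
      intro i
      induction i with
      | zero => intro x hx; exact hx
      | succ i ih' => intro x hx; rw [pow_succ', Module.End.mul_apply]; exact hinv a _ (ih' x hx)
    have hmem : ∀ i, eigProj (ρ a) (orderOf a) ζ i v ∈ U := by
      intro i
      unfold eigProj
      rw [LinearMap.smul_apply, LinearMap.sum_apply]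
      exact U.smul_mem _ (U.sum_mem fun k _ => U.smul_mem _ (hpow k v hv))
    rw [show v = ∑ i, eigProj (ρ a) (orderOf a) ζ i v by
      rw [← LinearMap.sum_apply, sum_eigProj _ hζ ho]; rfl, map_sum]
    refine Finset.sum_eq_zero fun i _ => ?_
    let U' : Submodule K V := U ⊓ LinearMap.ker (ρ a - ζ ^ (i : ℕ) • (1 : Module.End K V))
    have hmem' : ∀ x, x ∈ U' ↔ x ∈ U ∧ ρ a x = ζ ^ (i : ℕ) • x := fun x => by simp [U', sub_eq_zero]
    have hlt : U' < U := lt_of_le_of_ne inf_le_left fun h => by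
      obtain ⟨x, hx, hne⟩ := ha (ζ ^ (i : ℕ))
      exact hne ((hmem' x).mp (h.ge hx)).2
    refine ih U' (Nat.lt_succ_iff.mp (lt_of_lt_of_le (Submodule.finrank_lt_finrank_of_lt hlt) hU)) (fun b x hx => ?_)
      (fun y hy h => heig y hy.1 h) _ ((hmem' _).mpr ⟨hmem i, ?_⟩)
    · rw [hmem'] at hx ⊢
      refine ⟨hinv b x hx.1, ?_⟩
      rw [← Module.End.mul_apply, hcomm, Module.End.mul_apply, hx.2, map_smul]
    · exact congrArg (fun f : Module.End K V => f v)
        (mul_eigProj _ hζ ho (by rw [← map_pow, pow_orderOf_eq_one, map_one]) i)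

/-- The action on the additive functionals. -/
def funRep (Q : Type u) [CommGroup Q] (K' : Type v) [Field K'] :
    MulAut Q →* Module.End K' (Additive Q →+ K') where
  toFun g :=
    { toFun := fun v => v.comp (MonoidHom.toAdditive (g⁻¹ : MulAut Q).toMonoidHom)
      map_add' := fun _ _ => rfl
      map_smul' := fun _ _ => rfl }
  map_one' := LinearMap.ext fun v => AddMonoidHom.ext fun x => congrArg v (by simp)
  map_mul' g g' := LinearMap.ext fun v => AddMonoidHom.ext fun x => congrArg v (by simp)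

theorem funRep_apply {Q : Type u} [CommGroup Q] {K' : Type v} [Field K'] (g : MulAut Q)
    (v : Additive Q →+ K') (x : Q) :
    funRep Q K' g v (Additive.ofMul x) = v (Additive.ofMul ((g⁻¹ : MulAut Q) x)) := rfl

/-- Discrete logarithms of roots of unity. -/
theorem exists_log {K : Type v} [Field K] {K' : Type w} [Field K'] {q : ℕ} [Fact q.Prime] [CharP K' q]
    {ζ : K} (hζ : IsPrimitiveRoot ζ q) :
    ∃ lg : K → K', (∀ a b, a ^ q = 1 → b ^ q = 1 → lg (a * b) = lg a + lg b) ∧
      ∀ a, a ^ q = 1 → lg a = 0 → a = 1 := by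
  classical
  haveI : NeZero q := ⟨(Fact.out : q.Prime).ne_zero⟩
  let idx : K → ℕ := fun a => if h : ∃ k < q, ζ ^ k = a then h.choose else 0
  have hidx : ∀ a, a ^ q = 1 → idx a < q ∧ ζ ^ idx a = a := fun a ha => by
    have h : ∃ k < q, ζ ^ k = a := hζ.eq_pow_of_pow_eq_one ha
    simp only [idx, dif_pos h]
    exact h.choose_spec
  refine ⟨fun a => (idx a : K'), fun a b ha hb => ?_, fun a ha h => ?_⟩
  · have hab : (a * b) ^ q = 1 := by rw [mul_pow, ha, hb, one_mul]
    obtain ⟨h1, h2⟩ := hidx _ hab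
    have h3 : idx (a * b) = (idx a + idx b) % q := hζ.pow_inj h1 (Nat.mod_lt _ (NeZero.pos q)) (by
      rw [h2, ← pow_eq_pow_mod _ hζ.pow_eq_one, pow_add, (hidx a ha).2, (hidx b hb).2])
    show (idx (a * b) : K') = (idx a : K') + (idx b : K')
    rw [h3, CharP.cast_eq_mod K' q ((idx a + idx b) % q), Nat.mod_mod, ← CharP.cast_eq_mod, Nat.cast_add]
  · obtain ⟨h1, h2⟩ := hidx a ha
    have h3 : idx a = 0 := Nat.eq_zero_of_dvd_of_lt ((CharP.cast_eq_zero_iff K' q _).mp h) h1
    rw [← h2, h3, pow_zero]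

/-- An automorphism fixing the moved characters on the fixed points fixes the fixed points. -/
theorem fixed_of_moved_chars {Q : Type u} [CommGroup Q] [Finite Q] {q : ℕ} [Fact q.Prime]
    (hexp : ∀ x : Q, x ^ q = 1) {p : ℕ} [Fact p.Prime] {r : ℕ} [Fact r.Prime] (hqr : q ≠ r) (hpq : p ≠ q)
    (hpr : p ≠ r) (θ : MulAut Q) (hθ : θ ^ r = 1) (R : Subgroup (MulAut Q)) (hR : IsPGroup p R)
    (hRθ : ∀ t ∈ R, θ * t * θ⁻¹ ∈ R) (hRT : R ≤ rdisp θ R)
    (hgenQ : closure {x : Q | ∃ a, ∃ t ∈ R, x = a⁻¹ * t a} = ⊤)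
    (Cc : Subgroup (MulAut Q)) (hCR : Cc ≤ R) (hCcen : ∀ c ∈ Cc, ∀ t ∈ R, c * t = t * c)
    (hCθ : ∀ c ∈ Cc, θ * c * θ⁻¹ ∈ Cc) (hCcls : ∀ a ∈ R, ∀ b ∈ R, com a b ∈ Cc)
    (hCfix : ∀ t ∈ R, θ * t * θ⁻¹ = t → t ∈ Cc)
    (g : MulAut Q) (hgθ : θ * g = g * θ) {n : ℕ} (hn0 : 0 < n) (hn : g ^ n = 1) (hnp : n.Coprime p)
    (hgR : ∀ t ∈ R, g * t * g⁻¹ ∈ R) (hgC : ∀ c ∈ Cc, g * c = c * g)
    {K : Type v} [Field K] [IsAlgClosed K] (hqK : (q : K) ≠ 0) (Ω : Set (Q →* K))
    (hΩR : ∀ o ∈ Ω, ∀ t ∈ R, o.comp t.toMonoidHom ∈ Ω) (hsep : ∀ x, (∀ o ∈ Ω, o x = 1) → x = 1)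
    (hmov : ∀ o ∈ Ω, o.comp θ.toMonoidHom ≠ o → ∀ d, θ d = d → o (g d) = o d) {d : Q} (hd : θ d = d) :
    g d = d := by
  classical
  have hr : r.Prime := Fact.out
  have hq : q.Prime := Fact.out
  haveI : Finite (MulAut Q) := Finite.of_injective (fun g : MulAut Q => (g : Q → Q)) DFunLike.coe_injective
  have hQ : IsPGroup q Q := fun x => ⟨1, by rw [pow_one, hexp]⟩
  have hginv : θ * g⁻¹ = g⁻¹ * θ := (show Commute θ g from hgθ).inv_right.eq
  rw [← div_eq_one]
  refine hsep _ fun o ho => ?_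
  rw [map_div]
  have hne : ∀ (o : Q →* K) x, o x ≠ 0 := fun o x h => by
    have := o.map_mul x x⁻¹
    rw [mul_inv_cancel, map_one, h, zero_mul] at this
    exact one_ne_zero this
  suffices h : ∀ c, θ c = c → o ((g⁻¹ : MulAut Q) c) = o c by
    have h1 := h (g d) (by rw [← MulAut.mul_apply, hgθ, MulAut.mul_apply, hd])
    rw [MulAut.inv_apply_self] at h1
    rw [← h1, div_self (hne o d)]
  have hmov' : ∀ o ∈ Ω, o.comp θ.toMonoidHom ≠ o → ∀ c, θ c = c → o ((g⁻¹ : MulAut Q) c) = o c := by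
    intro o ho hof c hc
    have h1 := hmov o ho hof ((g⁻¹ : MulAut Q) c) (by rw [← MulAut.mul_apply, hginv, MulAut.mul_apply, hc])
    rw [MulAut.apply_inv_self] at h1
    exact h1.symm
  by_cases hof : o.comp θ.toMonoidHom = o
  swap
  · exact hmov' o ho hof
  intro c0 hc0
  -- the functionals
  set K' := AlgebraicClosure (ZMod q)
  haveI : CharP K' q := charP_of_injective_algebraMap (algebraMap (ZMod q) K').injective q
  haveI : NeZero (q : K) := ⟨hqK⟩
  obtain ⟨ζ, hζ⟩ := HasEnoughRootsOfUnity.exists_primitiveRoot K q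
  obtain ⟨lg, hlg, hlg1⟩ := exists_log (K' := K') hζ
  have hroot : ∀ (o : Q →* K) x, o x ^ q = 1 := fun o x => by rw [← map_pow, hexp, map_one]
  let L : (Q →* K) → (Additive Q →+ K') := fun o =>
    AddMonoidHom.mk' (fun x => lg (o x.toMul)) fun x y => by
      rw [toMul_add, map_mul, hlg _ _ (hroot o _) (hroot o _)]
  have hLapp : ∀ (o : Q →* K) (x : Q), L o (Additive.ofMul x) = lg (o x) := fun o x => rfl
  let V := Additive Q →+ K'
  haveI : FiniteDimensional K' V := by
    let ι : V →ₗ[K'] (Additive Q → K') :=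
      { toFun := fun v => v, map_add' := fun _ _ => rfl, map_smul' := fun _ _ => rfl }
    exact FiniteDimensional.of_injective ι DFunLike.coe_injective
  set act := funRep Q K' with hact
  have hLact : ∀ (o : Q →* K) (t : MulAut Q), act t (L o) = L (o.comp (t⁻¹ : MulAut Q).toMonoidHom) :=
    fun o t => AddMonoidHom.ext fun x => rfl
  set S : Module.End K' V := act θ with hS
  set G : Module.End K' V := act g with hG
  -- the central displacements fix the difference
  set Z0 := rdisp θ Cc with hZ0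
  have hZ0C : Z0 ≤ Cc := rdisp_le hCθ
  have hrC : ∀ A ≤ R, ¬ r ∣ Nat.card A := fun A hA => not_dvd_card (hR.to_le hA) hpr
  let f : Q →* Q :=
    { toFun := fun x => (g⁻¹ : MulAut Q) x / x
      map_one' := by rw [map_one, div_one]
      map_mul' := fun x y => by rw [map_mul, mul_div_mul_comm] }
  have hfapp : ∀ x, f x = (g⁻¹ : MulAut Q) x / x := fun x => rfl
  have hZfix := eigen_fixed_char θ hθ (not_dvd_card hQ hqr) Z0 (fun a ha => rdisp_conj hCθ ha)
    (hrC Z0 (hZ0C.trans hCR)) (fun a ha _ a' ha' => hCcen a (hZ0C ha) a' (hCR (hZ0C ha')))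
    (rdisp_gen hθ hCθ (hrC Cc hCR)) f
    (fun x => by rw [hfapp, hfapp, map_div, ← MulAut.mul_apply, ← hginv, MulAut.mul_apply])
    (fun a ha x => by
      rw [hfapp, hfapp, map_div, ← MulAut.mul_apply, (show Commute g a from hgC a (hZ0C ha)).inv_left.eq,
        MulAut.mul_apply])
    Ω (fun o ho a ha => hΩR o ho a (hCR (hZ0C ha)))
    (fun o ho hof c hc => by rw [hfapp, map_div, hmov' o ho hof c hc, div_self (hne o c)]) o ho hof
  set x0 : V := (G - 1) (L o) with hx0
  have hx0app : ∀ x : Q, x0 (Additive.ofMul x) = lg (o (f x)) := by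
    intro x
    have h1 : lg (o (f x)) + lg (o x) = lg (o ((g⁻¹ : MulAut Q) x)) := by
      rw [← hlg _ _ (hroot o _) (hroot o _), ← map_mul, hfapp, div_mul_cancel]
    rw [hx0, LinearMap.sub_apply, AddMonoidHom.sub_apply, Module.End.one_apply, hLapp, sub_eq_iff_eq_add]
    exact h1.symm
  suffices hx00 : x0 = 0 by
    have h1 := hlg1 _ (hroot o (f c0)) ((hx0app c0).symm.trans (congrArg (fun v : V => v (Additive.ofMul c0)) hx00))
    rw [hfapp, map_div, div_eq_one_iff_eq (hne o c0)] at h1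
    exact h1
  -- the sum over the central displacements
  haveI : Fintype Z0 := Fintype.ofFinite _
  set o' : V := ∑ z : Z0, act (z : MulAut Q) (L o) with ho'
  have hx0fix : ∀ z : Z0, act (z : MulAut Q) x0 = x0 := by
    intro z
    refine AddMonoidHom.ext fun a => ?_
    obtain ⟨x, rfl⟩ := Additive.ofMul.surjective a
    rw [funRep_apply, hx0app, hx0app]
    exact congrArg lg (hZfix _ (inv_mem z.2) x)
  have hGcomm : ∀ c ∈ Cc, G * act c = act c * G := fun c hc => by rw [hG, ← map_mul, hgC c hc, map_mul]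
  have hGo' : (G - 1) o' = (Nat.card Z0 : K') • x0 := by
    rw [ho', map_sum, Finset.sum_congr rfl fun (z : Z0) _ => ?_, Finset.sum_const, Finset.card_univ,
      ← Nat.card_eq_fintype_card, ← Nat.cast_smul_eq_nsmul K']
    have hcz : (G - 1) (act (z : MulAut Q) (L o)) = act (z : MulAut Q) ((G - 1) (L o)) := by
      rw [LinearMap.sub_apply, LinearMap.sub_apply, map_sub, Module.End.one_apply, Module.End.one_apply,
        ← Module.End.mul_apply, hGcomm _ (hZ0C z.2), Module.End.mul_apply]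
    rw [hcz, ← hx0]
    exact hx0fix z
  suffices hGo : (G - 1) o' = 0 by
    rw [hGo] at hGo'
    refine (smul_eq_zero.mp hGo'.symm).resolve_left ?_
    obtain ⟨j, hj⟩ := IsPGroup.iff_card.mp (hR.to_le (hZ0C.trans hCR))
    rw [hj, Nat.cast_pow]
    refine pow_ne_zero _ fun h => hpq ?_
    exact ((Nat.prime_dvd_prime_iff_eq hq Fact.out).mp ((CharP.cast_eq_zero_iff K' q p).mp h)).symm
  -- the group of operators
  let θR : MulAut R := H28.subAut (MulAut.conj θ) R hRθ
  have hθR : θR ^ r = 1 := MulEquiv.ext fun a => Subtype.ext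
    ((H28.subAut_pow_coe _ _ _ _ _).trans (by rw [← map_pow, hθ, map_one]; rfl))
  let γ : MulAut R := H28.subAut (MulAut.conj g) R hgR
  let ρ : R →* Module.End K' V := act.comp R.subtype
  have hSρ : ∀ a, S * ρ a = ρ (θR a) * S := fun a => by
    show act θ * act (a : MulAut Q) = act (θ * (a : MulAut Q) * θ⁻¹) * act θ
    rw [← map_mul, ← map_mul, inv_mul_cancel_right]
  have hGρ : ∀ a, G * ρ a = ρ (γ a) * G := fun a => by
    show act g * act (a : MulAut Q) = act (g * (a : MulAut Q) * g⁻¹) * act g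
    rw [← map_mul, ← map_mul, inv_mul_cancel_right]
  let To : Subgroup R :=
    { carrier := {s | ρ s (L o) = L o}
      one_mem' := by simp
      mul_mem' := fun {a b} ha hb => by
        show ρ (a * b) (L o) = L o
        rw [map_mul, Module.End.mul_apply, hb, ha]
      inv_mem' := fun {a} ha => by
        show ρ a⁻¹ (L o) = L o
        conv_lhs => rw [← (show ρ a (L o) = L o from ha)]
        rw [← Module.End.mul_apply, ← map_mul, inv_mul_cancel, map_one, Module.End.one_apply] }
  set CR := Cc.subgroupOf R with hCRdef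
  haveI hCRn : CR.Normal := ⟨fun c hc t => by
    have hc' : (c : MulAut Q) ∈ Cc := hc
    have h1 : (t : MulAut Q) * c * (t : MulAut Q)⁻¹ = c := by
      rw [← hCcen _ hc' t t.2, mul_inv_cancel_right]
    show ((t * c * t⁻¹ : R) : MulAut Q) ∈ Cc
    rw [Subgroup.coe_mul, Subgroup.coe_mul, Subgroup.coe_inv, h1]
    exact hc⟩
  set S0 := To ⊔ CR with hS0
  have hSL : S (L o) = L o := by
    rw [hS, hLact]
    refine congrArg L (MonoidHom.ext fun x => ?_)
    conv_rhs => rw [show x = θ ((θ⁻¹ : MulAut Q) x) from (MulAut.apply_inv_self _ _ _).symm]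
    exact (congrArg (fun φ : Q →* K => φ ((θ⁻¹ : MulAut Q) x)) hof).symm
  have hTθ : ∀ s ∈ To, θR s ∈ To := fun s hs => by
    show ρ (θR s) (L o) = L o
    conv_lhs => rw [← hSL]
    rw [← Module.End.mul_apply, ← hSρ, Module.End.mul_apply, show ρ s (L o) = L o from hs, hSL]
  have hS0θ : ∀ u ∈ S0, θR u ∈ S0 := by
    intro u hu
    obtain ⟨s, hs, c, hc, rfl⟩ := Subgroup.mem_sup_of_normal_right.mp hu
    rw [map_mul]
    exact mul_mem (Subgroup.mem_sup_left (hTθ s hs)) (Subgroup.mem_sup_right (hCθ _ hc))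
  have hrR : ¬ r ∣ Nat.card R := hrC R le_rfl
  -- outside the translates are moved
  have hout : ∀ b : R, b ∉ S0 → (G - 1) (tr S r (ρ b (L o))) = 0 := by
    intro b hb
    let ob : Q →* K := o.comp ((b : MulAut Q)⁻¹ : MulAut Q).toMonoidHom
    have hob : ρ b (L o) = L ob := hLact o b
    have hobmov : ob.comp θ.toMonoidHom ≠ ob := by
      intro heq
      apply hb
      have h1 : ρ (θR b) (L o) = ρ b (L o) := by
        conv_lhs => rw [← hSL]
        rw [← Module.End.mul_apply, ← hSρ, Module.End.mul_apply, hob, hS, hLact]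
        refine congrArg L (MonoidHom.ext fun x => ?_)
        conv_rhs => rw [show x = θ ((θ⁻¹ : MulAut Q) x) from (MulAut.apply_inv_self _ _ _).symm]
        exact (congrArg (fun φ : Q →* K => φ ((θ⁻¹ : MulAut Q) x)) heq).symm
      have h2 : b⁻¹ * θR b ∈ To := by
        show ρ (b⁻¹ * θR b) (L o) = L o
        rw [map_mul, Module.End.mul_apply, h1, ← Module.End.mul_apply, ← map_mul, inv_mul_cancel, map_one,
          Module.End.one_apply]
      obtain ⟨c, hc, hcfix⟩ := exists_fixed_coset θR hθR To hTθ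
        (fun h => hrR (h.trans (Subgroup.card_subgroup_dvd_card To))) b h2
      rw [show b = c * (b⁻¹ * c)⁻¹ by group]
      exact mul_mem (Subgroup.mem_sup_right (hCfix _ c.2 (congrArg Subtype.val hcfix)))
        (inv_mem (Subgroup.mem_sup_left hc))
    have hobΩ : ob ∈ Ω := hΩR o ho _ (inv_mem b.2)
    have hθinv : (θ⁻¹ : MulAut Q) ^ r = 1 := by rw [inv_pow, hθ, inv_one]
    have htr : ∀ x : Q, tr S r (L ob) (Additive.ofMul x) = L ob (Additive.ofMul (orbitProd θ⁻¹ r x)) := by
      intro x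
      rw [tr_apply, AddMonoidHom.finsetSum_apply, orbitProd, ofMul_prod, map_sum]
      refine Finset.sum_congr rfl fun k _ => ?_
      rw [hS, ← map_pow, funRep_apply, inv_pow]
    rw [hob, LinearMap.sub_apply, Module.End.one_apply, sub_eq_zero]
    refine AddMonoidHom.ext fun a => ?_
    obtain ⟨x, rfl⟩ := Additive.ofMul.surjective a
    rw [hG, funRep_apply, htr, htr, hLapp, hLapp]
    refine congrArg lg ?_
    have hcomm : ∀ (k : ℕ), (θ⁻¹ : MulAut Q) ^ k * g⁻¹ = g⁻¹ * (θ⁻¹) ^ k :=
      fun k => ((show Commute θ g from hgθ).inv_inv.pow_left k).eq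
    have h3 : orbitProd θ⁻¹ r ((g⁻¹ : MulAut Q) x) = (g⁻¹ : MulAut Q) (orbitProd θ⁻¹ r x) := by
      rw [orbitProd, orbitProd, map_prod]
      exact Finset.prod_congr rfl fun k _ => congrArg (fun φ : MulAut Q => φ x) (hcomm k)
    rw [h3]
    refine hmov' ob hobΩ hobmov _ ?_
    conv_lhs => rw [← apply_orbitProd (θ⁻¹ : MulAut Q) hθinv x]
    rw [MulAut.apply_inv_self]
  -- the translates by the centre
  haveI : Fintype R := Fintype.ofFinite _
  let ρC : CR →* Module.End K' V := ρ.comp CR.subtype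
  set U : Submodule K' V := Submodule.span K' (Set.range fun c : CR => ρC c o') with hU
  have hρC : ∀ a b, ρC a * ρC b = ρC b * ρC a := fun a b => by
    show ρ a * ρ b = ρ b * ρ a
    rw [← map_mul, ← map_mul]
    exact congrArg ρ (Subtype.ext (hCcen _ a.2 _ b.1.2))
  have hρo' : ∀ (t : R), (∀ z ∈ Z0, (t : MulAut Q) * z = z * t) →
      ρ t o' = ∑ z : Z0, act (z : MulAut Q) (ρ t (L o)) := fun t ht => by
    rw [ho', map_sum]
    refine Finset.sum_congr rfl fun z _ => ?_
    show (act (t : MulAut Q)) (act (z : MulAut Q) (L o)) = act (z : MulAut Q) (act (t : MulAut Q) (L o))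
    rw [← Module.End.mul_apply, ← map_mul, ht z z.2, map_mul, Module.End.mul_apply]
  refine eq_zero_on_of_eigen ρC hρC ?_ (G - 1) _ U le_rfl ?_ (fun y hy heig => ?_) o'
    (Submodule.subset_span ⟨1, by show ρC 1 o' = o'; rw [map_one]; rfl⟩)
  · obtain ⟨j, hj⟩ := IsPGroup.iff_card.mp (hR.to_subgroup CR)
    rw [hj, Nat.cast_pow]
    refine pow_ne_zero _ fun h => hpq ?_
    exact ((Nat.prime_dvd_prime_iff_eq hq Fact.out).mp ((CharP.cast_eq_zero_iff K' q p).mp h)).symm
  · intro c v hv
    induction hv using Submodule.span_induction with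
    | mem x hx =>
      obtain ⟨c', rfl⟩ := hx
      refine Submodule.subset_span ⟨c * c', ?_⟩
      show ρC (c * c') o' = ρC c (ρC c' o')
      rw [map_mul, Module.End.mul_apply]
    | zero => rw [map_zero]; exact zero_mem _
    | add x y _ _ ihx ihy => rw [map_add]; exact add_mem ihx ihy
    | smul k x _ ih => rw [map_smul]; exact U.smul_mem k ih
  by_cases hy0 : y = 0
  · rw [hy0, map_zero]
  have hTy : ∀ s ∈ To, ρ s y = y := by
    intro s hs
    clear heig hy0
    induction hy using Submodule.span_induction with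
    | mem x hx =>
      obtain ⟨c, rfl⟩ := hx
      show ρ s (ρ (c : R) o') = ρ (c : R) o'
      rw [← Module.End.mul_apply, ← map_mul,
        show s * (c : R) = c * s from Subtype.ext (hCcen _ c.2 _ s.2).symm, map_mul, Module.End.mul_apply,
        hρo' s fun z hz => (hCcen z (hZ0C hz) _ s.2).symm]
      refine congrArg (ρ (c : R)) ?_
      rw [ho']
      exact Finset.sum_congr rfl fun z _ => congrArg (act (z : MulAut Q)) hs
    | zero => rw [map_zero]
    | add x y _ _ ihx ihy => rw [map_add, ihx, ihy]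
    | smul k x _ ih => rw [map_smul, ih]
  have hSy : S y = y := by
    have hSo' : S o' = o' := by
      rw [ho', map_sum]
      let e : Z0 → Z0 := fun a => ⟨θ * a * θ⁻¹, rdisp_conj hCθ a.2⟩
      have he : Function.Bijective e := Finite.injective_iff_bijective.mp fun a b h => Subtype.ext
        (mul_left_cancel (mul_right_cancel (congrArg Subtype.val h)))
      refine Fintype.sum_equiv (Equiv.ofBijective e he) _ _ fun z => ?_
      show act θ (act (z : MulAut Q) (L o)) = act (θ * (z : MulAut Q) * θ⁻¹) (L o)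
      conv_rhs => rw [← hSL, hS]
      rw [← Module.End.mul_apply, ← Module.End.mul_apply, ← map_mul, ← map_mul, inv_mul_cancel_right]
    have hZo' : ∀ z ∈ Z0, act z o' = o' := by
      intro z hz
      rw [ho', map_sum]
      refine Fintype.sum_equiv (Equiv.mulLeft (⟨z, hz⟩ : Z0)) _ _ fun a => ?_
      rw [← Module.End.mul_apply, ← map_mul]
      rfl
    clear heig hTy hy0
    induction hy using Submodule.span_induction with
    | mem x hx =>
      obtain ⟨c, rfl⟩ := hx
      show S (ρ (c : R) o') = ρ (c : R) o'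
      rw [← Module.End.mul_apply, hSρ, Module.End.mul_apply, hSo']
      have hz : ((c : R) : MulAut Q)⁻¹ * (θ * ((c : R) : MulAut Q) * θ⁻¹) ∈ Z0 :=
        subset_closure ⟨_, c.2, rfl⟩
      conv_rhs => rw [← hZo' _ hz]
      show act (θ * ((c : R) : MulAut Q) * θ⁻¹) o' = act ((c : R) : MulAut Q) (act _ o')
      rw [← Module.End.mul_apply, ← map_mul, mul_inv_cancel_left]
    | zero => rw [map_zero]
    | add x y _ _ ihx ihy => rw [map_add, ihx, ihy]
    | smul k x _ ih => rw [map_smul, ih]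
  have hscal : ∀ u : R, ∃ k : K', u ∈ S0 → ρ u y = k • y := by
    intro u
    by_cases hu : u ∈ S0
    · obtain ⟨s, hs, c, hc, rfl⟩ := Subgroup.mem_sup_of_normal_right.mp hu
      obtain ⟨k, hk⟩ := heig ⟨c, hc⟩
      refine ⟨k, fun _ => ?_⟩
      rw [map_mul, Module.End.mul_apply, show ρ c y = k • y from hk, map_smul, hTy s hs]
    · exact ⟨0, fun h => absurd h hu⟩
  choose χ hχ using hscal
  by_cases hex : ∃ a, a ∉ S0
  · have hmovy : ∀ a, a ∉ S0 → (G - 1) (tr S r (ρ a y)) = 0 := by
      intro a ha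
      clear heig hTy hy0 hSy hχ
      induction hy using Submodule.span_induction with
      | mem x hx =>
        obtain ⟨c, rfl⟩ := hx
        show (G - 1) (tr S r (ρ a (ρ (c : R) o'))) = 0
        rw [ho', map_sum, map_sum, map_sum, map_sum]
        refine Finset.sum_eq_zero fun z _ => ?_
        have hz : (⟨(z : MulAut Q), hCR (hZ0C z.2)⟩ : R) ∈ CR := hZ0C z.2
        have h := hout (a * (c * ⟨(z : MulAut Q), hCR (hZ0C z.2)⟩)) fun h => ha
          ((Subgroup.mul_mem_cancel_right _ (Subgroup.mem_sup_right (mul_mem c.2 hz))).mp h)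
        rw [map_mul, map_mul, Module.End.mul_apply, Module.End.mul_apply] at h
        exact h
      | zero => simp
      | add x y _ _ ihx ihy => rw [map_add, map_add, map_add, ihx, ihy, add_zero]
      | smul k x _ ih => rw [map_smul, map_smul, map_smul, ih, smul_zero]
    have h := block_fixed hR ρ θR γ S G (by rw [hS, ← map_pow, hθ, map_one]) hθR hn0
      (by rw [hG, ← map_pow, hn, map_one]) hnp
      (fun h => hqr ((Nat.prime_dvd_prime_iff_eq hq hr).mp ((CharP.cast_eq_zero_iff K' q r).mp h)))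
      (by rw [hG, hS, ← map_mul, ← map_mul, hgθ]) hSρ hGρ S0
      (fun a b => Subgroup.mem_sup_right (hCcls _ a.2 _ b.2)) hS0θ
      (fun a ha => by
        obtain ⟨c, hc, hcfix⟩ := exists_fixed_coset θR hθR S0 hS0θ
          (fun h => hrR (h.trans (Subgroup.card_subgroup_dvd_card S0))) a ha
        rw [show a = c * (a⁻¹ * c)⁻¹ by group]
        exact mul_mem (Subgroup.mem_sup_right (hCfix _ c.2 (congrArg Subtype.val hcfix))) (inv_mem hc))
      hy0 hSy χ (fun u hu => hχ u hu) hmovy hex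
    rw [LinearMap.sub_apply, Module.End.one_apply, h, sub_self]
  exfalso
  push Not at hex
  have hχhom := eigen_mul ρ hy0 fun a => hχ a (hex a)
  have htop : ∀ t : R, χ t = 1 := by
    have hθχ : ∀ a, χ (θR a) = χ a := fun a => smul_left_injective K' hy0 (by
      show χ (θR a) • y = χ a • y
      rw [← hχ _ (hex _)]
      conv_lhs => rw [← hSy]
      rw [← Module.End.mul_apply, ← hSρ, Module.End.mul_apply, hχ a (hex a), map_smul, hSy])
    have hker : rdisp θ R ≤ (({ toFun := χ, map_one' := hχhom.1, map_mul' := hχhom.2 } : R →* K').ker).map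
        R.subtype := by
      rw [rdisp, closure_le]
      rintro _ ⟨t, ht, rfl⟩
      refine ⟨(⟨t, ht⟩ : R)⁻¹ * θR ⟨t, ht⟩, ?_, rfl⟩
      show χ ((⟨t, ht⟩ : R)⁻¹ * θR ⟨t, ht⟩) = 1
      rw [hχhom.2, hθχ, ← hχhom.2, inv_mul_cancel, hχhom.1]
    intro t
    obtain ⟨t', ht', he⟩ := hker (hRT t.2)
    rw [show t = t' from Subtype.ext he.symm]
    exact ht'
  apply hy0
  have hkerQ : (⊤ : Subgroup Q) ≤ (AddMonoidHom.toMultiplicativeRight y).ker := by
    rw [← hgenQ, closure_le]
    rintro _ ⟨a, t, ht, rfl⟩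
    show Multiplicative.ofAdd (y (Additive.ofMul (a⁻¹ * t a))) = 1
    have h1 := congrArg (fun v : V => v (Additive.ofMul (t a))) (hχ ⟨t, ht⟩ (hex _))
    simp only [htop, one_smul] at h1
    rw [show ρ ⟨t, ht⟩ = act t from rfl, funRep_apply, MulAut.inv_apply_self] at h1
    rw [ofMul_mul, map_add, ofMul_inv, map_neg, h1, neg_add_cancel]
    rfl
  refine AddMonoidHom.ext fun a => ?_
  exact Multiplicative.ofAdd.injective (hkerQ (mem_top a.toMul))

end H1.Turull
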