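import Cfsg.Agent.H1.Turull.Descent
import Cfsg.Agent.H1.Turull.Dichotomy
import Cfsg.Agent.H1.Turull.FixedChar

/-!
The starting cases of the descent below the levels fixed by the automorphism.
-/

set_option autoImplicit false
set_option linter.style.haveILetI false
set_option linter.unusedSectionVars false

namespace H1.Turull

open Subgroup
open H31.FitLen

universe u

variable {G : Type u} [Group G] [Finite G] {σ : MulAut G} {m : ℕ} {p : ℕ → ℕ} {T : ℕ → Subgroup G}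
  (h : IsMinTower σ m p T) {r : ℕ} [Fact r.Prime] (hσ : σ ^ r = 1) (hcop : ¬ r ∣ Nat.card G)

include hσ hcop

/-- A fixed element two levels above moves the fixed elements. -/
theorem case_moving {C : Subgroup G} (hC : ∀ g, g ∈ C ↔ σ g = g) {i s : ℕ} (hi : i + 3 ≤ m)
    (htop : disp (secAut h (i + 2)) = ⊤) {g : G} (hg : g ∈ T (i + 3)) (hσg : σ g = g) (hgres : g ∈ res s C)
    {y : Mq (Sec T (i + 1))} (hy : toM (secAut h (i + 1)) y = y)
    (hmove : toM (secAct T (i + 1) ⟨g, mem_secNorm h (by omega) hi hg⟩) y ≠ y) : Good h C i s := by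
  haveI := Fact.mk (h.prime i (by omega))
  haveI := Fact.mk (h.prime (i + 1) (by omega))
  haveI := Fact.mk (h.prime (i + 2) (by omega))
  set K := AlgebraicClosure (ZMod (p i))
  haveI : CharP K (p i) := charP_of_injective_algebraMap (algebraMap (ZMod (p i)) K).injective (p i)
  have hi2 : i + 2 ≤ m := by omega
  have st := stage_sec h K hσ hcop hi2
  set θ := secAut h (i + 1) with hθdef
  set a := secAct T (i + 1) ⟨g, mem_secNorm h (by omega) hi hg⟩ with hadef
  have haθ : θ * a = a * θ := secAut_comm_act h (by omega) hi hg hσg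
  have hRT : (secRep h hi2).range ≤ rdisp θ (secRep h hi2).range := by
    rintro _ ⟨b, rfl⟩
    exact map_disp_mem _ _ _ (secRep_equiv h hi2) (htop ▸ mem_top b)
  suffices H : ∃ c : Sec T (i + 1), θ c = c ∧ Strong θ r (lowRep h K (Nat.le_of_succ_le hi2)) (lowS h K i) (a c * c⁻¹) by
    obtain ⟨c, hc, hs⟩ := H
    obtain ⟨d, hd, hσd, rfl⟩ := exists_fixed_level h hσ hcop hc
    have hmem : com g d ∈ T (i + 1) := mul_mem (h.norm (i + 3) (i + 1) (by omega) hi g hg d hd) (inv_mem hd)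
    have hσe : σ (com g d) = com g d := by rw [map_com', hσg, hσd]
    have hmk : (QuotientGroup.mk (⟨com g d, hmem⟩ : T (i + 1)) : Sec T (i + 1)) =
        a (QuotientGroup.mk (⟨d, hd⟩ : T (i + 1))) * (QuotientGroup.mk (⟨d, hd⟩ : T (i + 1)))⁻¹ := by
      rw [hadef, secAct_mk, ← QuotientGroup.mk_inv, ← QuotientGroup.mk_mul]
      rfl
    rw [← hmk] at hs
    refine ⟨Nat.le_of_succ_le hi2, com g d, hmem, hσe, ?_, moved_of_strong_sec h hσ hcop _ ?_ hs⟩
    · rw [show com g d = g * (d * g⁻¹ * d⁻¹) by simp only [com]; group]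
      exact mul_mem hgres (res_conj_mem C s ((hC d).mpr hσd) (inv_mem hgres))
    · rw [secAut_mk]
      exact congrArg QuotientGroup.mk (Subtype.ext hσe)
  obtain ⟨c, hc, rfl⟩ := exists_fixed_lift θ (secAut_pow h hσ _) (not_dvd_sec h hcop _) hy
  have hnz : a c * c⁻¹ ∉ zsub (Sec T (i + 1)) := by
    intro hz
    apply hmove
    rw [toM_mk, ← mul_inv_eq_one, ← QuotientGroup.mk_inv, ← QuotientGroup.mk_mul, QuotientGroup.eq_one_iff]
    exact hz
  by_cases hab : ∀ x y : Sec T (i + 1), x * y = y * x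
  swap
  · refine ⟨c, hc, step_nonabelian st.isPGroup st.cls st.pow st.ne_r θ st.theta st.rK st.qK _ st.inj _ st.powS
      st.comp st.ops_ne st.ops_ne_r _ st.ops_pgroup st.ops_inv (st.ops_center hab) ?_ ?_⟩
    · rw [map_mul, map_inv, ← MulAut.mul_apply, haθ, MulAut.mul_apply, hc]
    · by_contra hno
      push Not at hno
      exact hnz (center_le_zsub hab (mem_center_of_fixed st.cls (secRep_gen h hi2) (st.ops_center hab)
        fun t ht => hno t (hRT ht)))
  letI : CommGroup (Sec T (i + 1)) := { (inferInstance : Group (Sec T (i + 1))) with mul_comm := hab }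
  by_contra hno
  push Not at hno
  apply hnz
  let Ω : Set (Sec T (i + 1) →* K) := {o | ∃ v, v ≠ 0 ∧ ∀ x, lowRep h K (Nat.le_of_succ_le hi2) x v = o x • v}
  have hact : ∀ b : Sec T (i + 2), a * secRep h hi2 b * a⁻¹ =
      secRep h hi2 (secAct T (i + 2) ⟨g, mem_secNorm h (by omega) hi hg⟩ b) := fun b => by
    rw [hadef, secRep_conj h hi2 (by omega) hi hg b, mul_inv_cancel_right]
  have hgfix : ∀ z ∈ zsub (Sec T (i + 2)), secAct T (i + 2) ⟨g, mem_secNorm h (by omega) hi hg⟩ z = z :=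
    fun z hz => range_fix_zsub h hi ⟨QuotientGroup.mk (⟨g, hg⟩ : T (i + 3)), rfl⟩ hz
  obtain ⟨e, he⟩ := h.pgroup (i + 3) hi ⟨g, hg⟩
  suffices hfix : a c = c by rw [hfix, mul_inv_cancel]; exact one_mem _
  refine fixed_of_moved_chars (K := K) (sec_pow_comm h (by omega) hab) st.ne_r st.ops_ne st.ops_ne_r θ st.theta
    (secRep h hi2).range st.ops_pgroup st.ops_inv hRT (secRep_gen h hi2)
    ((zsub (Sec T (i + 2))).map (secRep h hi2)) (Subgroup.map_le_range _ _) ?_ ?_ ?_ ?_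
    a haθ (n := p (i + 3) ^ e) (pow_pos (h.prime _ hi).pos e) ?_ ?_ ?_ ?_ st.qK Ω ?_ ?_ ?_ hc
  · rintro _ ⟨z, hz, rfl⟩ _ ⟨b, rfl⟩
    rw [← map_mul, ← map_mul, mem_center_iff.mp (zsub_le_center (sec_cls h hi2) hz) b]
  · rintro _ ⟨z, hz, rfl⟩
    exact ⟨secAut h (i + 2) z, zsub_apply_mem _ hz, (conj_range_eq _ _ _ (secRep_equiv h hi2) z).symm⟩
  · rintro _ ⟨b, rfl⟩ _ ⟨b', rfl⟩
    refine ⟨com b b', commutator_le_zsub (Subgroup.commutator_mem_commutator (mem_top b) (mem_top b')), ?_⟩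
    exact map_com _ _ _
  · rintro _ ⟨b, rfl⟩ hb
    rw [conj_range_eq _ _ _ (secRep_equiv h hi2)] at hb
    have hb' := secRep_injective h hi2 hb
    refine ⟨b, ?_, rfl⟩
    by_cases hab' : ∀ x y : Sec T (i + 2), x * y = y * x
    · letI : CommGroup (Sec T (i + 2)) := { (inferInstance : Group (Sec T (i + 2))) with mul_comm := hab' }
      rw [fixed_disp_eq_one (sec_pow_comm h hi2 hab') ((Nat.coprime_primes (h.prime _ hi2) Fact.out).mpr st.ops_ne_r)
        (secAut h (i + 2)) (secAut_pow h hσ _) (htop ▸ mem_top b) hb']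
      exact one_mem _
    · exact center_le_zsub hab' (fixed_mem_center (sec_isPGroup h hi2) st.ops_ne_r _ (secAut_pow h hσ _)
        (sec_cls h hi2) htop hb')
  · rw [hadef, ← map_pow,
      show (⟨g, mem_secNorm h (by omega) hi hg⟩ : secNorm T (i + 1)) ^ p (i + 3) ^ e = 1 from
        Subtype.ext (congrArg Subtype.val he : g ^ p (i + 3) ^ e = 1), map_one]
  · exact ((Nat.coprime_primes (h.prime _ hi) (h.prime _ hi2)).mpr (h.ne_prime (i + 2) hi)).pow_left e
  · rintro _ ⟨b, rfl⟩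
    exact ⟨_, (hact b).symm⟩
  · rintro _ ⟨z, hz, rfl⟩
    have h1 := hact z
    rw [hgfix z hz] at h1
    exact mul_inv_eq_iff_eq_mul.mp h1
  · rintro o ⟨v, hv, hov⟩ t ht
    obtain ⟨G', hG, hGρ⟩ := st.lift t⁻¹ (inv_mem ht)
    refine ⟨G' v, fun h0 => hv (hG (h0.trans (map_zero G').symm)), fun x => ?_⟩
    have h1 := congrArg (fun F : Module.End K _ => F v) (hGρ (t x))
    simp only [Module.End.mul_apply, MulAut.inv_apply_self, hov, map_smul] at h1
    exact h1.symm
  · intro x hx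
    by_contra hx1
    obtain ⟨v, hv, χ, hχ, hne⟩ := exists_eigen_ne st.isPGroup st.qK (lowRep h K (Nat.le_of_succ_le hi2))
      (fun x y => by rw [← map_mul, ← map_mul, mul_comm]) x (fun h0 => hx1 (st.inj (h0.trans (map_one _).symm)))
    obtain ⟨h1, hm⟩ := eigen_mul _ hv hχ
    exact hne (hx { toFun := χ, map_one' := h1, map_mul' := hm } ⟨v, hv, hχ⟩)
  · rintro o ⟨v, hv, hov⟩ hne d hd
    by_contra h1
    obtain ⟨b, hb⟩ : ∃ b, o (θ b) ≠ o b := by
      by_contra hall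
      push Not at hall
      exact hne (MonoidHom.ext hall)
    refine hno d hd (strong_of_orbit θ _ _ st.theta st.comp ⊤ (fun _ _ => trivial) o (v := v) (fun x _ => hov x)
      ⟨b, trivial, hb⟩ (by rw [map_mul, map_inv, ← MulAut.mul_apply, haθ, MulAut.mul_apply, hd])
      (fun x _ => mul_comm _ _) fun hv' => h1 ?_)
    rw [hov] at hv'
    have h2 : o (a d * d⁻¹) = 1 := smul_left_injective K hv (hv'.trans (one_smul K v).symm)
    rw [map_mul, map_inv] at h2
    exact (eq_inv_of_mul_eq_one_left h2).trans (inv_inv _)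

/-- The fixed elements are centralised two levels above. -/
theorem case_fixing {C : Subgroup G} (hC : ∀ g, g ∈ C ↔ σ g = g) {i s : ℕ} (hi : i + 4 ≤ m)
    (htop : disp (secAut h (i + 2)) = ⊤) (hfix : ∀ a, i + 2 < a → a ≤ m → ∀ x ∈ T a, σ x = x)
    (hres : T (i + 4) ≤ res s C)
    (hall : ∀ g, ∀ hg : g ∈ T (i + 3), ∀ y : Mq (Sec T (i + 1)), toM (secAut h (i + 1)) y = y →
      toM (secAct T (i + 1) ⟨g, mem_secNorm h (by omega) (by omega : i + 3 ≤ m) hg⟩) y = y) :
    Good h C (i + 1) s := by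
  haveI := Fact.mk (h.prime (i + 1) (by omega))
  haveI := Fact.mk (h.prime (i + 2) (by omega))
  haveI := Fact.mk (h.prime (i + 3) (by omega))
  set K := AlgebraicClosure (ZMod (p (i + 1)))
  haveI : CharP K (p (i + 1)) :=
    charP_of_injective_algebraMap (algebraMap (ZMod (p (i + 1))) K).injective (p (i + 1))
  have hi3 : i + 3 ≤ m := by omega
  have hi2 : i + 2 ≤ m := by omega
  have st := stage_sec h K hσ hcop (i := i + 1) hi3
  have hrK := st.rK
  have hU2 : ∀ x, ∀ hx : x ∈ T (i + 4), secAut h (i + 2) * secAct T (i + 2) ⟨x, mem_secNorm h (by omega) hi hx⟩ =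
      secAct T (i + 2) ⟨x, mem_secNorm h (by omega) hi hx⟩ * secAut h (i + 2) :=
    fun x hx => secAut_comm_act h (by omega) hi hx (hfix _ (by omega) hi x hx)
  obtain ⟨u, ⟨⟨x, hx'⟩, hx, rfl⟩, z0, -, hz0, w, hw, hwne⟩ := dichotomy st.isPGroup st.cls st.pow st.ne_r
    (secAut h (i + 2)) st.theta htop hrK st.qK (lowRep h K hi2) st.inj (lowS h K (i + 1)) st.powS st.comp st.ops_ne
    st.ops_ne_r (secRep h hi3).range st.ops_pgroup
    (by
      rintro _ ⟨b, rfl⟩
      obtain ⟨y, rfl⟩ := QuotientGroup.mk_surjective b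
      rw [secRep_mk]
      exact secAut_comm_act h (by omega) hi3 y.2 (hfix _ (by omega) hi3 y y.2))
    ((em (∀ a b : Sec T (i + 2), a * b = b * a)).imp_right fun hnab => st.ops_center hnab)
    (by
      rintro _ ⟨b, rfl⟩
      obtain ⟨y, rfl⟩ := QuotientGroup.mk_surjective b
      obtain ⟨e, he⟩ := h.pgroup (i + 3) hi3 y
      have hk : ∀ j (hj : j ≤ i + 3), (⟨(y : G), mem_secNorm h hj hi3 y.2⟩ : secNorm T j) ^ p (i + 3) ^ e = 1 :=
        fun j _ => Subtype.ext (congrArg Subtype.val he : (y : G) ^ p (i + 3) ^ e = 1)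
      refine ⟨e, biRep (p (i + 1)) (Mq (Sec T (i + 1))) K (toM (secAct T (i + 1) ⟨y, mem_secNorm h (by omega) hi3 y.2⟩)),
        ?_, ?_, ?_, fun c => ?_, fun v hv => ?_⟩
      · rw [secRep_mk, ← map_pow, hk _ (by omega), map_one]
      · rw [← map_pow, ← map_pow, ← map_pow, hk _ (by omega), map_one, map_one, map_one]
      · show biRep (p (i + 1)) (Mq (Sec T (i + 1))) K (toM (secAct T (i + 1) _)) *
            biRep (p (i + 1)) (Mq (Sec T (i + 1))) K (toM (secAut h (i + 1))) =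
          biRep (p (i + 1)) (Mq (Sec T (i + 1))) K (toM (secAut h (i + 1))) *
            biRep (p (i + 1)) (Mq (Sec T (i + 1))) K (toM (secAct T (i + 1) _))
        rw [← map_mul, ← map_mul, ← map_mul, ← map_mul,
          secAut_comm_act h (by omega) hi3 y.2 (hfix _ (by omega) hi3 y y.2)]
      · show biRep (p (i + 1)) (Mq (Sec T (i + 1))) K (toM (secAct T (i + 1) _)) *
            biRep (p (i + 1)) (Mq (Sec T (i + 1))) K (toM (secRep h hi2 c)) =
          biRep (p (i + 1)) (Mq (Sec T (i + 1))) K (toM (secRep h hi2 (secRep h hi3 (QuotientGroup.mk y) c))) *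
            biRep (p (i + 1)) (Mq (Sec T (i + 1))) K (toM (secAct T (i + 1) _))
        rw [← map_mul, ← map_mul, ← map_mul, ← map_mul, secRep_conj h hi2 (by omega) hi3 y.2 c, secRep_mk]
      · by_contra hne
        obtain ⟨c, hc, hcne⟩ := exists_moved_fixed (p (i + 1)) (Mq (Sec T (i + 1))) K hrK (toM (secAut h (i + 1))) _
          (by rw [← map_pow, secAut_pow h hσ, map_one]) hv hne
        exact hcne (hall y y.2 c hc))
    (((T (i + 4)).subgroupOf (secNorm T (i + 2))).map (secAct T (i + 2)))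
    (by rintro _ ⟨⟨x, _⟩, hx, rfl⟩; exact hU2 x hx)
    (by
      rintro _ ⟨⟨x, _⟩, hx, rfl⟩ _ ⟨b, rfl⟩
      have hx4 : x ∈ T (i + 4) := hx
      refine ⟨secAct T (i + 3) ⟨x, mem_secNorm h (by omega) hi hx4⟩ b, ?_⟩
      exact eq_mul_inv_of_mul_eq (secRep_conj h hi3 (by omega) hi hx4 b).symm)
    (by
      rintro _ ⟨b, rfl⟩
      obtain ⟨y, rfl⟩ := QuotientGroup.mk_surjective b
      rw [secRep_mk]
      set H := closure {z : MulAut (Sec T (i + 2)) | ∃ u ∈ ((T (i + 4)).subgroupOf (secNorm T (i + 2))).map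
        (secAct T (i + 2)), ∃ g ∈ (secRep h hi3).range, z = com u g}
      have hle : closure {z : G | ∃ x ∈ T (i + 4), ∃ y ∈ T (i + 3), z = com x y} ≤
          (H.comap (secAct T (i + 2))).map (secNorm T (i + 2)).subtype := by
        rw [closure_le]
        rintro _ ⟨a, ha, b, hb, rfl⟩
        refine ⟨com ⟨a, mem_secNorm h (by omega) hi ha⟩ ⟨b, mem_secNorm h (by omega) hi3 hb⟩, ?_, rfl⟩
        show secAct T (i + 2) _ ∈ H
        rw [map_com]
        exact subset_closure ⟨_, ⟨⟨a, mem_secNorm h (by omega) hi ha⟩, ha, rfl⟩, _,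
          ⟨QuotientGroup.mk (⟨b, hb⟩ : T (i + 3)), secRep_mk h hi3 _⟩, rfl⟩
      obtain ⟨z, hz, hze⟩ := hle (h.gen (i + 3) hi y.2)
      rw [show (⟨(y : G), mem_secNorm h (by omega) hi3 y.2⟩ : secNorm T (i + 2)) = z from Subtype.ext hze.symm]
      exact hz)
    (by
      obtain ⟨b, hb⟩ := sec_exists_ne_one h hi3
      exact ⟨_, ⟨b, rfl⟩, fun e => hb (secRep_injective h hi3 (e.trans (map_one _).symm))⟩)
  obtain ⟨z, hz, hσz, rfl⟩ := exists_fixed_level h hσ hcop hz0
  have hx4 : x ∈ T (i + 4) := hx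
  have hσx : σ x = x := hfix _ (by omega) hi x hx4
  have hemem : z⁻¹ * (x * z * x⁻¹) ∈ T (i + 2) :=
    mul_mem (inv_mem hz) (h.norm (i + 4) (i + 2) (by omega) hi x hx4 z hz)
  have hσe : σ (z⁻¹ * (x * z * x⁻¹)) = z⁻¹ * (x * z * x⁻¹) := by
    rw [map_mul, map_mul, map_mul, map_inv, map_inv, hσx, hσz]
  have heres : z⁻¹ * (x * z * x⁻¹) ∈ res s C := by
    rw [show z⁻¹ * (x * z * x⁻¹) = (z⁻¹ * x * z⁻¹⁻¹) * x⁻¹ by group]
    exact mul_mem (res_conj_mem C s (inv_mem ((hC z).mpr hσz)) (hres hx4)) (inv_mem (hres hx4))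
  have hmk : (QuotientGroup.mk (⟨_, hemem⟩ : T (i + 2)) : Sec T (i + 2)) =
      (QuotientGroup.mk (⟨z, hz⟩ : T (i + 2)))⁻¹ *
        secAct T (i + 2) ⟨x, hx'⟩ (QuotientGroup.mk (⟨z, hz⟩ : T (i + 2))) := by
    rw [secAct_mk, ← QuotientGroup.mk_inv, ← QuotientGroup.mk_mul]
    rfl
  refine ⟨hi2, _, hemem, hσe, heres, ?_⟩
  rw [← hmk] at hwne
  set b : Sec T (i + 2) := QuotientGroup.mk (⟨_, hemem⟩ : T (i + 2))
  obtain ⟨y, hy, hyne⟩ := exists_moved_fixed (p (i + 1)) (Mq (Sec T (i + 1))) K hrK (toM (secAut h (i + 1)))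
    (toM (secRep h hi2 b)) (by rw [← map_pow, secAut_pow h hσ, map_one]) hw hwne
  obtain ⟨c, hc, rfl⟩ := exists_fixed_lift (secAut h (i + 1)) (secAut_pow h hσ _) (not_dvd_sec h hcop _) hy
  refine ⟨c, hc, secRep h hi2 b, map_disp_mem _ _ _ (secRep_equiv h hi2) (htop ▸ mem_top b), fun hd => hyne ?_⟩
  obtain ⟨e, he⟩ := secRep_range_isPGroup h hi2 ⟨_, b, rfl⟩
  obtain ⟨j, hj⟩ := IsPGroup.iff_card.mp (mq_isPGroup (sec_isPGroup h (Nat.le_of_succ_le hi2)))
  refine H1.Gross.eq_of_disp_fixed (toM (secRep h hi2 b)) (k := p (i + 2) ^ e) ?_ ?_ _ ?_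
  · rw [← map_pow, show secRep h hi2 b ^ p (i + 2) ^ e = 1 from congrArg Subtype.val he, map_one]
  · rw [hj]
    exact ((Nat.coprime_primes Fact.out Fact.out).mpr (h.ne_prime (i + 1) hi2)).pow e j
  · rw [toM_mk, mul_comm ((QuotientGroup.mk c : Mq (Sec T (i + 1)))⁻¹), ← QuotientGroup.mk_inv, ← QuotientGroup.mk_mul,
      toM_mk, hd]

end H1.Turull
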