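import Cfsg.Agent.H1.Turull.SectionData

/-!
The descent along a minimal tower.
-/

set_option autoImplicit false
set_option linter.style.haveILetI false
set_option linter.unusedSectionVars false

namespace H1.Turull

open Subgroup
open H31.FitLen

universe u

variable {G : Type u} [Group G] [Finite G] {σ : MulAut G} {m : ℕ} {p : ℕ → ℕ} {T : ℕ → Subgroup G}
  (h : IsMinTower σ m p T) {r : ℕ} [Fact r.Prime]

/-- The element moves a fixed element of the section below to one moved by the displacements. -/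
def Moved {i : ℕ} (hi : i + 1 ≤ m) (e : Sec T (i + 1)) : Prop :=
  ∃ c : Sec T i, secAut h i c = c ∧ ∃ t ∈ rdisp (secAut h i) (secRep h hi).range,
    t (secRep h hi e c * c⁻¹) ≠ secRep h hi e c * c⁻¹

/-- A fixed element of depth `s` in the residual series of the fixed points moves the section below. -/
def Good (C : Subgroup G) (i s : ℕ) : Prop :=
  ∃ (hi : i + 1 ≤ m) (e : G) (he : e ∈ T (i + 1)),
    σ e = e ∧ e ∈ res s C ∧ Moved h hi (QuotientGroup.mk (⟨e, he⟩ : T (i + 1)))

variable (hσ : σ ^ r = 1) (hcop : ¬ r ∣ Nat.card G)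

include hσ hcop

theorem moved_of_strong_sec {i : ℕ} (hi : i + 1 ≤ m) [Fact (p i).Prime] {K : Type} [Field K] [CharP K (p i)]
    {e : Sec T (i + 1)} (he : secAut h (i + 1) e = e)
    (hs : Strong (secAut h (i + 1)) r (lowRep h K hi) (lowS h K i) e) : Moved h hi e := by
  haveI := Fact.mk (h.prime (i + 1) hi)
  exact moved_of_strong (secAut h (i + 1)) (secAut h i) (secRep h hi) (secRep_equiv h hi)
    (sec_isPGroup h (Nat.le_of_succ_le hi)) (prime_ne_r h hcop (Nat.le_of_succ_le hi)) (secAut_pow h hσ i)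
    (h.ne_prime i hi) (secRep_range_isPGroup h hi) (secRep_cls h hi) he hs

/-- One step of the descent. -/
theorem good_step {C : Subgroup G} (hC : ∀ g, g ∈ C ↔ σ g = g) {i s : ℕ} (hg : Good h C (i + 1) s) :
    Good h C i (s + 1) := by
  obtain ⟨hi, e, he, hσe, hres, c, hc, hmove⟩ := hg
  haveI := Fact.mk (h.prime i (by omega))
  haveI := Fact.mk (h.prime (i + 1) (by omega))
  haveI := Fact.mk (h.prime (i + 2) hi)
  set K := AlgebraicClosure (ZMod (p i))
  haveI : CharP K (p i) := charP_of_injective_algebraMap (algebraMap (ZMod (p i)) K).injective (p i)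
  have hefix : secAut h (i + 2) (QuotientGroup.mk (⟨e, he⟩ : T (i + 2))) = QuotientGroup.mk (⟨e, he⟩ : T (i + 2)) := by
    rw [secAut_mk]
    exact congrArg QuotientGroup.mk (Subtype.ext hσe)
  obtain ⟨d, hd, hs⟩ := strong_of_moved_com (stage_sec h K hσ hcop hi) ⟨_, rfl⟩
    (by rw [conj_range_eq _ _ _ (secRep_equiv h hi), hefix]) hc hmove
  obtain ⟨d', hd', hσd, rfl⟩ := exists_fixed_level h hσ hcop hd
  have hσe' : σ (com e d') = com e d' := by rw [map_com', hσe, hσd]
  refine ⟨Nat.le_of_succ_le hi, com e d', com_mem_level h.toIsTower hi he hd', hσe', ?_, ?_⟩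
  · refine com_mem_res (D := C ⊓ T (i + 1)) hres inf_le_left ((h.pgroup (i + 1) (Nat.le_of_succ_le hi)).to_le inf_le_right)
      (fun y hy => ⟨(hC _).mpr (by rw [map_mul, map_mul, map_inv, hσe, (hC y).mp hy.1]),
        h.norm (i + 2) (i + 1) (Nat.lt_succ_self _) hi e he y hy.2⟩) ?_ ⟨(hC d').mpr hσd, hd'⟩
    obtain ⟨k, hk⟩ := h.pgroup (i + 2) hi ⟨e, he⟩
    exact Nat.Coprime.coprime_dvd_left (orderOf_dvd_of_pow_eq_one (congrArg Subtype.val hk))
      (((Nat.coprime_primes (h.prime _ hi) (h.prime _ (Nat.le_of_succ_le hi))).mpr (h.ne_prime (i + 1) hi)).pow_left k)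
  · rw [secRep_com h hi he hd'] at hs
    refine moved_of_strong_sec h hσ hcop (Nat.le_of_succ_le hi) ?_ hs
    rw [secAut_mk]
    exact congrArg QuotientGroup.mk (Subtype.ext hσe')

/-- The bottom of the descent. -/
theorem good_zero {C : Subgroup G} (hC : ∀ g, g ∈ C ↔ σ g = g) {s : ℕ} (hbot : res (s + 1) C = ⊥)
    (hg : Good h C 0 s) : False := by
  obtain ⟨hi, e, he, hσe, hres, c, hc, t, -, ht⟩ := hg
  obtain ⟨c', hc', hσc, rfl⟩ := exists_fixed_level h hσ hcop hc
  have h1 : com e c' = 1 := by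
    rw [← Subgroup.mem_bot, ← hbot]
    refine com_mem_res (D := C ⊓ T 0) hres inf_le_left ((h.pgroup 0 (Nat.zero_le m)).to_le inf_le_right)
      (fun y hy => ⟨(hC _).mpr (by rw [map_mul, map_mul, map_inv, hσe, (hC y).mp hy.1]),
        h.norm 1 0 Nat.zero_lt_one hi e he y hy.2⟩) ?_ ⟨(hC c').mpr hσc, hc'⟩
    obtain ⟨k, hk⟩ := h.pgroup 1 hi ⟨e, he⟩
    exact Nat.Coprime.coprime_dvd_left (orderOf_dvd_of_pow_eq_one (congrArg Subtype.val hk))
      (((Nat.coprime_primes (h.prime _ hi) (h.prime _ (Nat.zero_le m))).mpr (h.ne_prime 0 hi)).pow_left k)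
  apply ht
  rw [secRep_com h hi he hc', show (QuotientGroup.mk (⟨com e c', com_mem_level h.toIsTower hi he hc'⟩ : T 0) :
    Sec T 0) = 1 from (congrArg QuotientGroup.mk (Subtype.ext h1)).trans (QuotientGroup.mk_one _), map_one]

/-- A good element too deep is impossible. -/
theorem good_false {C : Subgroup G} (hC : ∀ g, g ∈ C ↔ σ g = g) {n : ℕ} (hbot : res n C = ⊥) :
    ∀ i s, n ≤ i + s + 1 → Good h C i s → False := by
  intro i
  induction i with
  | zero => exact fun s hs => good_zero h hσ hcop hC (le_bot_iff.mp (hbot ▸ res_antitone C (by omega)))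
  | succ i ih => exact fun s hs hg => ih (s + 1) (by omega) (good_step h hσ hcop hC hg)

include h in
omit [Fact r.Prime] hσ hcop in
/-- The levels above the last moved one lie deep in the residual series of the fixed points. -/
theorem level_le_res {C : Subgroup G} (hC : ∀ g, g ∈ C ↔ σ g = g) {t : ℕ}
    (hfix : ∀ a, t < a → a ≤ m → ∀ x ∈ T a, σ x = x) : ∀ k a, a + k = m → t < a → T a ≤ res k C := by
  intro k
  induction k with
  | zero => exact fun a hak hta x hx => (hC x).mpr (hfix a hta (by omega) x hx)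
  | succ k ih =>
    intro a hak hta
    refine (h.gen a (by omega)).trans ((closure_le _).mpr ?_)
    rintro _ ⟨x, hx, y, hy, rfl⟩
    refine com_mem_res (D := T a) (ih (a + 1) (by omega) (by omega) hx)
      (fun z hz => (hC z).mpr (hfix a hta (by omega) z hz)) (h.pgroup a (by omega))
      (h.norm (a + 1) a (Nat.lt_succ_self a) (by omega) x hx) ?_ hy
    obtain ⟨e, he⟩ := h.pgroup (a + 1) (by omega) ⟨x, hx⟩
    exact Nat.Coprime.coprime_dvd_left (orderOf_dvd_of_pow_eq_one (congrArg Subtype.val he))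
      (((Nat.coprime_primes (h.prime _ (by omega)) (h.prime _ (by omega))).mpr (h.ne_prime a (by omega))).pow_left e)

/-- A moved fixed vector gives a moved fixed element of the section below. -/
theorem moved_elem {j : ℕ} (hj : j + 1 ≤ m) (htop : disp (secAut h (j + 1)) = ⊤) [Fact (p j).Prime] {K : Type}
    [Field K] [CharP K (p j)] {x : Sec T (j + 1)} {w : BiDual (p j) (Mq (Sec T j)) K} (hw : lowS h K j w = w)
    (hxw : lowRep h K hj x w ≠ w) :
    ∃ c : Sec T j, secAut h j c = c ∧ ∃ t ∈ rdisp (secAut h j) (secRep h hj).range, t c ≠ c := by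
  obtain ⟨y, hy, hxy⟩ := exists_moved_fixed (p j) (Mq (Sec T j)) K (cast_r_ne_zero h K hcop (Nat.le_of_succ_le hj))
    (toM (secAut h j)) (toM (secRep h hj x)) (by rw [← map_pow, secAut_pow h hσ, map_one]) hw hxw
  obtain ⟨c, hc, rfl⟩ := exists_fixed_lift (secAut h j) (secAut_pow h hσ j) (not_dvd_sec h hcop j) hy
  refine ⟨c, hc, secRep h hj x, map_disp_mem _ _ _ (secRep_equiv h hj) (htop ▸ mem_top x), fun e => hxy ?_⟩
  rw [toM_mk, e]

/-- A moved fixed element gives a good element. -/
theorem good_of_moved_elem {C : Subgroup G} (hC : ∀ g, g ∈ C ↔ σ g = g) {i : ℕ} (hi : i + 2 ≤ m) {c : Sec T (i + 1)}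
    (hc : secAut h (i + 1) c = c) (hmove : ∃ t ∈ rdisp (secAut h (i + 1)) (secRep h hi).range, t c ≠ c) :
    Good h C i 0 := by
  haveI := Fact.mk (h.prime i (by omega))
  haveI := Fact.mk (h.prime (i + 1) (by omega))
  haveI := Fact.mk (h.prime (i + 2) hi)
  set K := AlgebraicClosure (ZMod (p i))
  haveI : CharP K (p i) := charP_of_injective_algebraMap (algebraMap (ZMod (p i)) K).injective (p i)
  obtain ⟨d, hd, hs⟩ := strong_of_moved (stage_sec h K hσ hcop hi) hc hmove
  have hm := moved_of_strong_sec h hσ hcop (Nat.le_of_succ_le hi) hd hs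
  obtain ⟨d', hd', hσd, rfl⟩ := exists_fixed_level h hσ hcop hd
  exact ⟨Nat.le_of_succ_le hi, d', hd', hσd, (hC d').mpr hσd, hm⟩

/-- The automorphism moves the top level. -/
theorem case_top {C : Subgroup G} (hC : ∀ g, g ∈ C ↔ σ g = g) {i : ℕ} (hi : i + 2 = m)
    (hne : secAut h (i + 2) ≠ 1) : Good h C i 0 := by
  subst hi
  haveI := Fact.mk (h.prime (i + 1) (by omega))
  haveI := Fact.mk (h.prime (i + 2) le_rfl)
  set K := AlgebraicClosure (ZMod (p (i + 1)))
  haveI : CharP K (p (i + 1)) :=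
    charP_of_injective_algebraMap (algebraMap (ZMod (p (i + 1))) K).injective (p (i + 1))
  have htop := sec_disp_top h le_rfl hne (fun a ha ha' => absurd ha' (not_le.mpr ha))
  obtain ⟨x, w, hw, hxw⟩ := moved_fixed (K := K) (sec_isPGroup h le_rfl) (sec_cls h le_rfl) (sec_pow_center h le_rfl)
    (prime_ne_r h hcop le_rfl) (secAut h (i + 2)) (secAut_pow h hσ _) htop (cast_r_ne_zero h K hcop (by omega))
    (cast_p_ne_zero h K le_rfl) (lowRep h K le_rfl) (lowRep_injective h K le_rfl) (lowS h K (i + 1))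
    (lowS_pow h K hσ _) (lowRep_comp h K le_rfl) (sec_exists_ne_one h le_rfl) (h.ne_prime (i + 1) (Nat.lt_succ_self _)).symm
    (prime_ne_r h hcop (by omega)) (Or.inl fun a b => (sec_top_comm h a b).1)
  obtain ⟨c, hc, hmove⟩ := moved_elem h hσ hcop le_rfl htop hw hxw
  exact good_of_moved_elem h hσ hcop hC le_rfl hc hmove

/-- The automorphism moves the level below the top. -/
theorem case_next {C : Subgroup G} (hC : ∀ g, g ∈ C ↔ σ g = g) {i : ℕ} (hi : i + 3 = m)
    (hne : secAut h (i + 2) ≠ 1) (hfix : ∀ a, i + 2 < a → a ≤ m → ∀ x ∈ T a, σ x = x) : Good h C i 0 := by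
  subst hi
  have hle : i + 2 ≤ i + 3 := Nat.le_succ _
  haveI := Fact.mk (h.prime (i + 1) (by omega))
  haveI := Fact.mk (h.prime (i + 2) hle)
  haveI := Fact.mk (h.prime (i + 3) le_rfl)
  set K := AlgebraicClosure (ZMod (p (i + 1)))
  haveI : CharP K (p (i + 1)) :=
    charP_of_injective_algebraMap (algebraMap (ZMod (p (i + 1))) K).injective (p (i + 1))
  have htop := sec_disp_top h hle hne hfix
  obtain ⟨x, w, hw, hxw⟩ := moved_fixed (K := K) (sec_isPGroup h hle) (sec_cls h hle) (sec_pow_center h hle)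
    (prime_ne_r h hcop hle) (secAut h (i + 2)) (secAut_pow h hσ _) htop (cast_r_ne_zero h K hcop (by omega))
    (cast_p_ne_zero h K hle) (lowRep h K hle) (lowRep_injective h K hle) (lowS h K (i + 1)) (lowS_pow h K hσ _)
    (lowRep_comp h K hle) (sec_exists_ne_one h hle) (h.ne_prime (i + 2) (Nat.lt_succ_self _)) (prime_ne_r h hcop le_rfl)
    (by
      refine (em (∀ a b : Sec T (i + 2), a * b = b * a)).imp_right fun hnab => ?_
      refine ⟨(secRep h le_rfl).range, secRep_range_isPGroup h le_rfl, ?_,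
        fun u hu z hz => sec_center_fixed h le_rfl hnab hu hz, (secRep_gen h le_rfl).symm⟩
      rintro _ ⟨a, rfl⟩
      obtain ⟨y, rfl⟩ := QuotientGroup.mk_surjective a
      rw [secRep_mk]
      exact secAut_comm_act h (Nat.le_succ _) le_rfl y.2 (hfix _ (Nat.lt_succ_self _) le_rfl y y.2))
  obtain ⟨c, hc, hmove⟩ := moved_elem h hσ hcop hle htop hw hxw
  exact good_of_moved_elem h hσ hcop hC hle hc hmove

end H1.Turull
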