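import Cfsg.Agent.H1.Turull.Basic

/-!
The scalar extension of an elementary abelian group, as functionals on its dual group, and the transfer of
moved fixed vectors to moved fixed elements.
-/

set_option autoImplicit false
set_option linter.style.haveILetI false
set_option linter.unusedSectionVars false

namespace H1.Turull

open Module Subgroup

universe u v

variable (ℓ : ℕ) (M : Type u) [CommGroup M] (K : Type v) [Field K]

/-- The functionals on the dual group. -/
abbrev BiDual := (Additive M →+ ZMod ℓ) →+ K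

/-- Composition with an automorphism. -/
def preAut (g : MulAut M) : (Additive M →+ ZMod ℓ) →+ (Additive M →+ ZMod ℓ) :=
  AddMonoidHom.mk' (fun f => f.comp (MonoidHom.toAdditive g.toMonoidHom)) fun _ _ => rfl

/-- The automorphisms act on the functionals. -/
def biRep : MulAut M →* Module.End K (BiDual ℓ M K) where
  toFun g :=
    { toFun := fun v => v.comp (preAut ℓ M g)
      map_add' := fun _ _ => rfl
      map_smul' := fun _ _ => rfl }
  map_one' := LinearMap.ext fun v => AddMonoidHom.ext fun f => congrArg v (AddMonoidHom.ext fun _ => rfl)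
  map_mul' g g' := LinearMap.ext fun v => AddMonoidHom.ext fun f => congrArg v (AddMonoidHom.ext fun _ => rfl)

theorem biRep_apply (g : MulAut M) (v : BiDual ℓ M K) (f : Additive M →+ ZMod ℓ) :
    biRep ℓ M K g v f = v (preAut ℓ M g f) := rfl

variable [Fact ℓ.Prime] [Finite M]

noncomputable instance biDualFiniteDimensional : FiniteDimensional K (BiDual ℓ M K) := by
  haveI : Finite (Additive M →+ ZMod ℓ) := Finite.of_injective _ DFunLike.coe_injective
  let ι : BiDual ℓ M K →ₗ[K] ((Additive M →+ ZMod ℓ) → K) :=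
    { toFun := fun v => v, map_add' := fun _ _ => rfl, map_smul' := fun _ _ => rfl }
  exact FiniteDimensional.of_injective ι DFunLike.coe_injective

variable [CharP K ℓ]

omit [Finite M] in
/-- The functionals see the automorphisms. -/
theorem biRep_injective (hM : ∀ m : M, m ^ ℓ = 1) : Function.Injective (biRep ℓ M K) := by
  have hEA : ∀ a : Additive M, ℓ • a = 0 := fun a => congrArg Additive.ofMul (hM a.toMul)
  obtain ⟨hmod⟩ : Nonempty (Module (ZMod ℓ) (Additive M)) := ⟨AddCommGroup.zmodModule hEA⟩
  intro g g' h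
  refine MulEquiv.ext fun m => Additive.ofMul.injective (sub_eq_zero.mp ?_)
  refine (Module.forall_dual_apply_eq_zero_iff (ZMod ℓ) _).mp fun φ => ?_
  let cast' : ZMod ℓ →+* K := ZMod.castHom (dvd_refl ℓ) K
  let v : BiDual ℓ M K := cast'.toAddMonoidHom.comp
    (AddMonoidHom.mk' (fun f : Additive M →+ ZMod ℓ => f (Additive.ofMul m)) fun _ _ => rfl)
  have h1 := congrArg (fun T : Module.End K (BiDual ℓ M K) => T v φ.toAddMonoidHom) h
  rw [map_sub, sub_eq_zero]
  exact cast'.injective h1

theorem biRep_sum (s : Finset ℕ) (h : ℕ → MulAut M) (v : BiDual ℓ M K) (f : Additive M →+ ZMod ℓ) :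
    (∑ k ∈ s, biRep ℓ M K (h k) v) f = v (∑ k ∈ s, preAut ℓ M (h k) f) := by
  rw [AddMonoidHom.finsetSum_apply, map_sum]
  rfl

theorem tr_biRep_apply (θ : MulAut M) (r : ℕ) (v : BiDual ℓ M K) (f : Additive M →+ ZMod ℓ) :
    tr (biRep ℓ M K θ) r v f = v (∑ k ∈ Finset.range r, preAut ℓ M (θ ^ k) f) := by
  rw [tr_apply, ← biRep_sum]
  refine congrArg (fun w : BiDual ℓ M K => w f) (Finset.sum_congr rfl fun k _ => ?_)
  rw [map_pow]

theorem sum_preAut_apply (θ : MulAut M) (r : ℕ) (f : Additive M →+ ZMod ℓ) (a : Additive M) :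
    (∑ k ∈ Finset.range r, preAut ℓ M (θ ^ k) f) a = f (Additive.ofMul (orbitProd θ r a.toMul)) := by
  rw [AddMonoidHom.finsetSum_apply, orbitProd, ofMul_prod, map_sum]
  rfl

/-- A moved fixed vector gives a moved fixed element. -/
theorem exists_moved_fixed {r : ℕ} (hr : (r : K) ≠ 0) (θ g : MulAut M) (hθ : θ ^ r = 1) {w : BiDual ℓ M K}
    (hSw : biRep ℓ M K θ w = w) (hgw : biRep ℓ M K g w ≠ w) : ∃ c : M, θ c = c ∧ g c ≠ c := by
  by_contra hno
  push Not at hno
  apply hgw
  have h1 : biRep ℓ M K g (tr (biRep ℓ M K θ) r w) = tr (biRep ℓ M K θ) r w := by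
    refine AddMonoidHom.ext fun f => ?_
    rw [biRep_apply, tr_biRep_apply, tr_biRep_apply]
    refine congrArg w (AddMonoidHom.ext fun a => ?_)
    rw [sum_preAut_apply, sum_preAut_apply]
    exact congrArg (fun m => f (Additive.ofMul m)) (hno _ (apply_orbitProd θ hθ a.toMul))
  rw [tr_of_fixed r hSw, map_smul] at h1
  exact smul_right_injective _ hr h1

/-- A moved orbit sum of a displacement gives a moved orbit product of a displacement. -/
theorem exists_moved_disp {r : ℕ} (θ x e : MulAut M) {v : BiDual ℓ M K}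
    (h : biRep ℓ M K e (tr (biRep ℓ M K θ) r (biRep ℓ M K x v - v)) ≠ tr (biRep ℓ M K θ) r (biRep ℓ M K x v - v)) :
    ∃ m : M, e (orbitProd θ r (x m / m)) ≠ orbitProd θ r (x m / m) := by
  by_contra hno
  push Not at hno
  apply h
  refine AddMonoidHom.ext fun f => ?_
  rw [biRep_apply, tr_biRep_apply, tr_biRep_apply, AddMonoidHom.sub_apply, AddMonoidHom.sub_apply,
    biRep_apply, biRep_apply, ← map_sub, ← map_sub]
  refine congrArg v (AddMonoidHom.ext fun a => ?_)
  rw [AddMonoidHom.sub_apply, AddMonoidHom.sub_apply]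
  have key : ∀ f : Additive M →+ ZMod ℓ,
      preAut ℓ M x (∑ k ∈ Finset.range r, preAut ℓ M (θ ^ k) f) a -
          (∑ k ∈ Finset.range r, preAut ℓ M (θ ^ k) f) a =
        f (Additive.ofMul (orbitProd θ r (x a.toMul / a.toMul))) := by
    intro f
    show (∑ k ∈ Finset.range r, preAut ℓ M (θ ^ k) f) (Additive.ofMul (x a.toMul)) - _ = _
    rw [sum_preAut_apply, sum_preAut_apply, ← map_sub, ← ofMul_div, toMul_ofMul]
    refine congrArg (fun m => f (Additive.ofMul m)) ?_
    rw [orbitProd, orbitProd, orbitProd, ← Finset.prod_div_distrib]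
    exact Finset.prod_congr rfl fun k _ => (map_div _ _ _).symm
  rw [key, key]
  exact congrArg (fun m => f (Additive.ofMul m)) (hno a.toMul)

end H1.Turull
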