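import Cfsg.Agent.H1.Turull.Basic

/-!
Automorphisms preserving a form on an elementary abelian group: commuting with an irreducible automorphism of
prime order dividing `p ^ k + 1` forces order dividing `p ^ k + 1`.
-/

set_option autoImplicit false
set_option linter.style.haveILetI false

namespace H1.Turull

open Module Subgroup
open H1.Shult

universe u v

/-- A nondegenerate multiplicative form. -/
structure IsForm {E : Type u} [CommGroup E] {R : Type v} [Field R] (b : E → E → R) : Prop where
  mul_left : ∀ x x' y, b (x * x') y = b x y * b x' y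
  mul_right : ∀ x y y', b x (y * y') = b x y * b x y'
  one_left : ∀ y, b 1 y = 1
  one_right : ∀ x, b x 1 = 1
  nondeg : ∀ y, (∀ x, b x y = 1) → y = 1

/-- An automorphism as an additive endomorphism. -/
def autEnd (E : Type u) [CommGroup E] : MulAut E →* AddMonoid.End (Additive E) where
  toFun f := MonoidHom.toAdditive f.toMonoidHom
  map_one' := AddMonoidHom.ext fun _ => rfl
  map_mul' _ _ := AddMonoidHom.ext fun _ => rfl

theorem autEnd_apply {E : Type u} [CommGroup E] (f : MulAut E) (x : Additive E) :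
    autEnd E f x = Additive.ofMul (f x.toMul) := rfl

theorem autEnd_injective (E : Type u) [CommGroup E] : Function.Injective (autEnd E) := fun f g h =>
  MulEquiv.ext fun x =>
    congrArg (fun φ : AddMonoid.End (Additive E) => (φ (Additive.ofMul x)).toMul) h

/-- A commuting automorphism preserving the form has order dividing `p ^ k + 1`. -/
theorem pow_eq_one_of_form {E : Type u} [CommGroup E] [Finite E] [Nontrivial E] {p : ℕ} [Fact p.Prime]
    (hE : ∀ e : E, e ^ p = 1) {r : ℕ} (θ z : MulAut E) (hθ : θ ^ r = 1) {k : ℕ} (hk : r ∣ p ^ k + 1)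
    {R : Type v} [Field R] {b : E → E → R} (hb : IsForm b) (hbθ : ∀ x y, b (θ x) (θ y) = b x y)
    (hbz : ∀ x y, b (z x) (z y) = b x y)
    (hirr : ∀ U : Subgroup E, (∀ x ∈ U, θ x ∈ U) → U = ⊥ ∨ U = ⊤)
    (hcomm : θ * z = z * θ) : z ^ (p ^ k + 1) = 1 := by
  classical
  have hp : p.Prime := Fact.out
  set A := Additive E
  let T : AddMonoid.End A := autEnd E θ
  let bb : A → A → R := fun x y => b x.toMul y.toMul
  have hbl : ∀ x x' y, bb (x + x') y = bb x y * bb x' y := fun x x' y => hb.mul_left _ _ _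
  have hbr : ∀ x y y', bb x (y + y') = bb x y * bb x y' := fun x y y' => hb.mul_right _ _ _
  let S : Subsemiring (AddMonoid.End A) := Subsemiring.closure {T}
  haveI : Nontrivial A := (Additive.ofMul (α := E)).symm.nontrivial
  haveI : Nontrivial (AddMonoid.End A) := by
    obtain ⟨x, hx⟩ := exists_ne (0 : A)
    exact ⟨⟨1, 0, fun h => hx (congrArg (fun φ : AddMonoid.End A => φ x) h)⟩⟩
  haveI : CharP (AddMonoid.End A) p := by
    refine (CharP.charP_iff_prime_eq_zero hp).mpr (AddMonoidHom.ext fun x => ?_)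
    show (p : AddMonoid.End A) x = 0
    rw [AddMonoid.End.natCast_apply]
    exact congrArg Additive.ofMul (hE x.toMul)
  have hTcen : ∀ f ∈ S, Commute T f := by
    intro f hf
    induction hf using Subsemiring.closure_induction with
    | mem x hx => rw [Set.mem_singleton_iff.mp hx]
    | zero => exact Commute.zero_right _
    | one => exact Commute.one_right _
    | add x y _ _ hx hy => exact hx.add_right hy
    | mul x y _ _ hx hy => exact hx.mul_right hy
  have hScomm : ∀ f ∈ S, ∀ g ∈ S, Commute f g := by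
    intro f hf g hg
    induction hf using Subsemiring.closure_induction with
    | mem x hx => rw [Set.mem_singleton_iff.mp hx]; exact hTcen g hg
    | zero => exact Commute.zero_left _
    | one => exact Commute.one_left _
    | add x y _ _ hx hy => exact hx.add_left hy
    | mul x y _ _ hx hy => exact hx.mul_left hy
  -- the adjoint is the Frobenius power
  have hadj : ∀ f ∈ S, ∀ u v, bb (f u) v = bb u ((f ^ (p ^ k)) v) := by
    intro f hf
    induction hf using Subsemiring.closure_induction with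
    | mem x hx =>
      rw [Set.mem_singleton_iff.mp hx]
      intro u v
      show b (θ u.toMul) v.toMul = b u.toMul (((autEnd E θ) ^ (p ^ k)) v).toMul
      rw [← map_pow, ← hbθ u.toMul _]
      congr 1
      show v.toMul = θ ((θ ^ (p ^ k)) v.toMul)
      rw [← MulAut.mul_apply, ← pow_succ']
      obtain ⟨c, hc⟩ := hk
      rw [hc, pow_mul, hθ, one_pow, MulAut.one_apply]
    | zero =>
      intro u v
      rw [zero_pow (pow_ne_zero _ hp.ne_zero)]
      exact (hb.one_left _).trans (hb.one_right _).symm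
    | one => intro u v; rw [one_pow]; rfl
    | add x y hx hy ihx ihy =>
      intro u v
      rw [add_pow_char_pow_of_commute p k (hScomm x hx y hy)]
      show bb (x u + y u) v = bb u ((x ^ (p ^ k)) v + (y ^ (p ^ k)) v)
      rw [hbl, hbr, ihx, ihy]
    | mul x y hx hy ihx ihy =>
      intro u v
      rw [(hScomm x hx y hy).mul_pow, ((hScomm x hx y hy).pow_pow _ _).eq]
      show bb (x (y u)) v = bb u ((y ^ (p ^ k)) ((x ^ (p ^ k)) v))
      rw [ihx, ihy]
  -- the commuting automorphism is a polynomial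
  obtain ⟨w0, hw0⟩ := exists_ne (1 : E)
  let U : Subgroup E :=
    { carrier := {x | ∃ f ∈ S, (f (Additive.ofMul w0)).toMul = x}
      one_mem' := ⟨0, zero_mem _, rfl⟩
      mul_mem' := by
        rintro x y ⟨f, hf, rfl⟩ ⟨g, hg, rfl⟩
        exact ⟨f + g, add_mem hf hg, rfl⟩
      inv_mem' := by
        rintro x ⟨f, hf, rfl⟩
        refine ⟨(p - 1) • f, nsmul_mem hf _, ?_⟩
        show ((p - 1) • f (Additive.ofMul w0)).toMul = _
        rw [toMul_nsmul]
        refine eq_inv_of_mul_eq_one_left ?_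
        rw [← pow_succ, Nat.sub_add_cancel hp.one_le, hE] }
  have hUtop : U = ⊤ := by
    refine (hirr U ?_).resolve_left fun h => hw0 ?_
    · rintro x ⟨f, hf, rfl⟩
      exact ⟨T * f, mul_mem (Subsemiring.subset_closure rfl) hf, rfl⟩
    · exact (Subgroup.eq_bot_iff_forall _).mp h w0 ⟨1, one_mem _, rfl⟩
  obtain ⟨f, hf, hfw⟩ : z w0 ∈ U := hUtop ▸ Subgroup.mem_top _
  have hfz : f = autEnd E z := by
    let V : Subgroup E :=
      { carrier := {x | (f (Additive.ofMul x)).toMul = z x}
        one_mem' := by simp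
        mul_mem' := fun {x y} hx hy => by
          simp only [Set.mem_setOf_eq] at hx hy ⊢
          rw [ofMul_mul, map_add, toMul_add, hx, hy, map_mul]
        inv_mem' := fun {x} hx => by
          simp only [Set.mem_setOf_eq] at hx ⊢
          rw [ofMul_inv, map_neg, toMul_neg, hx, map_inv] }
    have hV : V = ⊤ := by
      refine (hirr V fun x hx => ?_).resolve_left fun h => hw0 ((Subgroup.eq_bot_iff_forall _).mp h w0 hfw)
      show (f (T (Additive.ofMul x))).toMul = z (θ x)
      have h1 := congrArg (fun φ : AddMonoid.End A => (φ (Additive.ofMul x)).toMul) (hTcen f hf).eq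
      refine h1.symm.trans ?_
      show θ (f (Additive.ofMul x)).toMul = _
      rw [show (f (Additive.ofMul x)).toMul = z x from hx, ← MulAut.mul_apply, hcomm, MulAut.mul_apply]
    refine AddMonoidHom.ext fun x => ?_
    have h2 : (f (Additive.ofMul x.toMul)).toMul = z x.toMul := (hV ▸ Subgroup.mem_top x.toMul : x.toMul ∈ V)
    exact congrArg Additive.ofMul h2
  -- conclusion
  have key : ∀ y, (z ^ (p ^ k)) y = z⁻¹ y := by
    intro y
    rw [← div_eq_one]
    refine hb.nondeg _ fun x => ?_
    have h1 := hadj f hf (Additive.ofMul x) (Additive.ofMul y)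
    rw [hfz, ← map_pow] at h1
    change b (z x) y = b x ((z ^ (p ^ k)) y) at h1
    have h2 : b (z x) y = b x (z⁻¹ y) := by
      conv_lhs => rw [show y = z (z⁻¹ y) from (MulAut.apply_inv_self _ z y).symm]
      exact hbz _ _
    have h3 := hb.mul_right x ((z ^ (p ^ k)) y / z⁻¹ y) (z⁻¹ y)
    rw [div_mul_cancel, ← h1, h2] at h3
    have h0 : b x (z⁻¹ y) ≠ 0 := fun h => by
      have := hb.mul_right x (z⁻¹ y) (z⁻¹ y)⁻¹
      rw [mul_inv_cancel, hb.one_right, h, zero_mul] at this
      exact one_ne_zero this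
    exact (mul_eq_right₀ h0).mp h3.symm
  rw [pow_succ', MulEquiv.ext key, mul_inv_cancel]

/-- The arithmetic behind irreducibility. -/
theorem irred_arith {p k r j : ℕ} (hp : p.Prime) (hr : r.Prime) (hr2 : r ≠ 2)
    (hk : p ^ k + 1 = r ∨ (p ^ k + 1 = 2 * r ∧ p ≠ 2)) (hj : j ≤ 2 * k) (hdiv : r ∣ p ^ j - 1) :
    j = 0 ∨ j = 2 * k := by
  have hk0 : k ≠ 0 := by
    intro h
    have := hr.two_le
    rcases hk with h1 | ⟨h1, -⟩ <;> rw [h, pow_zero] at h1 <;> omega
  have hdk : r ∣ p ^ k + 1 := by
    rcases hk with h1 | ⟨h1, -⟩ <;> rw [h1]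
    exact dvd_mul_left _ _
  -- a multiple of `r` which is too small
  have small : ∀ x : ℕ, r ∣ x → x < p ^ k + 1 → (p = 2 ∨ Even x) → x = 0 := by
    intro x hx hlt hev
    rcases hk with h1 | ⟨h1, hp2⟩
    · exact Nat.eq_zero_of_dvd_of_lt hx (h1 ▸ hlt)
    · obtain ⟨c, rfl⟩ := hx
      have hc : c < 2 := Nat.lt_of_mul_lt_mul_left (show r * c < r * 2 by rw [mul_comm r 2, ← h1]; exact hlt)
      interval_cases c
      · simp
      · exfalso
        rcases hev with h2 | h2
        · exact hp2 h2
        · rw [mul_one] at h2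
          rcases hr.eq_two_or_odd' with h3 | h3
          · exact hr2 h3
          · exact (Nat.not_even_iff_odd.mpr h3) h2
  have hpar : ∀ i, i ≠ 0 → (p = 2 ∨ Even (p ^ i - 1)) := by
    intro i hi
    rcases hp.eq_two_or_odd' with h | h
    · exact Or.inl h
    · refine Or.inr ?_
      obtain ⟨c, hc⟩ := h.pow (n := i)
      exact ⟨c, by omega⟩
  rcases lt_trichotomy j k with hjk | hjk | hjk
  · left
    by_contra hj0
    have h0 := small _ hdiv (by have := Nat.pow_le_pow_right hp.pos hjk.le; omega) (hpar j hj0)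
    have : 2 ≤ p ^ j := hp.two_le.trans (Nat.le_self_pow hj0 p)
    omega
  · exfalso
    rw [hjk] at hdiv
    have h1 : r ∣ 2 := by
      have := Nat.dvd_sub hdk hdiv
      have h2 : 1 ≤ p ^ k := Nat.one_le_pow _ _ hp.pos
      rwa [show p ^ k + 1 - (p ^ k - 1) = 2 by omega] at this
    exact hr2 ((Nat.prime_dvd_prime_iff_eq hr Nat.prime_two).mp h1)
  · by_contra hne
    push Not at hne
    obtain ⟨i, rfl⟩ : ∃ i, j = k + i := ⟨j - k, by omega⟩
    have hik : i < k := by omega
    have h1 : 1 ≤ p ^ (k + i) := Nat.one_le_pow _ _ hp.pos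
    have h2 : r ∣ p ^ i + 1 := by
      have h3 : r ∣ (p ^ k + 1) * p ^ i := dvd_mul_of_dvd_left hdk _
      have h4 := Nat.dvd_sub h3 hdiv
      rwa [show (p ^ k + 1) * p ^ i - (p ^ (k + i) - 1) = p ^ i + 1 by
        rw [add_mul, one_mul, ← pow_add]; omega] at h4
    have h3 := small _ h2 (by have := Nat.pow_lt_pow_right hp.one_lt hik; omega) ?_
    · omega
    · rcases hp.eq_two_or_odd' with h | h
      · exact Or.inl h
      · exact Or.inr (h.pow.add_odd odd_one)

/-- An invariant subgroup without fixed points has order `1` modulo `r`. -/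
theorem dvd_card_sub_one {E : Type u} [CommGroup E] [Finite E] {r : ℕ} [Fact r.Prime] (θ : MulAut E)
    (hθ : θ ^ r = 1) (hfpf : ∀ x, θ x = x → x = 1) (U : Subgroup E) (hU : ∀ x ∈ U, θ x ∈ U) :
    r ∣ Nat.card U - 1 := by
  let e : MulAut U := H28.subAut θ U hU
  have her : e ^ r = 1 := MulEquiv.ext fun x => Subtype.ext (by rw [H28.subAut_pow_coe, hθ]; rfl)
  obtain ⟨j, -, hj⟩ := (Nat.dvd_prime_pow (Fact.out : r.Prime)).mp
    (show orderOf e ∣ r ^ 1 by rw [pow_one]; exact orderOf_dvd_of_pow_eq_one her)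
  have hP : IsPGroup r (zpowers e) := IsPGroup.of_card (n := j) (by rw [Nat.card_zpowers, hj])
  have h := hP.card_modEq_card_fixedPoints U
  have hfix : MulAction.fixedPoints (zpowers e) U = {1} := by
    ext x
    constructor
    · intro hx
      exact Subtype.ext (hfpf _ (congrArg Subtype.val (hx ⟨e, mem_zpowers e⟩)))
    · rintro rfl ⟨g, hg⟩
      exact map_one g
  rw [hfix] at h
  rw [Nat.card_unique (α := ({1} : Set U))] at h
  exact (Nat.modEq_iff_dvd' Nat.card_pos).mp h.symm

/-- Irreducibility of an invariant group of order `p ^ (2 k)`. -/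
theorem irreducible_of_card {E : Type u} [CommGroup E] [Finite E] {p : ℕ} [Fact p.Prime] {r : ℕ} [Fact r.Prime]
    (θ : MulAut E) (hθ : θ ^ r = 1) (hfpf : ∀ x, θ x = x → x = 1) {k : ℕ} (hr2 : r ≠ 2)
    (hk : p ^ k + 1 = r ∨ (p ^ k + 1 = 2 * r ∧ p ≠ 2)) (hcard : Nat.card E = p ^ (2 * k))
    (U : Subgroup E) (hU : ∀ x ∈ U, θ x ∈ U) : U = ⊥ ∨ U = ⊤ := by
  have hp : p.Prime := Fact.out
  obtain ⟨j, hj, hUj⟩ := (Nat.dvd_prime_pow hp).mp (hcard ▸ U.card_subgroup_dvd_card)
  rcases irred_arith hp Fact.out hr2 hk hj (hUj ▸ dvd_card_sub_one θ hθ hfpf U hU) with h | h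
  · exact Or.inl (Subgroup.card_eq_one.mp (by rw [hUj, h, pow_zero]))
  · exact Or.inr (Subgroup.eq_top_of_card_eq U (by rw [hUj, h, hcard]))

/-- In an abelian group of exponent prime to `r` no nontrivial displacement is fixed. -/
theorem fixed_disp_eq_one {E : Type u} [CommGroup E] {p : ℕ} (hE : ∀ e : E, e ^ p = 1) {r : ℕ}
    (hpr : p.Coprime r) (θ : MulAut E) (hθ : θ ^ r = 1) {x : E} (hx : x ∈ disp θ) (hfix : θ x = x) :
    x = 1 := by
  have hker : ∀ a : E, orbitProd θ r (a⁻¹ * θ a) = 1 := by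
    intro a
    have h1 := apply_orbitProd θ hθ a
    rw [orbitProd] at h1 ⊢
    rw [map_prod] at h1
    simp only [map_mul, map_inv, Finset.prod_mul_distrib, Finset.prod_inv_distrib]
    rw [inv_mul_eq_one, eq_comm]
    refine Eq.trans (Finset.prod_congr rfl fun i _ => ?_) h1
    rw [← MulAut.mul_apply, ← MulAut.mul_apply, ← pow_succ', pow_succ]
  have h0 : orbitProd θ r x = 1 := by
    clear hfix
    induction hx using Subgroup.closure_induction with
    | mem y hy => obtain ⟨a, rfl⟩ := hy; exact hker a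
    | one => simp [orbitProd]
    | mul a b _ _ ha hb =>
      simp only [orbitProd] at ha hb ⊢
      rw [Finset.prod_congr rfl fun i _ => map_mul (θ ^ i) a b, Finset.prod_mul_distrib, ha, hb, one_mul]
    | inv a _ ha =>
      simp only [orbitProd] at ha ⊢
      rw [Finset.prod_congr rfl fun i _ => map_inv (θ ^ i) a, Finset.prod_inv_distrib, ha, inv_one]
  rw [orbitProd_of_fixed θ r x hfix] at h0
  have := pow_gcd_eq_one.mpr ⟨hE x, h0⟩
  rwa [hpr, pow_one] at this

/-- The form stays nondegenerate on the displacements. -/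
theorem nondeg_disp {E : Type u} [CommGroup E] {p : ℕ} (hE : ∀ e : E, e ^ p = 1) {r : ℕ}
    (hpr : p.Coprime r) (θ : MulAut E) (hθ : θ ^ r = 1) {R : Type v} [Field R] {b : E → E → R} (hb : IsForm b)
    (hbθ : ∀ x y, b (θ x) (θ y) = b x y) {x : E} (hx : x ∈ disp θ) (h : ∀ y ∈ disp θ, b y x = 1) : x = 1 := by
  refine fixed_disp_eq_one hE hpr θ hθ hx ?_
  rw [← div_eq_one]
  refine hb.nondeg _ fun e' => ?_
  obtain ⟨e, rfl⟩ := θ.surjective e'
  have h1 : b (θ e) x = b e x := by
    have h2 := hb.mul_left e (e⁻¹ * θ e) x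
    rwa [mul_inv_cancel_left, h _ (disp_mem θ e), mul_one] at h2
  have h3 := hb.mul_right (θ e) (θ x / x) x
  rw [div_mul_cancel, hbθ, h1] at h3
  have h0 : b e x ≠ 0 := fun h0 => by
    have := hb.mul_right e x x⁻¹
    rw [mul_inv_cancel, hb.one_right, h0, zero_mul] at this
    exact one_ne_zero this
  exact (mul_eq_right₀ h0).mp h3.symm

end H1.Turull
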