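import Cfsg.Agent.H1.Turull.Start

/-!
Automorphisms which are trivial on the fixed vectors: they act as involutions on the quotients by the radicals,
and if they fix all characters of the centre their commutators are trivial.
-/

set_option autoImplicit false
set_option linter.style.haveILetI false

namespace H1.Turull

open Module Subgroup
open H1.Shult

universe u v w

variable {Q : Type u} [Group Q] [Finite Q] {K : Type v} [Field K] [IsAlgClosed K]
  {V : Type w} [AddCommGroup V] [Module K V] [FiniteDimensional K V]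
  {q : ℕ} [Fact q.Prime] (hQ : IsPGroup q Q) (hcls : ∀ a b : Q, com a b ∈ center Q)
  (hpow : ∀ a : Q, a ^ q ∈ center Q) {r : ℕ} [Fact r.Prime] (hqr : q ≠ r) (θ : MulAut Q) (hθ : θ ^ r = 1)
  (htop : disp θ = ⊤) (hrK : (r : K) ≠ 0) (hqK : (q : K) ≠ 0) (ρ : Q →* Module.End K V)
  (hρ : Function.Injective ρ) (S : Module.End K V) (hS : S ^ r = 1) (hcomp : ∀ a, S * ρ a = ρ (θ a) * S)

omit [FiniteDimensional K V] [IsAlgClosed K] in
include hθ htop hqK in
/-- An automorphism trivial on the fixed vectors fixes every character of a commutative group. -/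
theorem char_fixed_of_fix {l : ℕ} [Fact l.Prime] (hlr : l ≠ r) (hS' : S ^ r = 1)
    (hcomp' : ∀ a, S * ρ a = ρ (θ a) * S) (g : MulAut Q) {e : ℕ} (hge : g ^ l ^ e = 1) (hgθ : θ * g = g * θ)
    (G : Module.End K V) (hSG : G * S = S * G) (hgρ : ∀ a, G * ρ a = ρ (g a) * G)
    (hGfix : ∀ v, S v = v → G v = v) {v : V} (hv : v ≠ 0) (χ : Q → K) (hχ : ∀ a, ρ a v = χ a • v) (a : Q) :
    χ (g a) = χ a := by
  classical
  have hr : r.Prime := Fact.out
  obtain ⟨h1, hm⟩ := eigen_mul ρ hv hχ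
  by_contra hne
  -- moved by `θ`
  obtain ⟨b0, hb0⟩ : ∃ b, χ (θ b) ≠ χ b := by
    by_contra hfix
    push Not at hfix
    have hker : disp θ ≤ ({ toFun := χ, map_one' := h1, map_mul' := hm } : Q →* K).ker := by
      rw [disp, closure_le]
      rintro _ ⟨b, rfl⟩
      show χ (b⁻¹ * θ b) = 1
      rw [hm, hfix b, ← hm, inv_mul_cancel, h1]
    have hone : ∀ b, χ b = 1 := fun b => hker (htop ▸ mem_top b)
    exact hne (by rw [hone, hone])
  let tw : ℕ → Q → K := fun k x => χ (((θ ^ k)⁻¹ : MulAut Q) x)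
  let ψ' : Q → K := fun x => χ ((g⁻¹ : MulAut Q) x)
  have htw : ∀ k x, ρ x ((S ^ k) v) = tw k x • (S ^ k) v := by
    intro k x
    conv_lhs => rw [show x = (θ ^ k) (((θ ^ k)⁻¹ : MulAut Q) x) from (MulAut.apply_inv_self _ _ _).symm]
    rw [← Module.End.mul_apply, ← pow_compat ρ θ S hcomp', Module.End.mul_apply, hχ, map_smul]
  have hcS : ∀ k : ℕ, G * S ^ k = S ^ k * G := fun k => ((show Commute G S from hSG).pow_right k).eq
  have hGk : ∀ k x, ρ x ((S ^ k) (G v)) = tw k ((g⁻¹ : MulAut Q) x) • (S ^ k) (G v) := by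
    intro k x
    rw [← Module.End.mul_apply (S ^ k) G, ← hcS, Module.End.mul_apply]
    conv_lhs => rw [show x = g ((g⁻¹ : MulAut Q) x) from (MulAut.apply_inv_self _ _ _).symm]
    rw [← Module.End.mul_apply, ← hgρ, Module.End.mul_apply, htw, map_smul]
  have hinj : ∀ i j, i < j → j < r → tw i ≠ tw j := by
    intro i j hij hj h
    have hd : ∀ x, χ ((θ ^ (j - i)) x) = χ x := by
      intro x
      have := congrFun h ((θ ^ j) x)
      simp only [tw, MulAut.inv_apply_self] at this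
      rw [← this, show (θ ^ j) x = (θ ^ i) ((θ ^ (j - i)) x) by
        rw [← MulAut.mul_apply, ← pow_add, Nat.add_sub_cancel' hij.le], MulAut.inv_apply_self]
    have hiter : ∀ (s : ℕ) x, χ ((θ ^ ((j - i) * s)) x) = χ x := by
      intro s
      induction s with
      | zero => intro x; rfl
      | succ s ih => intro x; rw [Nat.mul_succ, pow_add, MulAut.mul_apply, ih, hd]
    obtain ⟨t, -, ht⟩ := Nat.exists_mul_mod_eq_one_of_coprime
      (hr.coprime_iff_not_dvd.mpr (Nat.not_dvd_of_pos_of_lt (Nat.sub_pos_of_lt hij) (by omega))).symm hr.one_lt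
    have := hiter t b0
    rw [← Nat.mod_add_div ((j - i) * t) r, ht, pow_add, pow_one, pow_mul, hθ, one_pow, mul_one] at this
    exact hb0 this
  -- the two orbits meet
  obtain ⟨k, hk, hkeq⟩ : ∃ k < r, ∀ x, χ ((g⁻¹ : MulAut Q) x) = tw k x := by
    by_contra hno
    push Not at hno
    have hG1 : G (tr S r v) = tr S r v := hGfix _ (apply_tr hS' v)
    have hdiff : ∀ i j, i < r → j < r → tw i ≠ fun x => tw j ((g⁻¹ : MulAut Q) x) := by
      intro i j hi hj h
      obtain ⟨x, hx⟩ := hno ((i + (r - j)) % r) (Nat.mod_lt _ hr.pos)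
      apply hx
      have hgk : ∀ (n : ℕ) y, (g⁻¹ : MulAut Q) ((θ ^ n) y) = (θ ^ n) ((g⁻¹ : MulAut Q) y) := fun n y => by
        rw [← MulAut.mul_apply, ← ((show Commute θ g from hgθ).inv_right.pow_left n).eq, MulAut.mul_apply]
      have h1 := congrFun h ((θ ^ j) x)
      simp only [tw] at h1
      rw [hgk, MulAut.inv_apply_self] at h1
      rw [← h1]
      have hsum : θ ^ j * θ ^ ((i + (r - j)) % r) = θ ^ i := by
        rw [← pow_add, pow_eq_pow_mod _ hθ, Nat.add_mod_mod, show j + (i + (r - j)) = i + r by omega,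
          Nat.add_mod_right, Nat.mod_eq_of_lt hi]
      show χ _ = χ _
      congr 1
      rw [← MulAut.mul_apply, ← hsum, mul_inv_rev, inv_mul_cancel_right]
    let y : ℕ ⊕ ℕ → V := Sum.elim (fun k => (S ^ k) v) (fun k => -(S ^ k) (G v))
    let ch : ℕ ⊕ ℕ → Q → K := Sum.elim tw (fun k x => tw k ((g⁻¹ : MulAut Q) x))
    have hs : ∑ i ∈ (Finset.range r).disjSum (Finset.range r), y i = 0 := by
      rw [Finset.sum_disjSum]
      show ∑ k ∈ Finset.range r, (S ^ k) v + ∑ k ∈ Finset.range r, -(S ^ k) (G v) = 0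
      rw [Finset.sum_neg_distrib, ← tr_apply, ← tr_apply, ← Module.End.mul_apply, ← commute_tr hSG,
        Module.End.mul_apply, hG1, add_neg_cancel]
    have h0 := eigen_sum_eq_zero (fun a => ρ a) _ y ch ?_ ?_ hs (Sum.inl 0)
      (Finset.inl_mem_disjSum.mpr (Finset.mem_range.mpr hr.pos))
    · exact hv (by simpa [y] using h0)
    · intro i hi j hj h
      rcases i with i | i <;> rcases j with j | j <;>
        simp only [Finset.inl_mem_disjSum, Finset.inr_mem_disjSum, Finset.mem_range] at hi hj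
      · rcases lt_trichotomy i j with hl | hl | hl
        · exact absurd h (hinj i j hl hj)
        · rw [hl]
        · exact absurd h.symm (hinj j i hl hi)
      · exact absurd h (hdiff i j hi hj)
      · exact absurd h.symm (hdiff j i hj hi)
      · have h' : tw i = tw j := funext fun x => by
          have := congrFun h (g x)
          simpa [ch] using this
        rcases lt_trichotomy i j with hl | hl | hl
        · exact absurd h' (hinj i j hl hj)
        · rw [hl]
        · exact absurd h'.symm (hinj j i hl hi)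
    · intro i _ x
      rcases i with i | i
      · exact htw i x
      · show ρ x (-(S ^ i) (G v)) = _ • -(S ^ i) (G v)
        rw [map_neg, smul_neg, hGk]
        rfl
  -- so it is the trivial shift
  have hiter : ∀ (n : ℕ) x, χ (((g⁻¹) ^ n : MulAut Q) x) = χ (((θ ^ k)⁻¹ ^ n : MulAut Q) x) := by
    intro n
    induction n with
    | zero => intro x; rfl
    | succ n ih =>
      intro x
      rw [pow_succ', MulAut.mul_apply, hkeq]
      show χ _ = _
      have hc : (θ ^ k)⁻¹ * (g⁻¹) ^ n = (g⁻¹) ^ n * (θ ^ k)⁻¹ :=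
        (((show Commute θ g from hgθ).pow_left k).inv_inv.pow_right n).eq
      rw [← MulAut.mul_apply, hc, MulAut.mul_apply, ih, pow_succ, MulAut.mul_apply]
  obtain ⟨t, -, ht⟩ : ∃ t, t < r ∧ l ^ e * t % r = 1 := Nat.exists_mul_mod_eq_one_of_coprime
    (((Nat.coprime_primes Fact.out hr).mpr hlr).pow_left e) hr.one_lt
  have h2 : ∀ x, χ (((θ ^ k)⁻¹ : MulAut Q) x) = χ x := by
    intro x
    have := hiter (l ^ e * t) x
    rw [pow_mul, inv_pow, hge, inv_one, one_pow, MulAut.one_apply] at this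
    rw [this, show ((θ ^ k)⁻¹) ^ (l ^ e * t) = (θ ^ k)⁻¹ by
      rw [← Nat.mod_add_div (l ^ e * t) r, ht, pow_add, pow_one, pow_mul, inv_pow, ← pow_mul, mul_comm k,
        pow_mul, hθ, one_pow, inv_one, one_pow, mul_one]]
  apply hne
  have := hkeq (g a)
  rw [MulAut.inv_apply_self] at this
  rw [this]
  exact (h2 (g a)).symm

include hQ hpow hqr hθ htop hrK hS hcomp in
/-- The involutions on the quotient by the radical. -/
theorem gauge {l : ℕ} [Fact l.Prime] (hlq : l ≠ q) (hlr : l ≠ r) {ψ : Q → K}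
    (hψ : IsCentralChar ψ) (hψθ : ∀ z ∈ center Q, ψ (θ z) = ψ z) (hblock : block ρ ψ ≠ ⊥) (g : MulAut Q)
    {e' : ℕ} (hge : g ^ l ^ e' = 1) (hgθ : θ * g = g * θ) (hgZ : ∀ z ∈ center Q, g z = z)
    (G : Module.End K V) (hGe : G ^ l ^ e' = 1) (hSG : G * S = S * G) (hgρ : ∀ a, G * ρ a = ρ (g a) * G)
    (hGfix : ∀ v, S v = v → G v = v)
    (hne : radAut hψ hcls g (fun z hz => by rw [hgZ z hz]) ≠ 1) :
    l = 2 ∧ radAut hψ hcls g (fun z hz => by rw [hgZ z hz]) ^ 2 = 1 ∧ r ≠ 2 ∧ q ≠ 2 ∧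
      ∃ k, q ^ k + 1 = 2 * r ∧ Nat.card (disp (radAut hψ hcls g (fun z hz => by rw [hgZ z hz]))) = q ^ (2 * k) := by
  classical
  have hr : r.Prime := Fact.out
  have hl : l.Prime := Fact.out
  have hq : q.Prime := Fact.out
  have hψg : ∀ z ∈ center Q, ψ (g z) = ψ z := fun z hz => by rw [hgZ z hz]
  set gE := radAut hψ hcls g hψg with hgE
  set θE := radAut hψ hcls θ hψθ with hθE
  have hθEr : θE ^ r = 1 := radAut_pow hψ hcls θ hψθ hθ
  have htopE : disp θE = ⊤ := disp_radAut_top hψ hcls θ hψθ htop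
  obtain ⟨e, -, he⟩ := (Nat.dvd_prime_pow hl).mp
    (orderOf_dvd_of_pow_eq_one (radAut_pow hψ hcls g hψg hge : gE ^ l ^ e' = 1))
  have he0 : e ≠ 0 := fun h0 => hne (orderOf_eq_one_iff.mp (by rw [he, h0, pow_zero]))
  set n := l ^ e with hn
  have hgn : gE ^ n = 1 := by rw [← he]; exact pow_orderOf_eq_one gE
  set n1 := l ^ (e - 1) with hn1
  have hn1n : n1 * l = n := by rw [hn1, hn, ← pow_succ, Nat.sub_add_cancel (Nat.pos_of_ne_zero he0)]
  set N := r * n with hNdef
  have hn0 : 0 < n := pow_pos hl.pos e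
  have hrn : r.Coprime n := ((Nat.coprime_primes hr hl).mpr (Ne.symm hlr)).pow_right e
  set θ' := θ * g with hθ'
  have hθ'pow : ∀ k, θ' ^ k = θ ^ k * g ^ k := fun k => (show Commute θ g from hgθ).mul_pow k
  set θ'' : MulAut (Q ⧸ center Q) := H28.quotAut θ' (center Q) fun _ h => apply_center_mem θ' h with hθ''
  -- the powers on the centre quotient
  letI : CommGroup (Q ⧸ center Q) := { (inferInstance : Group (Q ⧸ center Q)) with
    mul_comm := fun x y => by
      obtain ⟨a, rfl⟩ := QuotientGroup.mk_surjective x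
      obtain ⟨b, rfl⟩ := QuotientGroup.mk_surjective y
      refine (QuotientGroup.eq.mpr ?_ : (QuotientGroup.mk (a * b) : Q ⧸ center Q) = QuotientGroup.mk (b * a))
      rw [show (a * b)⁻¹ * (b * a) = com b⁻¹ a⁻¹ by simp [com, mul_assoc]]
      exact hcls _ _ }
  set γ := g ^ n1 with hγ
  have hγθ : θ * γ = γ * θ := ((show Commute θ g from hgθ).pow_right n1).eq
  have hγg : g * γ = γ * g := (Commute.self_pow g n1).eq
  have hdθ : ∀ x ∈ disp γ, θ' x ∈ disp γ := by
    intro x hx
    suffices h : disp γ ≤ (disp γ).comap θ'.toMonoidHom from h hx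
    rw [disp, closure_le]
    rintro _ ⟨a, rfl⟩
    show θ' (a⁻¹ * γ a) ∈ disp γ
    rw [map_mul, map_inv]
    show (θ' a)⁻¹ * (θ' * γ) a ∈ disp γ
    rw [show θ' * γ = γ * θ' by rw [hθ', mul_assoc, hγg, ← mul_assoc, hγθ, mul_assoc]]
    exact disp_mem γ (θ' a)
  set M := l ^ e' * r with hM
  have hθ'M : θ' ^ M = 1 := by
    rw [hθ'pow, hM, pow_mul g, hge, one_pow, mul_comm (l ^ e') r, pow_mul θ, hθ, one_pow, one_mul]
  obtain ⟨Yb, hYX, hYθ, hYB, hXY⟩ := exists_complement (q := q) (fun x => by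
      obtain ⟨a, rfl⟩ := QuotientGroup.mk_surjective x
      exact (QuotientGroup.eq_one_iff _).mpr (hpow a))
    (Nat.Coprime.mul_left (((Nat.coprime_primes hl hq).mpr hlq).pow_left e')
      ((Nat.coprime_primes hr hq).mpr (Ne.symm hqr))) θ''
    (MulEquiv.ext fun y => by
      obtain ⟨a, rfl⟩ := QuotientGroup.mk_surjective y
      rw [hθ'', H28.quotAut_pow_mk, hθ'M]; rfl)
    ((rad hψ hcls).map (QuotientGroup.mk' (center Q))) ((disp γ).map (QuotientGroup.mk' (center Q)))
    (by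
      rintro _ ⟨a, ha, rfl⟩
      exact ⟨θ' a, rad_apply_mem hψ hcls θ hψθ (rad_apply_mem hψ hcls g hψg ha), rfl⟩)
    (by rintro _ ⟨a, ha, rfl⟩; exact ⟨θ' a, hdθ a ha, rfl⟩)
  let Y := Yb.comap (QuotientGroup.mk' (center Q))
  have hYdisp : Y ≤ disp γ ⊔ center Q := by
    intro y hy
    have h : QuotientGroup.mk' (center Q) y ∈ (disp γ).map (QuotientGroup.mk' (center Q)) := hYX hy
    rw [← Subgroup.mem_comap, Subgroup.comap_map_eq, QuotientGroup.ker_mk'] at h
    exact h
  have hXY' : disp γ ≤ Y ⊔ rad hψ hcls := by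
    intro x hx
    obtain ⟨u, hu, b, ⟨-, a, ha, hab⟩, huab⟩ := Subgroup.mem_sup.mp (hXY (Subgroup.mem_map_of_mem _ hx))
    rw [show x = (x * a⁻¹) * a by group]
    refine mul_mem (Subgroup.mem_sup_left ?_) (Subgroup.mem_sup_right ha)
    show QuotientGroup.mk' (center Q) (x * a⁻¹) ∈ Yb
    rw [map_mul, map_inv, ← huab, hab, mul_inv_cancel_right]
    exact hu
  have hYrad : Y ⊓ rad hψ hcls ≤ center Q := fun y hy => by
    have h : QuotientGroup.mk' (center Q) y ∈ Yb ⊓ (rad hψ hcls).map (QuotientGroup.mk' (center Q)) :=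
      ⟨hy.1, y, hy.2, rfl⟩
    rw [hYB, Subgroup.mem_bot] at h
    exact (QuotientGroup.eq_one_iff y).mp h
  have hYθ' : ∀ y ∈ Y, θ' y ∈ Y := fun y hy => hYθ _ hy
  set γE := gE ^ n1 with hγE
  have hγEmk : ∀ a, γE (QuotientGroup.mk a) = QuotientGroup.mk (γ a) := fun a => H28.quotAut_pow_mk _ _ _ _ _
  have hγEne : γE ≠ 1 := by
    intro h
    have hd := orderOf_dvd_of_pow_eq_one h
    rw [he, hn, hn1, Nat.pow_dvd_pow_iff_le_right hl.one_lt] at hd
    omega
  have hdispγ : disp γE = (disp γ).map (QuotientGroup.mk' (rad hψ hcls)) := by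
    rw [disp, disp, MonoidHom.map_closure]
    congr 1
    ext y
    constructor
    · rintro ⟨x, rfl⟩
      obtain ⟨a, rfl⟩ := QuotientGroup.mk_surjective x
      exact ⟨_, ⟨a, rfl⟩, by
        show _ = (QuotientGroup.mk a : Q ⧸ rad hψ hcls)⁻¹ * γE (QuotientGroup.mk a)
        rw [hγEmk]
        rfl⟩
    · rintro ⟨_, ⟨a, rfl⟩, rfl⟩
      exact ⟨QuotientGroup.mk a, by
        show (QuotientGroup.mk a : Q ⧸ rad hψ hcls)⁻¹ * γE (QuotientGroup.mk a) = _
        rw [hγEmk]
        rfl⟩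
  have hYγ : ∀ a ∈ Y, (QuotientGroup.mk a : Q ⧸ rad hψ hcls) ∈ disp γE := by
    intro a ha
    rw [hdispγ]
    obtain ⟨x, hx, z, hz, hxz⟩ := Subgroup.mem_sup_of_normal_right.mp (hYdisp ha)
    refine ⟨x, hx, (QuotientGroup.eq.mpr ?_).symm⟩
    rw [← hxz, mul_inv_rev, mul_assoc, inv_mul_cancel, mul_one]
    exact inv_mem (center_le_rad hψ hcls hz)
  have hgr : ∀ k, (θE * gE) ^ k = θE ^ k * gE ^ k := fun k => by
    refine (show Commute θE gE from ?_).mul_pow k
    exact MulEquiv.ext fun y => by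
      obtain ⟨a, rfl⟩ := QuotientGroup.mk_surjective y
      exact congrArg QuotientGroup.mk (congrArg (fun f : MulAut Q => f a) hgθ)
  have hθ'E : ∀ (k : ℕ) a, (QuotientGroup.mk ((θ' ^ k) a) : Q ⧸ rad hψ hcls) =
      ((θE * gE) ^ k) (QuotientGroup.mk a) := by
    intro k a
    rw [hgr, hθ'pow, MulAut.mul_apply, MulAut.mul_apply, hθE, hgE, radAut, radAut, H28.quotAut_pow_mk,
      H28.quotAut_pow_mk]
  have hfpfθ : ∀ x, θE x = x → x = 1 := fun x hx => fixed_disp_eq_one (radQuot_pow hψ hcls hpow)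
    ((Nat.coprime_primes hq hr).mpr hqr) θE hθEr (htopE ▸ mem_top x) hx
  have hfree : ∀ k, 0 < k → k < N → ∀ a ∈ Y, a⁻¹ * (θ' ^ k) a ∈ rad hψ hcls → a ∈ rad hψ hcls := by
    intro k hk0 hkN a haY ha
    set ε : Q ⧸ rad hψ hcls := QuotientGroup.mk a with hε
    have hfix : ((θE * gE) ^ k) ε = ε := by rw [← hθ'E]; exact (QuotientGroup.eq.mpr ha).symm
    have hit : ∀ i : ℕ, ((θE * gE) ^ (k * i)) ε = ε := by
      intro i
      induction i with
      | zero => rfl
      | succ i ih => rw [Nat.mul_succ, pow_add, MulAut.mul_apply, hfix, ih]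
    apply (QuotientGroup.eq_one_iff a).mp
    by_cases hkn : n ∣ k
    · -- then `θ` fixes the class
      obtain ⟨c, rfl⟩ := hkn
      have hrc : ¬ r ∣ n * c := fun h => by
        obtain ⟨d, hd⟩ := ((Nat.Prime.dvd_mul hr).mp h).resolve_left fun h' =>
          hr.ne_one (Nat.Coprime.eq_one_of_dvd hrn h')
        rw [hd, ← mul_assoc, mul_comm n r, ← hNdef] at hkN
        have : d = 0 := by
          by_contra h0
          exact absurd hkN (not_lt.mpr (Nat.le_mul_of_pos_right N (Nat.pos_of_ne_zero h0)))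
        rw [hd, this] at hk0
        simp at hk0
      obtain ⟨t, -, ht⟩ := Nat.exists_mul_mod_eq_one_of_coprime (hr.coprime_iff_not_dvd.mpr hrc).symm hr.one_lt
      have h1 := hit t
      rw [hgr, show gE ^ (n * c * t) = 1 by rw [mul_assoc, pow_mul, hgn, one_pow], mul_one,
        ← Nat.mod_add_div (n * c * t) r, ht, pow_add, pow_one, pow_mul, hθEr, one_pow, mul_one] at h1
      exact hfpfθ ε h1
    · -- then the power of `g` of order `l` fixes it
      have h1 := hit r
      rw [hgr, mul_comm k r, pow_mul θE, hθEr, one_pow, one_mul] at h1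
      have hnd : ¬ n ∣ r * k := fun h => hkn (hrn.symm.dvd_of_dvd_mul_left h)
      obtain ⟨i, hi, hgi⟩ := (Nat.dvd_prime_pow hl).mp (Nat.gcd_dvd_right (r * k) n)
      have hie : i ≤ e - 1 := by
        rcases Nat.lt_or_ge i e with h | h
        · omega
        · refine absurd ?_ hnd
          rw [show n = Nat.gcd (r * k) n by rw [hgi, le_antisymm hi h]]
          exact Nat.gcd_dvd_left _ _
      have hst : gE ^ (r * k) ∈ MulAction.stabilizer (MulAut (Q ⧸ rad hψ hcls)) ε := h1
      have h2 : gE ^ Nat.gcd (r * k) n ∈ MulAction.stabilizer (MulAut (Q ⧸ rad hψ hcls)) ε := by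
        rw [← zpow_natCast, Nat.gcd_eq_gcd_ab, zpow_add, zpow_mul, zpow_mul, zpow_natCast, zpow_natCast, hgn,
          one_zpow, mul_one]
        exact zpow_mem hst _
      rw [hgi] at h2
      have h4 : γE ε = ε := by
        have := pow_mem h2 (l ^ (e - 1 - i))
        rw [← pow_mul, ← pow_add, Nat.add_sub_cancel' hie] at this
        exact this
      exact fixed_disp_eq_one (radQuot_pow hψ hcls hpow) ((Nat.coprime_primes hq hl).mpr (Ne.symm hlq)) γE
        (by rw [hγE, ← pow_mul, hn1n, hgn]) (hYγ a haY) h4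
  -- the minimal invariant space
  have hblockG : ∀ w ∈ block ρ ψ, G w ∈ block ρ ψ := by
    intro w hw z hz
    conv_lhs => rw [← hgZ z hz]
    rw [← Module.End.mul_apply, ← hgρ, Module.End.mul_apply, hw z hz, map_smul]
  obtain ⟨W, ⟨hW0, hWb, hWY, hWS, hWG⟩, hmin⟩ := wellFounded_lt.has_min
    {X : Submodule K V | X ≠ ⊥ ∧ X ≤ block ρ ψ ∧ (∀ a ∈ Y, ∀ w ∈ X, ρ a w ∈ X) ∧ (∀ w ∈ X, S w ∈ X) ∧
      ∀ w ∈ X, G w ∈ X}
    ⟨block ρ ψ, hblock, le_rfl, fun a _ w hw => block_apply_mem ρ ψ a hw,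
      fun w hw => block_S_mem θ ρ ψ S hcomp hψθ hw, hblockG⟩
  -- `G ^ n` is a scalar on it
  have hgnY : ∀ y ∈ Y, (g ^ n) y = y := by
    intro y hy
    have hgY : ∀ y ∈ Y, g y ∈ Y := by
      intro y hy
      obtain ⟨t, -, ht⟩ : ∃ t, t < l ^ (e' + 1) ∧ r * t % l ^ (e' + 1) = 1 :=
        Nat.exists_mul_mod_eq_one_of_coprime (((Nat.coprime_primes hr hl).mpr (Ne.symm hlr)).pow_right _)
          (Nat.one_lt_pow (by omega) hl.one_lt)
      have := pow_apply_mem hYθ' (r * t) hy
      rw [hθ'pow, pow_mul θ, hθ, one_pow, one_mul, ← Nat.mod_add_div (r * t) (l ^ (e' + 1)), ht, pow_add, pow_one,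
        pow_succ, pow_mul, pow_mul, hge, one_pow, one_pow, mul_one] at this
      exact this
    have hgnmem : y⁻¹ * (g ^ n) y ∈ center Q := hYrad ⟨Y.mul_mem (Y.inv_mem hy) (pow_apply_mem hgY n hy), by
      have h := congrArg (fun f : MulAut (Q ⧸ rad hψ hcls) => f (QuotientGroup.mk y)) hgn
      rw [hgE, radAut, H28.quotAut_pow_mk] at h
      exact QuotientGroup.eq.mp h.symm⟩
    obtain ⟨j, hj⟩ := IsPGroup.iff_card.mp hQ
    refine H1.Gross.eq_of_disp_fixed (g ^ n) (k := l ^ e') (by rw [← pow_mul, mul_comm, pow_mul, hge, one_pow])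
      (hj ▸ ((Nat.coprime_primes hl hq).mpr hlq).pow e' j) y ?_
    have hfz : ∀ s : ℕ, ∀ z ∈ center Q, (g ^ s) z = z := by
      intro s
      induction s with
      | zero => intro z _; rfl
      | succ s ih => intro z hz; rw [pow_succ', MulAut.mul_apply, ih z hz, hgZ z hz]
    exact hfz n _ hgnmem
  have hGρpow : ∀ (s : ℕ) a, G ^ s * ρ a = ρ ((g ^ s) a) * G ^ s := fun s a => pow_compat ρ g G hgρ s a
  have hGmem : ∀ (s : ℕ), ∀ w ∈ W, (G ^ s) w ∈ W := by
    intro s
    induction s with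
    | zero => intro w hw; exact hw
    | succ s ih => intro w hw; rw [pow_succ', Module.End.mul_apply]; exact hWG _ (ih w hw)
  haveI : Nontrivial W := Submodule.nontrivial_iff_ne_bot.mpr hW0
  obtain ⟨c, hc⟩ := Module.End.exists_eigenvalue ((G ^ n).restrict (hGmem n))
  obtain ⟨w1, hw1, hw10⟩ := hc.exists_hasEigenvector
  have hscalar : ∀ w ∈ W, (G ^ n) w = c • w := by
    let W' : Submodule K V := W ⊓ LinearMap.ker (G ^ n - c • (1 : Module.End K V))
    have hmem : ∀ w, w ∈ W' ↔ w ∈ W ∧ (G ^ n) w = c • w := fun w => by simp [W', sub_eq_zero]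
    have hle : W ≤ W' := by
      by_contra hne'
      refine hmin W' ⟨(Submodule.ne_bot_iff W').mpr ⟨(w1 : V), (hmem _).mpr ⟨w1.2,
        congrArg Subtype.val (Module.End.mem_eigenspace_iff.mp hw1)⟩, fun h => hw10 (Subtype.ext h)⟩,
        inf_le_left.trans hWb, fun a ha w hw => ?_, fun w hw => ?_, fun w hw => ?_⟩
        (lt_of_le_of_ne inf_le_left fun h => hne' h.ge)
      · rw [hmem] at hw ⊢
        refine ⟨hWY a ha w hw.1, ?_⟩
        rw [← Module.End.mul_apply, hGρpow, hgnY a ha, Module.End.mul_apply, hw.2, map_smul]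
      · rw [hmem] at hw ⊢
        refine ⟨hWS w hw.1, ?_⟩
        rw [← Module.End.mul_apply, ((show Commute G S from hSG).pow_left n).eq, Module.End.mul_apply, hw.2, map_smul]
      · rw [hmem] at hw ⊢
        refine ⟨hWG w hw.1, ?_⟩
        rw [← Module.End.mul_apply, ← pow_succ, pow_succ', Module.End.mul_apply, hw.2, map_smul]
    exact fun w hw => ((hmem w).mp (hle hw)).2
  obtain ⟨μ, hμ, hμfix⟩ : ∃ μ : K, μ ^ n = c ∧ ((∃ w ∈ W, S w = w ∧ w ≠ 0) → μ = 1) := by
    by_cases hw : ∃ w ∈ W, S w = w ∧ w ≠ 0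
    · refine ⟨1, ?_, fun _ => rfl⟩
      obtain ⟨w, hw, hSw, hw0⟩ := hw
      have h1 := hscalar w hw
      rw [pow_apply_of_fixed (hGfix w hSw)] at h1
      rw [one_pow]
      exact smul_left_injective K hw0 ((one_smul K w).trans h1)
    · obtain ⟨μ, hμ⟩ := IsAlgClosed.exists_pow_nat_eq c hn0
      exact ⟨μ, hμ, fun h => absurd h hw⟩
  have hc0 : c ≠ 0 := by
    intro h
    apply hw10
    apply Subtype.ext
    have h1 : ∀ s : ℕ, 0 < s → (G ^ (n * s)) (w1 : V) = 0 := by
      intro s hs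
      obtain ⟨s, rfl⟩ : ∃ s', s = s' + 1 := ⟨s - 1, by omega⟩
      rw [Nat.mul_succ, pow_add, Module.End.mul_apply, hscalar _ w1.2, h, zero_smul, map_zero]
    have h2 := h1 (l ^ e') (pow_pos hl.pos _)
    rw [mul_comm, pow_mul, hGe, one_pow] at h2
    exact h2
  have hμ0 : μ ≠ 0 := fun h => hc0 (by rw [← hμ, h, zero_pow hn0.ne'])
  -- the eigenvalues without vectors
  -- the operator
  set T := μ⁻¹ • (S * G) with hT
  have hTW : ∀ w ∈ W, T w ∈ W := fun w hw => W.smul_mem _ (hWS _ (hWG w hw))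
  have hTpow : ∀ s : ℕ, ∀ w, (T ^ s) w = (μ⁻¹) ^ s • (S ^ s) ((G ^ s) w) := by
    intro s w
    rw [hT, smul_pow, (show Commute S G from hSG.symm).mul_pow, LinearMap.smul_apply, Module.End.mul_apply]
  have hμn : ∀ w, μ⁻¹ ^ n • c • w = (w : V) := fun w => by
    rw [smul_smul, ← hμ, ← mul_pow, inv_mul_cancel₀ hμ0, one_pow, one_smul]
  have habs : ∀ lam : K, lam ^ n = 1 → ∀ w ∈ W, T w = lam • w → S w = w := by
    intro lam hlam w hw hTw
    have hpw : ∀ s : ℕ, (T ^ s) w = lam ^ s • w := by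
      intro s
      induction s with
      | zero => simp
      | succ s ih => rw [pow_succ', Module.End.mul_apply, ih, map_smul, hTw, smul_smul, pow_succ]
    have h1 := hpw n
    rw [hlam, one_smul, hTpow, hscalar w hw, map_smul, hμn] at h1
    have h2 : ∀ s : ℕ, (S ^ (n * s)) w = w := by
      intro s
      induction s with
      | zero => rfl
      | succ s ih => rw [Nat.mul_succ, pow_add, Module.End.mul_apply, h1, ih]
    obtain ⟨t, -, ht⟩ := Nat.exists_mul_mod_eq_one_of_coprime hrn.symm hr.one_lt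
    have h3 := h2 t
    rwa [← Nat.mod_add_div (n * t) r, ht, pow_add, pow_one, pow_mul, hS, one_pow, mul_one] at h3
  have hTN : ∀ w ∈ W, (T ^ N) w = w := by
    intro w hw
    have h1 : ∀ w ∈ W, (T ^ n) w = (S ^ n) w := fun w hw => by
      rw [hTpow, hscalar w hw, map_smul, hμn]
    have hSn : ∀ w ∈ W, (S ^ n) w ∈ W := fun w hw => by
      clear h1
      generalize n = s
      induction s with
      | zero => exact hw
      | succ s ih => rw [pow_succ', Module.End.mul_apply]; exact hWS _ ih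
    have h2 : ∀ s : ℕ, (T ^ (n * s)) w = (S ^ (n * s)) w ∧ (S ^ (n * s)) w ∈ W := by
      intro s
      induction s with
      | zero => exact ⟨rfl, hw⟩
      | succ s ih =>
        rw [Nat.mul_succ, add_comm, pow_add, pow_add, Module.End.mul_apply, Module.End.mul_apply, ih.1, h1 _ ih.2]
        exact ⟨rfl, hSn _ ih.2⟩
    rw [hNdef, mul_comm, (h2 r).1, mul_comm, pow_mul, hS, one_pow, Module.End.one_apply]
  have hTρ : ∀ a, T * ρ a = ρ (θ' a) * T := by
    intro a
    rw [hT, smul_mul_assoc, mul_smul_comm, mul_assoc, hgρ, ← mul_assoc, hcomp, mul_assoc]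
    rfl
  -- application
  have hYne : ¬ Y ≤ center Q := by
    intro hle
    apply hγEne
    refine MulEquiv.ext fun y => ?_
    obtain ⟨a, rfl⟩ := QuotientGroup.mk_surjective y
    rw [hγEmk]
    exact (QuotientGroup.eq.mpr ((hXY'.trans (sup_le (hle.trans (center_le_rad hψ hcls)) le_rfl))
      (disp_mem γ a))).symm
  have hn1lt : r * n1 < N := by
    rw [hNdef]
    exact Nat.mul_lt_mul_of_pos_left (by rw [← hn1n]; exact lt_mul_of_one_lt_right (pow_pos hl.pos _) hl.one_lt) hr.pos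
  have hgen : ∃ k, 0 < k ∧ k < N ∧ ∀ a, a⁻¹ * (θ' ^ k) a ∈ Y ⊔ rad hψ hcls := by
    refine ⟨r * n1, Nat.mul_pos hr.pos (pow_pos hl.pos _), hn1lt, fun a => ?_⟩
    have h1 : θ' ^ (r * n1) = γ ^ r := by
      rw [hθ'pow, pow_mul θ, hθ, one_pow, one_mul, hγ, ← pow_mul, mul_comm]
    rw [h1]
    have h2 : ∀ s : ℕ, ∀ a, a⁻¹ * (γ ^ s) a ∈ disp γ := by
      intro s
      induction s with
      | zero => intro a; simp
      | succ s ih =>
        intro a
        rw [pow_succ, MulAut.mul_apply, show a⁻¹ * (γ ^ s) (γ a) = (a⁻¹ * γ a) * ((γ a)⁻¹ * (γ ^ s) (γ a)) by group]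
        exact mul_mem (disp_mem γ a) (ih _)
    exact hXY' (h2 r a)
  have hN0 : 0 < N := Nat.mul_pos hr.pos hn0
  -- a root on which `T` has no eigenvector
  have hl2 : 2 ≤ n := by rw [hn]; exact hl.two_le.trans (Nat.le_self_pow he0 l)
  obtain ⟨hn2, hcard⟩ : n = 2 ∧ Nat.card (Y ⧸ (rad hψ hcls).subgroupOf Y) = (N - 1) ^ 2 := by
    have hθ'N : ∀ a ∈ Y, (θ' ^ N) a = a := fun a ha => by
      rw [hθ'pow, hNdef, pow_mul θ, hθ, one_pow, one_mul, mul_comm r n, pow_mul]
      exact pow_mem (show g ^ n ∈ MulAction.stabilizer (MulAut Q) a from hgnY a ha) r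
    have hψθ' : ∀ z ∈ center Q, ψ (θ' z) = ψ z := fun z hz => by
      rw [hθ', MulAut.mul_apply, hψθ _ (apply_center_mem g hz), hψg z hz]
    by_cases hlK : (l : K) = 0
    · haveI : CharP K l := (CharP.charP_iff_prime_eq_zero hl).mpr hlK
      obtain ⟨h2, hcard⟩ := exceptional_modular hcls (l := l) (r := r) (e := e) hlr (by omega) hrK hNdef hN0 θ' hψ
        hψθ' ρ T hTρ W hW0 hTW Y hWY (fun z hz w hw => hWb hw z hz)
        (fun w hw hTn => by
          by_cases hw0 : w = 0
          · rw [hw0, map_zero]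
          have h1 : (S ^ n) w = w := by
            have h := hTpow n w
            rw [hscalar w hw, map_smul, hμn] at h
            exact h.symm.trans hTn
          have h2 : ∀ s : ℕ, (S ^ (n * s)) w = w := by
            intro s
            induction s with
            | zero => rfl
            | succ s ih => rw [Nat.mul_succ, pow_add, Module.End.mul_apply, h1, ih]
          obtain ⟨t, -, ht⟩ := Nat.exists_mul_mod_eq_one_of_coprime hrn.symm hr.one_lt
          have hSw : S w = w := by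
            have h3 := h2 t
            rwa [← Nat.mod_add_div (n * t) r, ht, pow_add, pow_one, pow_mul, hS, one_pow, mul_one] at h3
          refine pow_apply_of_fixed (?_ : T w = w) r
          rw [hT, LinearMap.smul_apply, Module.End.mul_apply, hGfix w hSw, hSw, hμfix ⟨w, hw, hSw, hw0⟩, inv_one,
            one_smul])
        hTN hθ'N hYθ' hYrad hYne hfree hgen
      refine ⟨h2, ?_⟩
      rw [hcard, hNdef, show n = 2 from h2, mul_comm r 2]
    · have hnK : (n : K) ≠ 0 := by rw [hn, Nat.cast_pow]; exact pow_ne_zero _ hlK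
      have hNK : (N : K) ≠ 0 := by rw [hNdef, Nat.cast_mul]; exact mul_ne_zero hrK hnK
      haveI : NeZero (N : K) := ⟨hNK⟩
      obtain ⟨η, hη⟩ := HasEnoughRootsOfUnity.exists_primitiveRoot K N
      have main : ∀ j, j < N → (∀ w ∈ W, T w = η ^ j • w → w = 0) →
          3 ≤ N ∧ Nat.card (Y ⧸ (rad hψ hcls).subgroupOf Y) = (N - 1) ^ 2 ∧
          ∀ i, 0 < i → i < N → ∃ w ∈ W, w ≠ 0 ∧ T w = η ^ (j + i) • w := by
        intro j hj hno
        have hη0 : η ^ j ≠ 0 := pow_ne_zero _ (hη.ne_zero hN0.ne')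
        set T' := (η ^ j)⁻¹ • T with hT'
        have hTW' : ∀ s : ℕ, ∀ w, (T' ^ s) w = ((η ^ j)⁻¹) ^ s • (T ^ s) w := fun s w => by
          rw [hT', smul_pow, LinearMap.smul_apply]
        obtain ⟨h3, hcard, hall⟩ := exceptional hcls hN0 hNK hη θ' hψ
          hψθ' ρ T'
          (fun a => by rw [hT', smul_mul_assoc, mul_smul_comm, hTρ]) W hW0
          (fun w hw => W.smul_mem _ (hTW w hw)) Y hWY (fun z hz w hw => hWb hw z hz)
          (fun w hw hfix => hno w hw (by
            have := congrArg (fun x => η ^ j • x) hfix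
            simpa [hT', smul_smul, mul_inv_cancel₀ hη0] using this))
          (fun w hw => by
            rw [hTW', hTN w hw, inv_pow, ← pow_mul, mul_comm, pow_mul, hη.pow_eq_one, one_pow, inv_one, one_smul])
          hθ'N
          hYθ' hYrad hYne hfree hgen
        refine ⟨h3, hcard, fun i hi0 hiN => ?_⟩
        obtain ⟨w, hw, hw0, hTw⟩ := hall i hi0 hiN
        refine ⟨w, hw, hw0, ?_⟩
        have := congrArg (fun x => η ^ j • x) hTw
        simpa [hT', smul_smul, mul_inv_cancel₀ hη0, pow_add] using this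
      have hroot : ∀ i, (η ^ (r * i)) ^ n = 1 := fun i => by
        rw [← pow_mul, mul_right_comm, ← hNdef, pow_mul, hη.pow_eq_one, one_pow]
      have hrN : r < N := by rw [hNdef]; exact lt_mul_of_one_lt_right hr.pos hl2
      by_cases hw : ∃ w ∈ W, S w = w ∧ w ≠ 0
      · have habs1 : ∀ i, 0 < i → i < n → ∀ w ∈ W, T w = η ^ (r * i) • w → w = 0 := by
          intro i hi0 hin w hwW hTw
          have hSw := habs _ (hroot i) w hwW hTw
          have h1 : T w = w := by
            rw [hT, LinearMap.smul_apply, Module.End.mul_apply, hGfix w hSw, hSw, hμfix hw, inv_one, one_smul]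
          by_contra hw0
          refine hη.pow_ne_one_of_pos_of_lt (Nat.mul_ne_zero hr.ne_zero hi0.ne')
            (Nat.mul_lt_mul_of_pos_left hin hr.pos) (smul_left_injective K hw0 ?_)
          show η ^ (r * i) • w = (1 : K) • w
          rw [one_smul, ← hTw, h1]
        obtain ⟨-, hcard, hall⟩ := main r hrN (fun w hwW hTw => habs1 1 one_pos (by omega) w hwW (by rwa [mul_one]))
        refine ⟨?_, hcard⟩
        by_contra hne2
        obtain ⟨w, hwW, hw0, hTw⟩ := hall r hr.pos hrN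
        exact hw0 (habs1 2 two_pos (by omega) w hwW (by rw [mul_two]; exact hTw))
      · exfalso
        push Not at hw
        have habs0 : ∀ i, ∀ w ∈ W, T w = η ^ (r * i) • w → w = 0 := fun i w hwW hTw =>
          hw w hwW (habs _ (hroot i) w hwW hTw)
        obtain ⟨-, -, hall⟩ := main 0 hN0 (fun w hwW hTw => habs0 0 w hwW (by rwa [mul_zero]))
        obtain ⟨w, hwW, hw0, hTw⟩ := hall r hr.pos hrN
        exact hw0 (habs0 1 w hwW (by rwa [zero_add, ← mul_one r] at hTw))
  obtain rfl : l = 2 := ((Nat.prime_dvd_prime_iff_eq hl Nat.prime_two).mp (hn2 ▸ dvd_pow_self l he0))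
  have hn1' : n1 = 1 := by omega
  have hr2 : r ≠ 2 := Ne.symm hlr
  refine ⟨rfl, hn2 ▸ hgn, hr2, Ne.symm hlq, ?_⟩
  let f : Y →* Q ⧸ rad hψ hcls := (QuotientGroup.mk' _).comp Y.subtype
  have hrange : f.range = disp gE := by
    have hγg' : disp γE = disp gE := by rw [hγE, hn1', pow_one]
    rw [← hγg', hdispγ]
    apply le_antisymm
    · rintro _ ⟨y, rfl⟩
      rw [← hdispγ]
      exact hYγ y y.2
    · rintro _ ⟨x, hx, rfl⟩
      obtain ⟨y, hy, d, hd, hyd⟩ := Subgroup.mem_sup_of_normal_right.mp (hXY' hx)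
      exact ⟨⟨y, hy⟩, QuotientGroup.eq.mpr (by show y⁻¹ * x ∈ _; rw [← hyd, inv_mul_cancel_left]; exact hd)⟩
  have hker : f.ker = (rad hψ hcls).subgroupOf Y := by
    ext y
    exact QuotientGroup.eq_one_iff (y : Q)
  have hc2 : Nat.card (disp gE) = (2 * r - 1) ^ 2 := by
    rw [← hrange, ← Nat.card_congr (QuotientGroup.quotientKerEquivRange f).toEquiv, hker, hcard, hNdef, hn2,
      mul_comm r 2]
  obtain ⟨j, hj⟩ := IsPGroup.iff_card.mp ((hQ.to_quotient (rad hψ hcls)).to_subgroup (disp gE))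
  obtain ⟨k, -, hk⟩ := (Nat.dvd_prime_pow hq).mp
    (show 2 * r - 1 ∣ q ^ j from (hc2.symm.trans hj) ▸ dvd_pow_self _ two_ne_zero)
  exact ⟨k, by have := hr.two_le; omega, by rw [hc2, hk, ← pow_mul, mul_comm]⟩

end H1.Turull
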