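import Cfsg.Agent.H1.Turull.Step

/-!
The step down the tower for an abelian group.
-/

set_option autoImplicit false
set_option linter.style.haveILetI false

namespace H1.Turull

open Module Subgroup
open H1.Shult

universe u v w

theorem fixed_mem_center {T : Type u} [Group T] [Finite T] {p : ℕ} [Fact p.Prime] (hT : IsPGroup p T) {r : ℕ}
    [Fact r.Prime] (hpr : p ≠ r) (θ : MulAut T) (hθ : θ ^ r = 1) (hcls : ∀ a b : T, com a b ∈ center T)
    (hgen : disp θ = ⊤) {a : T} (ha : θ a = a) : a ∈ center T := by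
  letI : CommGroup (T ⧸ center T) := { (inferInstance : Group (T ⧸ center T)) with
    mul_comm := fun x y => by
      obtain ⟨x, rfl⟩ := QuotientGroup.mk_surjective x
      obtain ⟨y, rfl⟩ := QuotientGroup.mk_surjective y
      refine (QuotientGroup.eq.mpr ?_ : (QuotientGroup.mk (x * y) : T ⧸ center T) = QuotientGroup.mk (y * x))
      rw [show (x * y)⁻¹ * (y * x) = com y⁻¹ x⁻¹ by simp [com, mul_assoc]]
      exact hcls _ _ }
  let θc : MulAut (T ⧸ center T) := H28.quotAut θ (center T) fun _ h => apply_center_mem θ h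
  have hθc : θc ^ r = 1 := MulEquiv.ext fun y => by
    obtain ⟨b, rfl⟩ := QuotientGroup.mk_surjective y
    rw [H28.quotAut_pow_mk, hθ]; rfl
  obtain ⟨j, hj⟩ := IsPGroup.iff_card.mp (hT.to_quotient (center T))
  have hle : (disp θ).map (QuotientGroup.mk' (center T)) ≤ disp θc := by
    rw [disp, MonoidHom.map_closure, closure_le]
    rintro _ ⟨_, ⟨b, rfl⟩, rfl⟩
    exact disp_mem θc (QuotientGroup.mk b)
  refine (QuotientGroup.eq_one_iff a).mp (fixed_disp_eq_one (fun e => hj ▸ pow_card_eq_one')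
    (((Nat.coprime_primes Fact.out Fact.out).mpr hpr).pow_left j) θc hθc
    (hle ⟨a, hgen ▸ mem_top a, rfl⟩) ?_)
  show (QuotientGroup.mk (θ a) : T ⧸ center T) = QuotientGroup.mk a
  rw [ha]

/-- The `θ`-displacements of the central elements of a group of automorphisms. -/
def zdisp {Q : Type u} [Group Q] [Finite Q] (θ : MulAut Q) (R : Subgroup (MulAut Q)) : Subgroup (MulAut Q) :=
  rdisp θ (R ⊓ Subgroup.centralizer (R : Set (MulAut Q)))

section

variable {Q : Type u} [Group Q] [Finite Q] {r : ℕ} [Fact r.Prime] (θ : MulAut Q) (hθ : θ ^ r = 1)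
  (R : Subgroup (MulAut Q)) (hRθ : ∀ t ∈ R, θ * t * θ⁻¹ ∈ R)

include hθ hRθ in
theorem conj_inv_mem (t : MulAut Q) (ht : t ∈ R) : θ⁻¹ * t * θ ∈ R := by
  have h : ∀ n : ℕ, θ ^ n * t * (θ ^ n)⁻¹ ∈ R := by
    intro n
    induction n with
    | zero => simpa using ht
    | succ n ih =>
      have h' := hRθ _ ih
      rwa [pow_succ', mul_inv_rev, ← mul_assoc, ← mul_assoc] at *
  have hinv : θ ^ (r - 1) = θ⁻¹ := by
    refine eq_inv_of_mul_eq_one_left ?_
    rw [← pow_succ, Nat.sub_add_cancel (Fact.out : r.Prime).one_le, hθ]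
  have := h (r - 1)
  rwa [hinv, inv_inv] at this

include hθ hRθ in
theorem centre_conj_mem (a : MulAut Q) (ha : a ∈ R ⊓ Subgroup.centralizer (R : Set (MulAut Q))) :
    θ * a * θ⁻¹ ∈ R ⊓ Subgroup.centralizer (R : Set (MulAut Q)) := by
  refine ⟨hRθ a ha.1, Subgroup.mem_centralizer_iff.mpr fun t ht => ?_⟩
  have h1 := Subgroup.mem_centralizer_iff.mp ha.2 _ (conj_inv_mem θ hθ R hRθ t ht)
  calc t * (θ * a * θ⁻¹) = θ * ((θ⁻¹ * t * θ) * a) * θ⁻¹ := by group
    _ = θ * (a * (θ⁻¹ * t * θ)) * θ⁻¹ := by rw [h1]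
    _ = θ * a * θ⁻¹ * t := by group

include hθ hRθ in
theorem zdisp_le : zdisp θ R ≤ R ⊓ Subgroup.centralizer (R : Set (MulAut Q)) :=
  rdisp_le fun a ha => centre_conj_mem θ hθ R hRθ a ha

end

/-- The norm of a subgroup of automorphisms of a commutative group. -/
noncomputable def normHom {Q : Type u} [CommGroup Q] (A : Subgroup (MulAut Q)) [Fintype A] : Q →* Q :=
  ∏ a : A, (a : MulAut Q).toMonoidHom

theorem normHom_apply {Q : Type u} [CommGroup Q] (A : Subgroup (MulAut Q)) [Fintype A] (x : Q) :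
    normHom A x = ∏ a : A, (a : MulAut Q) x := by
  rw [normHom, MonoidHom.finsetProd_apply]
  rfl

variable {K : Type v} [Field K] [IsAlgClosed K] {V : Type w} [AddCommGroup V] [Module K V]
  [FiniteDimensional K V]

/-- The step for an abelian group. -/
theorem step_abelian {Q : Type u} [CommGroup Q] [Finite Q] {q : ℕ} [Fact q.Prime] (hQ : IsPGroup q Q) {r : ℕ}
    [Fact r.Prime] (hqr : q ≠ r) (θ : MulAut Q) (hθ : θ ^ r = 1) (hqK : (q : K) ≠ 0)
    (ρ : Q →* Module.End K V) (hρ : Function.Injective ρ) (S : Module.End K V)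
    (hcomp : ∀ a, S * ρ a = ρ (θ a) * S) {p : ℕ} [Fact p.Prime] (hpq : p ≠ q) (hpr : p ≠ r)
    (R : Subgroup (MulAut Q)) (hR : IsPGroup p R) (hRθ : ∀ t ∈ R, θ * t * θ⁻¹ ∈ R)
    (hRcls : ∀ a ∈ R, ∀ a' ∈ R, ∀ t ∈ R, com a a' * t = t * com a a')
    (hops : ∀ t ∈ R, ∃ G : Module.End K V, Function.Injective G ∧ ∀ a, G * ρ a = ρ (t a) * G)
    (f : Q →* Q) (hfθ : ∀ x, f (θ x) = θ (f x))
    (hfZ : ∀ z ∈ R ⊓ Subgroup.centralizer (R : Set (MulAut Q)), ∀ x, f (z x) = z (f x))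
    (hfT : ∀ t ∈ rdisp θ R, ∀ x, (∀ z ∈ zdisp θ R, z x = x) → f (t x) = t (f x))
    {c : Q} (hc : θ c = c) (hmove : ∃ t ∈ rdisp θ R, t (f c) ≠ f c) :
    ∃ d, θ d = d ∧ Strong θ r ρ S (f d) := by
  classical
  have hr : r.Prime := Fact.out
  haveI : Finite (MulAut Q) := Finite.of_injective (fun g : MulAut Q => (g : Q → Q)) DFunLike.coe_injective
  by_contra hno
  push Not at hno
  obtain ⟨t, ht, htne⟩ := hmove
  apply htne
  let Ω : Set (Q →* K) := {o | ∃ v : V, v ≠ 0 ∧ ∀ a, ρ a v = o a • v}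
  have hΩR : ∀ o ∈ Ω, ∀ g ∈ R, o.comp g.toMonoidHom ∈ Ω := by
    rintro o ⟨v, hv, hov⟩ g hg
    obtain ⟨G, hG, hGρ⟩ := hops g⁻¹ (inv_mem hg)
    refine ⟨G v, fun h => hv (hG (h.trans (map_zero G).symm)), fun a => ?_⟩
    have h1 := congrArg (fun F : Module.End K V => F v) (hGρ (g a))
    simp only [Module.End.mul_apply, MulAut.inv_apply_self, hov, map_smul] at h1
    exact h1.symm
  have hmov : ∀ o ∈ Ω, o.comp θ.toMonoidHom ≠ o → ∀ d, θ d = d → o (f d) = 1 := by
    rintro o ⟨v, hv, hov⟩ hne d hd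
    by_contra h1
    obtain ⟨b, hb⟩ : ∃ b, o (θ b) ≠ o b := by
      by_contra hall
      push Not at hall
      exact hne (MonoidHom.ext hall)
    refine hno d hd (strong_of_orbit θ ρ S hθ hcomp ⊤ (fun _ _ => trivial) o (v := v)
      (fun a _ => hov a) ⟨b, trivial, hb⟩ (by rw [← hfθ, hd]) (fun a _ => mul_comm _ _) fun hv' => h1 ?_)
    rw [hov] at hv'
    exact smul_left_injective K hv (hv'.trans (one_smul K v).symm)
  have hsep : ∀ x, (∀ o ∈ Ω, o x = 1) → x = 1 := by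
    intro x hx
    by_contra hx1
    obtain ⟨v, hv, χ, hχ, hne⟩ := exists_eigen_ne hQ hqK ρ
      (fun a b => by rw [← map_mul, ← map_mul, mul_comm]) x (fun h => hx1 (hρ (h.trans (map_one ρ).symm)))
    obtain ⟨h1, hm⟩ := eigen_mul ρ hv hχ
    exact hne (hx { toFun := χ, map_one' := h1, map_mul' := hm } ⟨v, hv, hχ⟩)
  have hrQ : ¬ r ∣ Nat.card Q := not_dvd_card hQ hqr
  have hrR : ∀ A ≤ R, ¬ r ∣ Nat.card A := fun A hA => not_dvd_card (hR.to_le hA) hpr
  set Zc := R ⊓ Subgroup.centralizer (R : Set (MulAut Q)) with hZc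
  have hZθ : ∀ a ∈ Zc, θ * a * θ⁻¹ ∈ Zc := centre_conj_mem θ hθ R hRθ
  set Z0 := zdisp θ R with hZ0
  have hZ0c : Z0 ≤ Zc := zdisp_le θ hθ R hRθ
  have hzfix : ∀ z ∈ Z0, z (f c) = f c :=
    eigen_fixed θ hθ hrQ Z0 (fun a ha => rdisp_conj hZθ ha) (hrR Z0 (hZ0c.trans inf_le_left))
      (fun a ha _ a' ha' => (Subgroup.mem_centralizer_iff.mp (hZ0c ha).2 a' (hZ0c ha').1).symm)
      (rdisp_gen hθ hZθ (hrR Zc inf_le_left)) f hfθ (fun a ha x => hfZ a (hZ0c ha) x) Ω
      (fun o ho a ha => hΩR o ho a (hZ0c ha).1) hmov hsep hc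
  haveI : Fintype Z0 := Fintype.ofFinite _
  set N := normHom Z0 with hN
  have hNθ : ∀ x, N (θ x) = θ (N x) := by
    intro x
    rw [hN, normHom_apply, normHom_apply, map_prod]
    let e : Z0 → Z0 := fun a => ⟨θ * a * θ⁻¹, rdisp_conj hZθ a.2⟩
    have he : Function.Bijective e := Finite.injective_iff_bijective.mp fun a b h => Subtype.ext
      (mul_left_cancel (mul_right_cancel (congrArg Subtype.val h)))
    refine (Fintype.prod_equiv (Equiv.ofBijective e he) _ _ fun a => ?_).symm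
    show θ ((a : MulAut Q) x) = (θ * (a : MulAut Q) * θ⁻¹) (θ x)
    rw [MulAut.mul_apply, MulAut.mul_apply, MulAut.inv_apply_self]
  have hNfix : ∀ x, ∀ z ∈ Z0, z (N x) = N x := by
    intro x z hz
    rw [hN, normHom_apply, map_prod]
    refine Fintype.prod_equiv (Equiv.mulLeft (⟨z, hz⟩ : Z0)) _ _ fun a => ?_
    rfl
  have hNT : ∀ g ∈ R, ∀ x, N (g x) = g (N x) := by
    intro g hg x
    rw [hN, normHom_apply, normHom_apply, map_prod]
    refine Finset.prod_congr rfl fun a _ => ?_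
    rw [← MulAut.mul_apply, ← MulAut.mul_apply, Subgroup.mem_centralizer_iff.mp (hZ0c a.2).2 g hg]
  set T := rdisp θ R with hTdef
  have hTR : T ≤ R := rdisp_le hRθ
  have hTcen : ∀ a ∈ T, θ * a * θ⁻¹ = a → ∀ a' ∈ T, a * a' = a' * a := by
    intro a ha hfix a' ha'
    let θT : MulAut T := H28.subAut (MulAut.conj θ) T fun u hu => rdisp_conj hRθ hu
    have htop : disp θT = ⊤ := by
      rw [eq_top_iff]
      have hle : T ≤ (disp θT).map T.subtype := by
        refine (rdisp_gen hθ hRθ (hrR R le_rfl)).trans ((closure_le _).mpr ?_)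
        rintro _ ⟨s, hs, rfl⟩
        exact ⟨_, disp_mem θT ⟨s, hs⟩, rfl⟩
      intro u _
      obtain ⟨u', hu', he⟩ := hle u.2
      exact Subtype.ext he ▸ hu'
    have hc' := fixed_mem_center (hR.to_le hTR) hpr θT
      (MulEquiv.ext fun u => Subtype.ext
        ((H28.subAut_pow_coe _ _ _ _ _).trans (by rw [← map_pow, hθ, map_one]; rfl)))
      (fun u u' => mem_center_iff.mpr fun w =>
        Subtype.ext (hRcls _ (hTR u.2) _ (hTR u'.2) _ (hTR w.2)).symm) htop
      (a := ⟨a, ha⟩) (Subtype.ext hfix)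
    exact (congrArg Subtype.val (mem_center_iff.mp hc' ⟨a', ha'⟩)).symm
  have hNd : ∀ d, θ d = d → θ (N d) = N d := fun d hd => by rw [← hNθ, hd]
  have h2 := eigen_fixed θ hθ hrQ T (fun a ha => rdisp_conj hRθ ha) (hrR T hTR) hTcen
    (rdisp_gen hθ hRθ (hrR R le_rfl)) (f.comp N)
    (fun x => by rw [MonoidHom.comp_apply, MonoidHom.comp_apply, hNθ, hfθ])
    (fun a ha x => by
      rw [MonoidHom.comp_apply, MonoidHom.comp_apply, hNT a (hTR ha), hfT a ha _ fun z hz => hNfix x z hz])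
    Ω (fun o ho a ha => hΩR o ho a (hTR ha))
    (fun o ho hne d hd => hmov o ho hne (N d) (hNd d hd)) hsep hc t ht
  have hfN : f (N c) = f c ^ Nat.card Z0 := by
    rw [hN, normHom_apply, map_prod, Finset.prod_congr rfl fun (a : Z0) _ =>
      (hfZ (a : MulAut Q) (hZ0c a.2) c).trans (hzfix a a.2), Finset.prod_const, Finset.card_univ,
      Nat.card_eq_fintype_card]
  rw [MonoidHom.comp_apply, hfN, map_pow] at h2
  obtain ⟨i, hi⟩ := IsPGroup.iff_card.mp (hR.to_le (hZ0c.trans inf_le_left : Z0 ≤ R))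
  obtain ⟨j, hj⟩ := IsPGroup.iff_card.mp hQ
  have h3 : (t (f c) * (f c)⁻¹) ^ Nat.card Z0 = 1 := by rw [mul_pow, inv_pow, h2, mul_inv_cancel]
  have h4 := pow_gcd_eq_one.mpr ⟨h3, pow_card_eq_one'⟩
  rw [hi, hj, ((Nat.coprime_primes Fact.out Fact.out).mpr hpq).pow i j, pow_one] at h4
  exact mul_inv_eq_one.mp h4

end H1.Turull
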