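import Cfsg.Agent.H1.Turull.Start
import Cfsg.Agent.H1.Turull.StepAbelian
import Cfsg.Agent.H1.Turull.Dual

/-!
The elementary abelian quotient of a group of class two, and the step from one level to the next.
-/

set_option autoImplicit false
set_option linter.style.haveILetI false
set_option linter.unusedSectionVars false

namespace H1.Turull

open Module Subgroup
open H1.Shult
open scoped commutatorElement

universe u v w

section Quotient

variable {P : Type u} [Group P]

open Classical in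
/-- The centre of a nonabelian group, joined with the derived group. -/
noncomputable def zsub (P : Type u) [Group P] : Subgroup P :=
  (if ∀ a b : P, a * b = b * a then ⊥ else center P) ⊔ commutator P

theorem zsub_apply_mem (f : MulAut P) {z : P} (hz : z ∈ zsub P) : f z ∈ zsub P := by
  suffices h : zsub P ≤ (zsub P).comap f.toMonoidHom from h hz
  have h1 : commutator P ≤ (commutator P).comap f.toMonoidHom :=
    Subgroup.characteristic_iff_le_comap.mp inferInstance f
  unfold zsub
  refine sup_le ?_ fun x hx => Subgroup.mem_sup_right (h1 hx)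
  intro x hx
  refine Subgroup.mem_sup_left ?_
  split_ifs at hx ⊢
  · rw [Subgroup.mem_bot] at hx ⊢; rw [hx, map_one]
  · exact Subgroup.characteristic_iff_le_comap.mp inferInstance f hx

instance zsubNormal : (zsub P).Normal := ⟨fun _ hx g => zsub_apply_mem (MulAut.conj g) hx⟩

theorem commutator_le_zsub : commutator P ≤ zsub P := le_sup_right

theorem zsub_le_center (hcls : ∀ a b : P, com a b ∈ center P) : zsub P ≤ center P := by
  unfold zsub
  refine sup_le ?_ ?_
  · split_ifs
    · exact bot_le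
    · exact le_rfl
  · rw [commutator_def, Subgroup.commutator_le]
    exact fun a _ b _ => hcls a b

theorem center_le_zsub (hnab : ¬ ∀ a b : P, a * b = b * a) : center P ≤ zsub P := by
  unfold zsub
  rw [if_neg hnab]
  exact le_sup_left

theorem eq_one_of_mem_zsub (hab : ∀ a b : P, a * b = b * a) {z : P} (hz : z ∈ zsub P) : z = 1 := by
  have h : zsub P ≤ ⊥ := by
    unfold zsub
    rw [if_pos hab]
    refine sup_le le_rfl ?_
    rw [commutator_def, Subgroup.commutator_le]
    intro a _ b _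
    rw [Subgroup.mem_bot, commutatorElement_def, hab a b, mul_inv_cancel_right, mul_inv_cancel]
  exact Subgroup.mem_bot.mp (h hz)

/-- The quotient by the centre, or the group itself if abelian. -/
abbrev Mq (P : Type u) [Group P] : Type u := P ⧸ zsub P

noncomputable instance mqCommGroup : CommGroup (Mq P) :=
  { (inferInstance : Group (Mq P)) with
    mul_comm := fun x y => by
      obtain ⟨a, rfl⟩ := QuotientGroup.mk_surjective x
      obtain ⟨b, rfl⟩ := QuotientGroup.mk_surjective y
      refine (QuotientGroup.eq.mpr (commutator_le_zsub ?_) :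
        (QuotientGroup.mk (a * b) : Mq P) = QuotientGroup.mk (b * a))
      rw [show (a * b)⁻¹ * (b * a) = ⁅b⁻¹, a⁻¹⁆ by simp [commutatorElement_def, mul_assoc]]
      exact Subgroup.commutator_mem_commutator (mem_top _) (mem_top _) }

variable [Finite P]

/-- The action of the automorphisms on the quotient. -/
noncomputable def toM : MulAut P →* MulAut (Mq P) :=
  H1.Gross.quotHom (MonoidHom.id _) (zsub P) fun f _ hx => zsub_apply_mem f hx

theorem toM_mk (f : MulAut P) (x : P) : toM f (QuotientGroup.mk x) = (QuotientGroup.mk (f x) : Mq P) := rfl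

theorem mq_isPGroup {p : ℕ} (hP : IsPGroup p P) : IsPGroup p (Mq P) := hP.to_quotient _

theorem exists_fixed_lift {r : ℕ} [Fact r.Prime] (θ : MulAut P) (hθ : θ ^ r = 1) (hr : ¬ r ∣ Nat.card P)
    {y : Mq P} (hy : toM θ y = y) : ∃ c : P, θ c = c ∧ (QuotientGroup.mk c : Mq P) = y := by
  obtain ⟨a, rfl⟩ := QuotientGroup.mk_surjective y
  rw [toM_mk] at hy
  obtain ⟨c, hc, hcθ⟩ := exists_fixed_coset θ hθ (zsub P) (fun x hx => zsub_apply_mem θ hx)
    (fun h => hr (h.trans (Subgroup.card_subgroup_dvd_card _))) a (QuotientGroup.eq.mp hy.symm)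
  exact ⟨c, hcθ, (QuotientGroup.eq.mpr hc).symm⟩

theorem eq_one_of_toM {f : MulAut P} {k : ℕ} (hk : f ^ k = 1) (hco : k.Coprime (Nat.card P))
    (hfix : ∀ z ∈ zsub P, f z = z) (h : toM f = 1) : f = 1 := MulEquiv.ext fun x => by
  refine H1.Gross.eq_of_disp_fixed f hk hco x (hfix _ ?_)
  exact QuotientGroup.eq.mp (congrArg (fun g : MulAut (Mq P) => g (QuotientGroup.mk x)) h).symm

end Quotient

section Norms

/-- Twisted linearity of a commutator map. -/
theorem commutator_map_apply {M : Type u} [CommGroup M] (e t : MulAut M) (y : M)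
    (h : com e t (t (e y)) = t (e y)) : e (t y) / t y = t (e y / y) := by
  rw [map_div, show e (t y) = com e t (t (e y)) by simp [com, MulAut.mul_apply], h]

/-- A group of operators fixing a commutator with an orbit product of a displacement forces it to vanish. -/
theorem eq_of_ops_fix {M : Type u} [CommGroup M] [Finite M] (θ e : MulAut M) (X Z : Subgroup (MulAut M))
    (hXθ : ∀ t ∈ X, θ * t * θ⁻¹ ∈ X) (hZX : Z ≤ X) (hZe : ∀ z ∈ Z, e * z = z * e)
    (hZc : ∀ z ∈ Z, ∀ t ∈ X, z * t = t * z) (hcom : ∀ t ∈ X, com e t ∈ Z)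
    (hco : (Nat.card X * Nat.card Z).Coprime (Nat.card M)) (r : ℕ) {x : MulAut M} (hx : x ∈ X) (a : M)
    (hfix : ∀ t ∈ X, t (e (orbitProd θ r (x a / a)) / orbitProd θ r (x a / a)) =
      e (orbitProd θ r (x a / a)) / orbitProd θ r (x a / a)) :
    e (orbitProd θ r (x a / a)) = orbitProd θ r (x a / a) := by
  haveI : Finite (MulAut M) := Finite.of_injective (fun g : MulAut M => (g : M → M)) DFunLike.coe_injective
  haveI : Fintype X := Fintype.ofFinite _
  haveI : Fintype Z := Fintype.ofFinite _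
  set c := orbitProd θ r (x a / a) with hc
  let f : M →* M :=
    { toFun := fun y => e y / y
      map_one' := by rw [map_one, div_one]
      map_mul' := fun y y' => by rw [map_mul, mul_div_mul_comm] }
  have hf : ∀ y, f y = e y / y := fun y => rfl
  have hfz : ∀ z ∈ Z, ∀ y, f (z y) = z (f y) := fun z hz y => by
    rw [hf, hf, map_div, ← MulAut.mul_apply, hZe z hz, MulAut.mul_apply]
  -- the norm of the orbit product vanishes
  have hNc : normHom X c = 1 := by
    have h0 : normHom X (x a / a) = 1 := by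
      rw [map_div, div_eq_one, normHom_apply, normHom_apply]
      exact Fintype.prod_equiv (Equiv.mulRight (⟨x, hx⟩ : X)) _ _ fun t => rfl
    have hθN : ∀ y, normHom X (θ y) = θ (normHom X y) := by
      intro y
      rw [normHom_apply, normHom_apply, map_prod]
      let b : X → X := fun t => ⟨θ * t * θ⁻¹, hXθ t t.2⟩
      have hb : Function.Bijective b := Finite.injective_iff_bijective.mp fun s t h => Subtype.ext
        (mul_left_cancel (mul_right_cancel (congrArg Subtype.val h)))
      refine (Fintype.prod_equiv (Equiv.ofBijective b hb) _ _ fun t => ?_).symm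
      show θ ((t : MulAut M) y) = (θ * (t : MulAut M) * θ⁻¹) (θ y)
      rw [MulAut.mul_apply, MulAut.mul_apply, MulAut.inv_apply_self]
    rw [hc, orbitProd, map_prod]
    refine Finset.prod_eq_one fun i hi => ?_
    clear hi
    induction i with
    | zero => exact h0
    | succ i ih => rw [pow_succ', MulAut.mul_apply, hθN, ih, map_one]
  set y := normHom Z c with hy
  have hyfix : ∀ z ∈ Z, z y = y := by
    intro z hz
    rw [hy, normHom_apply, map_prod]
    exact Fintype.prod_equiv (Equiv.mulLeft (⟨z, hz⟩ : Z)) _ _ fun t => rfl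
  have hfy : f y = f c ^ Nat.card Z := by
    rw [hy, normHom_apply, map_prod, Finset.prod_congr rfl fun (z : Z) _ =>
      (hfz z z.2 c).trans (hfix z (hZX z.2)), Finset.prod_const, Finset.card_univ, Nat.card_eq_fintype_card]
    rfl
  have hft : ∀ t : X, f ((t : MulAut M) y) = f y := by
    intro t
    rw [hf, commutator_map_apply, ← hf, hfy, map_pow]
    · exact congrArg (· ^ Nat.card Z) (hfix t t.2)
    · have hz := hcom t t.2
      rw [← MulAut.mul_apply, hZc _ hz t t.2, MulAut.mul_apply]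
      refine congrArg (t : MulAut M) ?_
      rw [← MulAut.mul_apply, ← hZe _ hz, MulAut.mul_apply, hyfix _ hz]
  have h1 : f (normHom X y) = f c ^ (Nat.card X * Nat.card Z) := by
    rw [normHom_apply, map_prod, Finset.prod_congr rfl fun t _ => hft t, Finset.prod_const, Finset.card_univ,
      ← Nat.card_eq_fintype_card, hfy, ← pow_mul, mul_comm (Nat.card Z)]
  have h2 : normHom X y = 1 := by
    rw [normHom_apply, hy, normHom_apply]
    calc ∏ t : X, (t : MulAut M) (∏ z : Z, (z : MulAut M) c)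
        = ∏ t : X, ∏ z : Z, (z : MulAut M) ((t : MulAut M) c) := Finset.prod_congr rfl fun t _ => by
          rw [map_prod]
          refine Finset.prod_congr rfl fun z _ => ?_
          rw [← MulAut.mul_apply, ← MulAut.mul_apply, hZc z z.2 t t.2]
      _ = ∏ z : Z, (z : MulAut M) (normHom X c) := by
          rw [Finset.prod_comm]
          simp only [normHom_apply, map_prod]
      _ = 1 := Finset.prod_eq_one fun z _ => by rw [hNc, map_one]
  rw [h2, map_one] at h1
  have h3 := pow_gcd_eq_one.mpr ⟨h1.symm, pow_card_eq_one'⟩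
  rw [hco, pow_one] at h3
  exact div_eq_one.mp h3

/-- The commutators of a fixed operator with the displacements are central displacements. -/
theorem com_mem_zdisp {P : Type u} [Group P] [Finite P] (θ : MulAut P) (R : Subgroup (MulAut P))
    (hRθ : ∀ t ∈ R, θ * t * θ⁻¹ ∈ R) (hRcls : ∀ a ∈ R, ∀ b ∈ R, ∀ t ∈ R, com a b * t = t * com a b)
    {e : MulAut P} (he : e ∈ R) (heθ : θ * e * θ⁻¹ = e) {t : MulAut P} (ht : t ∈ rdisp θ R) :
    com e t ∈ zdisp θ R := by
  have hcR : ∀ a ∈ R, ∀ b ∈ R, com a b ∈ R := fun a ha b hb =>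
    mul_mem (mul_mem (mul_mem ha hb) (inv_mem ha)) (inv_mem hb)
  have hmul : ∀ a ∈ R, ∀ b ∈ R, com e (a * b) = com e a * com e b := by
    intro a ha b hb
    rw [show com e (a * b) = com e a * (a * com e b * a⁻¹) by simp only [com]; group,
      ← hRcls e he b hb a ha, mul_inv_cancel_right]
  have hinv : ∀ a ∈ R, com e a⁻¹ = (com e a)⁻¹ := fun a ha => by
    refine eq_inv_of_mul_eq_one_left ?_
    rw [← hmul _ (inv_mem ha) a ha, inv_mul_cancel]
    simp [com]
  suffices h : ∀ t ∈ rdisp θ R, t ∈ R ∧ com e t ∈ zdisp θ R from (h t ht).2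
  intro t ht
  rw [rdisp] at ht
  induction ht using Subgroup.closure_induction with
  | mem u hu =>
    obtain ⟨a, ha, rfl⟩ := hu
    refine ⟨mul_mem (inv_mem ha) (hRθ a ha), ?_⟩
    rw [hmul _ (inv_mem ha) _ (hRθ a ha), hinv a ha]
    refine subset_closure ⟨com e a, ⟨hcR e he a ha, Subgroup.mem_centralizer_iff.mpr fun s hs =>
      (hRcls e he a ha s hs).symm⟩, ?_⟩
    refine congrArg ((com e a)⁻¹ * ·) ?_
    conv_lhs => rw [← heθ]
    simp only [com]
    group
  | one => exact ⟨one_mem _, by rw [show com e (1 : MulAut P) = 1 by simp [com]]; exact one_mem _⟩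
  | mul a b _ _ ha hb => exact ⟨mul_mem ha.1 hb.1, by rw [hmul a ha.1 b hb.1]; exact mul_mem ha.2 hb.2⟩
  | inv a _ ha => exact ⟨inv_mem ha.1, by rw [hinv a ha.1]; exact inv_mem ha.2⟩

end Norms

section Down

variable {Q : Type u} [Group Q] [Finite Q] {P : Type u} [Group P] [Finite P] (θQ : MulAut Q) (θP : MulAut P)
  (φ : Q →* MulAut P) (hφ : ∀ a, θP * φ a = φ (θQ a) * θP)

include hφ in
theorem conj_range_eq (a : Q) : θP * φ a * θP⁻¹ = φ (θQ a) := by
  rw [hφ, mul_inv_cancel_right]

include hφ in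
theorem conj_range_mem (t : MulAut P) (ht : t ∈ φ.range) : θP * t * θP⁻¹ ∈ φ.range := by
  obtain ⟨a, rfl⟩ := ht
  exact ⟨θQ a, (conj_range_eq θQ θP φ hφ a).symm⟩

include hφ in
theorem map_disp_mem {x : Q} (hx : x ∈ disp θQ) : φ x ∈ rdisp θP φ.range := by
  suffices h : disp θQ ≤ (rdisp θP φ.range).comap φ from h hx
  rw [disp, closure_le]
  rintro _ ⟨a, rfl⟩
  refine subset_closure ⟨φ a, ⟨a, rfl⟩, ?_⟩
  rw [map_mul, map_inv, conj_range_eq θQ θP φ hφ]

include hφ in
/-- A strong element moves a fixed element to one moved by the displacements. -/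
theorem moved_of_strong {p : ℕ} [Fact p.Prime] (hP : IsPGroup p P) {r : ℕ} [Fact r.Prime] (hpr : p ≠ r)
    (hθP : θP ^ r = 1) {q : ℕ} [Fact q.Prime] (hqp : q ≠ p) (hR : IsPGroup q φ.range)
    (hRcls : ∀ a ∈ φ.range, ∀ b ∈ φ.range, ∀ t ∈ φ.range, com a b * t = t * com a b)
    {K : Type v} [Field K] [CharP K p] {e : Q} (he : θQ e = e)
    (hs : Strong θQ r ((biRep p (Mq P) K).comp (toM.comp φ)) (biRep p (Mq P) K (toM θP)) e) :
    ∃ c : P, θP c = c ∧ ∃ t ∈ rdisp θP φ.range, t (φ e c * c⁻¹) ≠ φ e c * c⁻¹ := by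
  obtain ⟨x, hx, v, hv⟩ := hs
  obtain ⟨a, ha⟩ := exists_moved_disp p (Mq P) K (r := r) (toM θP) (toM (φ x)) (toM (φ e)) hv
  have hθM : toM θP ^ r = 1 := by rw [← map_pow, hθP, map_one]
  obtain ⟨c, hcθ, hc⟩ := exists_fixed_lift θP hθP (not_dvd_card hP hpr)
    (apply_orbitProd (toM θP) hθM (toM (φ x) a / a))
  refine ⟨c, hcθ, ?_⟩
  by_contra hall
  push Not at hall
  apply ha
  haveI : Finite (MulAut P) := Finite.of_injective (fun g : MulAut P => (g : P → P)) DFunLike.coe_injective
  have hRθ := conj_range_mem θQ θP φ hφ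
  have hX : rdisp θP φ.range ≤ φ.range := rdisp_le hRθ
  have hZc : zdisp θP φ.range ≤ φ.range ⊓ Subgroup.centralizer (φ.range : Set (MulAut P)) :=
    zdisp_le θP hθP φ.range hRθ
  refine eq_of_ops_fix (toM θP) (toM (φ e)) ((rdisp θP φ.range).map toM) ((zdisp θP φ.range).map toM) ?_ ?_ ?_ ?_ ?_ ?_
    r (Subgroup.mem_map_of_mem toM (map_disp_mem θQ θP φ hφ hx)) a ?_
  · rintro _ ⟨t, ht, rfl⟩
    exact ⟨θP * t * θP⁻¹, rdisp_conj hRθ ht, by rw [map_mul, map_mul, map_inv]⟩
  · refine Subgroup.map_mono ((Subgroup.closure_mono ?_))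
    rintro _ ⟨t, ht, rfl⟩
    exact ⟨t, ht.1, rfl⟩
  · rintro _ ⟨z, hz, rfl⟩
    rw [← map_mul, ← map_mul, Subgroup.mem_centralizer_iff.mp (hZc hz).2 _ ⟨e, rfl⟩]
  · rintro _ ⟨z, hz, rfl⟩ _ ⟨t, ht, rfl⟩
    rw [← map_mul, ← map_mul, Subgroup.mem_centralizer_iff.mp (hZc hz).2 _ (hX ht)]
  · rintro _ ⟨t, ht, rfl⟩
    exact ⟨com (φ e) t, com_mem_zdisp θP φ.range hRθ hRcls ⟨e, rfl⟩
      (by rw [conj_range_eq θQ θP φ hφ, he]) ht, map_com toM (φ e) t⟩
  · obtain ⟨i, hi⟩ := IsPGroup.iff_card.mp ((hR.to_le hX).map toM)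
    obtain ⟨j, hj⟩ := IsPGroup.iff_card.mp ((hR.to_le (hZc.trans inf_le_left)).map toM)
    obtain ⟨k, hk⟩ := IsPGroup.iff_card.mp (mq_isPGroup hP)
    rw [hi, hj, hk, ← pow_add]
    exact ((Nat.coprime_primes Fact.out Fact.out).mpr hqp).pow _ _
  · rintro _ ⟨t, ht, rfl⟩
    rw [← hc, toM_mk, div_eq_mul_inv, ← QuotientGroup.mk_inv, ← QuotientGroup.mk_mul, toM_mk, hall t ht]

end Down

/-- The hypotheses of the step at one level. -/
structure Stage {Q : Type u} [Group Q] [Finite Q] (θ : MulAut Q) (R : Subgroup (MulAut Q)) (r q p : ℕ)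
    {K : Type v} [Field K] {V : Type w} [AddCommGroup V] [Module K V] (ρ : Q →* Module.End K V)
    (S : Module.End K V) : Prop where
  isPGroup : IsPGroup q Q
  cls : ∀ a b : Q, com a b ∈ center Q
  pow : ∀ a : Q, a ^ q ∈ center Q
  pow_comm : (∀ a b : Q, a * b = b * a) → ∀ a : Q, a ^ q = 1
  ne_r : q ≠ r
  theta : θ ^ r = 1
  rK : (r : K) ≠ 0
  qK : (q : K) ≠ 0
  inj : Function.Injective ρ
  powS : S ^ r = 1
  comp : ∀ a, S * ρ a = ρ (θ a) * S
  ops_ne : p ≠ q
  ops_ne_r : p ≠ r
  ops_pgroup : IsPGroup p R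
  ops_inv : ∀ t ∈ R, θ * t * θ⁻¹ ∈ R
  ops_center : (¬ ∀ a b : Q, a * b = b * a) → ∀ t ∈ R, ∀ z ∈ center Q, t z = z
  ops_cls : ∀ a ∈ R, ∀ a' ∈ R, ∀ t ∈ R, com a a' * t = t * com a a'
  lift : ∀ t ∈ R, ∃ G : Module.End K V, Function.Injective G ∧ ∀ a, G * ρ a = ρ (t a) * G

section Steps

variable {Q : Type u} [Group Q] [Finite Q] {θ : MulAut Q} {R : Subgroup (MulAut Q)} {r q p : ℕ} [Fact r.Prime]
  [Fact q.Prime] [Fact p.Prime] {K : Type v} [Field K] [IsAlgClosed K] {V : Type w} [AddCommGroup V]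
  [Module K V] [FiniteDimensional K V] {ρ : Q →* Module.End K V} {S : Module.End K V}

/-- From a fixed element moved by the displacements to a strong element. -/
theorem strong_of_moved (st : Stage θ R r q p ρ S) {c : Q} (hc : θ c = c) (hmove : ∃ t ∈ rdisp θ R, t c ≠ c) :
    ∃ d, θ d = d ∧ Strong θ r ρ S d := by
  by_cases hab : ∀ a b : Q, a * b = b * a
  · letI : CommGroup Q := { (inferInstance : Group Q) with mul_comm := hab }
    obtain ⟨d, hd, hs⟩ := step_abelian st.isPGroup st.ne_r θ st.theta st.qK ρ st.inj S st.comp st.ops_ne st.ops_ne_r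
      R st.ops_pgroup st.ops_inv st.ops_cls st.lift (MonoidHom.id Q) (fun _ => rfl) (fun _ _ _ => rfl)
      (fun _ _ _ _ => rfl) hc hmove
    exact ⟨d, hd, hs⟩
  · exact ⟨c, hc, step_nonabelian st.isPGroup st.cls st.pow st.ne_r θ st.theta st.rK st.qK ρ st.inj S st.powS
      st.comp st.ops_ne st.ops_ne_r R st.ops_pgroup st.ops_inv (st.ops_center hab) hc hmove⟩

/-- From a moved commutator with a fixed operator to a strong commutator with it. -/
theorem strong_of_moved_com (st : Stage θ R r q p ρ S) {e : MulAut Q} (he : e ∈ R) (heθ : θ * e * θ⁻¹ = e)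
    {c : Q} (hc : θ c = c) (hmove : ∃ t ∈ rdisp θ R, t (e c * c⁻¹) ≠ e c * c⁻¹) :
    ∃ d, θ d = d ∧ Strong θ r ρ S (e d * d⁻¹) := by
  have hcomm : ∀ x, e (θ x) = θ (e x) := fun x => by
    rw [← MulAut.mul_apply, ← MulAut.mul_apply, (mul_inv_eq_iff_eq_mul.mp heθ).symm]
  by_cases hab : ∀ a b : Q, a * b = b * a
  · letI : CommGroup Q := { (inferInstance : Group Q) with mul_comm := hab }
    let f : Q →* Q :=
      { toFun := fun x => e x * x⁻¹
        map_one' := by simp
        map_mul' := fun x y => by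
          rw [map_mul, mul_inv_rev, mul_comm y⁻¹ x⁻¹, mul_mul_mul_comm] }
    obtain ⟨d, hd, hs⟩ := step_abelian st.isPGroup st.ne_r θ st.theta st.qK ρ st.inj S st.comp st.ops_ne st.ops_ne_r
      R st.ops_pgroup st.ops_inv st.ops_cls st.lift f
      (fun x => by show e (θ x) * (θ x)⁻¹ = θ (e x * x⁻¹); rw [hcomm, map_mul, map_inv])
      (fun z hz x => by
        show e (z x) * (z x)⁻¹ = z (e x * x⁻¹)
        rw [map_mul, map_inv, ← MulAut.mul_apply, Subgroup.mem_centralizer_iff.mp hz.2 e he, MulAut.mul_apply])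
      (fun t ht x hx => by
        show e (t x) * (t x)⁻¹ = t (e x * x⁻¹)
        rw [← div_eq_mul_inv, ← div_eq_mul_inv]
        refine commutator_map_apply e t x ?_
        have hz := com_mem_zdisp θ R st.ops_inv st.ops_cls he heθ ht
        have hzc := (zdisp_le θ st.theta R st.ops_inv hz).2
        rw [← MulAut.mul_apply, ← Subgroup.mem_centralizer_iff.mp hzc t (rdisp_le st.ops_inv ht), MulAut.mul_apply]
        refine congrArg t ?_
        rw [← MulAut.mul_apply, ← Subgroup.mem_centralizer_iff.mp hzc e he, MulAut.mul_apply, hx _ hz])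
      hc hmove
    exact ⟨d, hd, hs⟩
  · refine ⟨c, hc, step_nonabelian st.isPGroup st.cls st.pow st.ne_r θ st.theta st.rK st.qK ρ st.inj S st.powS
      st.comp st.ops_ne st.ops_ne_r R st.ops_pgroup st.ops_inv (st.ops_center hab) ?_ hmove⟩
    rw [map_mul, map_inv, ← hcomm, hc]

/-- An element fixed by a generating group of operators is central. -/
theorem mem_center_of_fixed (hcls : ∀ a b : Q, com a b ∈ center Q)
    (hgen : closure {z : Q | ∃ a, ∃ t ∈ R, z = a⁻¹ * t a} = ⊤) (hZ : ∀ t ∈ R, ∀ z ∈ center Q, t z = z) {x : Q}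
    (hx : ∀ t ∈ R, t x = x) : x ∈ center Q := by
  rw [mem_center_iff]
  intro y
  have hle : closure {z : Q | ∃ a, ∃ t ∈ R, z = a⁻¹ * t a} ≤ Subgroup.centralizer ({x} : Set Q) := by
    rw [closure_le]
    rintro _ ⟨a, t, ht, rfl⟩
    refine Subgroup.mem_centralizer_singleton_iff.mpr ?_
    have h1 : com x (t a) = com x a := by
      conv_lhs => rw [← hx t ht, ← map_com', hZ t ht _ (hcls x a)]
    have h2 : com x (a * (a⁻¹ * t a)) = com x a * com x (a⁻¹ * t a) := com_mul_right hcls _ _ _
    rw [mul_inv_cancel_left, h1, left_eq_mul] at h2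
    rw [com, mul_inv_eq_one, mul_inv_eq_iff_eq_mul] at h2
    exact h2.symm
  exact Subgroup.mem_centralizer_singleton_iff.mp (hle (hgen ▸ mem_top y))

end Steps

end H1.Turull
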