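import Cfsg.Agent.H1.Turull.Cases

/-!
The Fitting height exceeds that of the fixed points of a coprime automorphism of prime order by at most two.
-/

set_option autoImplicit false
set_option linter.style.haveILetI false

namespace H1.Turull

open Subgroup
open H31.FitLen

universe u

variable {G : Type u} [Group G] [Finite G]

/-- The Fitting height is at most two more than that of the fixed points. -/
theorem res_add_two_eq_bot (hG : Group.IsSolvable G) (σ : MulAut G) {r : ℕ} [Fact r.Prime] (hσ : σ ^ r = 1)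
    (hcop : ¬ r ∣ Nat.card G) (C : Subgroup G) (hC : ∀ g, g ∈ C ↔ σ g = g) {n : ℕ} (hn : res n C = ⊥) :
    res (n + 2) (⊤ : Subgroup G) = ⊥ := by
  classical
  by_contra hne
  obtain ⟨p, L, hL, -⟩ := exists_tower (n + 2) hG σ r Fact.out hσ hcop hne
  obtain ⟨T, h⟩ := exists_min_tower hL
  have hdeep : ∀ k, n ≤ k → res k C = ⊥ := fun k hk => le_bot_iff.mp (hn ▸ res_antitone C hk)
  -- the levels above the last moved one
  have hlow : ∀ a ≤ 2, (∀ b, a ≤ b → b ≤ n + 2 → secAut h b = 1) → False := by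
    intro a ha htriv
    have hfix : ∀ b, a ≤ b → b ≤ n + 2 → ∀ x ∈ T b, σ x = x := fun b hb hb' =>
      fixed_above h hσ hcop a htriv (n + 2 - b) b (by omega) hb
    refine h.ne 2 (by omega) fun x hx => ?_
    have h1 := level_le_res h hC (t := 1) (fun b hb hb' => hfix b (by omega) hb') n 2 (by omega) (by omega) hx
    rw [hn, Subgroup.mem_bot] at h1
    rw [h1]
    exact one_mem _
  by_cases hex : ∃ t ≤ n + 2, secAut h t ≠ 1
  swap
  · push Not at hex
    exact hlow 0 (Nat.zero_le 2) fun b _ hb => hex b hb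
  obtain ⟨t, ⟨htm, htne⟩, htmax⟩ := ((Set.finite_Iic (n + 2)).subset
    (fun t ht => ht.1 : {t | t ≤ n + 2 ∧ secAut h t ≠ 1} ⊆ Set.Iic (n + 2))).exists_maximal
    (by obtain ⟨t, ht, ht'⟩ := hex; exact ⟨t, ht, ht'⟩)
  have htriv : ∀ b, t + 1 ≤ b → b ≤ n + 2 → secAut h b = 1 := fun b hb hb' => by
    by_contra h1
    have := htmax ⟨hb', h1⟩ (by omega : t ≤ b)
    omega
  by_cases ht1 : t ≤ 1
  · exact hlow (t + 1) (by omega) htriv
  have hfix : ∀ b, t < b → b ≤ n + 2 → ∀ x ∈ T b, σ x = x := fun b hb hb' =>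
    fixed_above h hσ hcop (t + 1) htriv (n + 2 - b) b (by omega) hb
  obtain ⟨i, rfl⟩ : ∃ i, t = i + 2 := ⟨t - 2, by omega⟩
  have htop := sec_disp_top h htm htne hfix
  have hlev := level_le_res h hC hfix
  rcases (show i + 2 = n + 2 ∨ i + 3 = n + 2 ∨ i + 4 ≤ n + 2 by omega) with e | e | e
  · exact good_false h hσ hcop hC hn i 0 (by omega) (case_top h hσ hcop hC e htne)
  · exact good_false h hσ hcop hC hn i 0 (by omega) (case_next h hσ hcop hC e htne hfix)
  by_cases hmove : ∃ g, ∃ hg : g ∈ T (i + 3), ∃ y : Mq (Sec T (i + 1)), toM (secAut h (i + 1)) y = y ∧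
      toM (secAct T (i + 1) ⟨g, mem_secNorm h (by omega) (by omega : i + 3 ≤ n + 2) hg⟩) y ≠ y
  · obtain ⟨g, hg, y, hy, hne'⟩ := hmove
    exact good_false h hσ hcop hC hn i (n + 2 - (i + 3)) (by omega)
      (case_moving h hσ hcop hC (by omega) htop hg (hfix _ (by omega) (by omega) g hg)
        (hlev _ _ (by omega) (by omega) hg) hy hne')
  · push Not at hmove
    exact good_false h hσ hcop hC hn (i + 1) (n + 2 - (i + 4)) (by omega)
      (case_fixing h hσ hcop hC e htop hfix (hlev _ _ (by omega) (by omega)) hmove)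

end H1.Turull
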