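import Cfsg.Agent.H1.Turull.Twist
import Cfsg.Agent.H1.Turull.Basic

/-!
A semiregular operator group of order `r * n`, `n` a power of the characteristic: if the fixed vectors of the
part of order `r` are fixed by the whole group then `n = 2` and the degree is `2 r - 1`.
-/

set_option autoImplicit false
set_option linter.style.haveILetI false

namespace H1.Turull

open Module Subgroup
open H1.Shult
open Cfsg.Agent.H29 (eigProj sum_eigProj mul_eigProj eigProj_apply_of_eigenvector)

universe u v w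

/-- The dimension is at most the nilpotency index times the dimension of the kernel. -/
theorem finrank_le_mul_ker {K : Type*} [Field K] {V : Type*} [AddCommGroup V] [Module K V] [FiniteDimensional K V]
    (f : Module.End K V) {n : ℕ} (h : f ^ n = 0) :
    Module.finrank K V ≤ n * Module.finrank K (LinearMap.ker f) := by
  suffices H : ∀ i, Module.finrank K (LinearMap.ker (f ^ i)) ≤ i * Module.finrank K (LinearMap.ker f) by
    have := H n
    rwa [h, LinearMap.ker_zero, finrank_top] at this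
  intro i
  induction i with
  | zero => rw [pow_zero, show LinearMap.ker (1 : Module.End K V) = ⊥ from LinearMap.ker_id, finrank_bot, zero_mul]
  | succ i ih =>
    let g : LinearMap.ker (f ^ (i + 1)) →ₗ[K] LinearMap.ker (f ^ i) := LinearMap.codRestrict _
      (f ∘ₗ (LinearMap.ker (f ^ (i + 1))).subtype) fun x => by
        have e := congrArg (fun g : Module.End K V => g (x : V)) (pow_succ f i)
        exact e.symm.trans x.2
    let j : LinearMap.ker g →ₗ[K] LinearMap.ker f := LinearMap.codRestrict _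
      ((LinearMap.ker (f ^ (i + 1))).subtype ∘ₗ (LinearMap.ker g).subtype) fun x =>
        congrArg (fun y : LinearMap.ker (f ^ i) => (y : V)) (LinearMap.mem_ker.mp x.2)
    have hj : Function.Injective j := fun x y hxy =>
      Subtype.ext (Subtype.ext (congrArg (fun z : LinearMap.ker f => (z : V)) hxy))
    have h1 := LinearMap.finrank_range_add_finrank_ker g
    have h2 := LinearMap.finrank_le_finrank_of_injective hj
    have h3 := Submodule.finrank_le (LinearMap.range g)
    rw [Nat.add_mul, one_mul]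
    omega

/-- A difference of commuting operators of order a power of the characteristic is nilpotent. -/
theorem sub_pow_eq_zero {K : Type*} [Field K] {l : ℕ} [Fact l.Prime] [CharP K l] {V : Type*} [AddCommGroup V]
    [Module K V] {f g : Module.End K V} (h : Commute f g) {e : ℕ} (hf : f ^ l ^ e = 1) (hg : g ^ l ^ e = 1) :
    (f - g) ^ l ^ e = 0 := by
  rcases subsingleton_or_nontrivial V with hV | hV
  · exact LinearMap.ext fun v => Subsingleton.elim _ _
  haveI : CharP (Module.End K V) l := charP_of_injective_algebraMap (algebraMap K (Module.End K V)).injective l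
  rw [sub_pow_char_pow_of_commute l e h, hf, hg, sub_self]

variable {K : Type*} [Field K]

/-- Composition before and after. -/
def adj {X Y : Type*} [AddCommGroup X] [Module K X] [AddCommGroup Y] [Module K Y] (GX : Module.End K X)
    (GY : Module.End K Y) : Module.End K (X →ₗ[K] Y) :=
  LinearMap.llcomp K X Y Y GY - LinearMap.lcomp K Y GX

theorem adj_apply {X Y : Type*} [AddCommGroup X] [Module K X] [AddCommGroup Y] [Module K Y] (GX : Module.End K X)
    (GY : Module.End K Y) (h : X →ₗ[K] Y) : adj GX GY h = GY ∘ₗ h - h ∘ₗ GX := rfl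

theorem adj_pow {l : ℕ} [Fact l.Prime] [CharP K l] {X Y : Type*} [AddCommGroup X] [Module K X] [AddCommGroup Y]
    [Module K Y] {GX : Module.End K X} {GY : Module.End K Y} {e : ℕ} (hX : GX ^ l ^ e = 1) (hY : GY ^ l ^ e = 1) :
    adj GX GY ^ l ^ e = 0 := by
  have h1 : ∀ i : ℕ, ∀ h : X →ₗ[K] Y,
      ((LinearMap.llcomp K X Y Y GY : Module.End K (X →ₗ[K] Y)) ^ i) h = (GY ^ i) ∘ₗ h ∧
        ((LinearMap.lcomp K Y GX : Module.End K (X →ₗ[K] Y)) ^ i) h = h ∘ₗ (GX ^ i) := by
    intro i
    induction i with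
    | zero => intro h; exact ⟨rfl, rfl⟩
    | succ i ih =>
      intro h
      constructor
      · rw [pow_succ', Module.End.mul_apply, (ih h).1, pow_succ']; rfl
      · rw [pow_succ', Module.End.mul_apply, (ih h).2, pow_succ]; rfl
  unfold adj
  refine sub_pow_eq_zero ?_ ?_ ?_
  · refine LinearMap.ext fun h => ?_
    rfl
  all_goals refine LinearMap.ext fun h => ?_
  · rw [(h1 _ h).1, hY]; rfl
  · rw [(h1 _ h).2, hX]; rfl

/-- The arithmetic of the eigenspace dimensions. -/
theorem modular_dims {r n D : ℕ} (hr : r.Prime) (hn : 2 ≤ n) (hrn : r.Coprime n) {c s : ℕ}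
    (hc : n * c = D - 1) (hs : D - 1 + 2 ≤ s) (hsq : (D - 1) ^ 2 ≤ (r - 1) * s)
    (hle : r * s + 1 ≤ D * D) (hdvd : r ∣ D * D - 1) : D = 2 * r - 1 := by
  obtain ⟨r, rfl⟩ : ∃ r', r = r' + 1 := ⟨r - 1, by have := hr.one_le; omega⟩
  rw [Nat.add_sub_cancel] at hsq
  obtain ⟨T, rfl⟩ : ∃ T, D = T + 1 := by
    refine ⟨D - 1, ?_⟩
    rcases Nat.eq_zero_or_pos D with rfl | h
    · simp at hle
    · omega
  rw [Nat.add_sub_cancel] at hs hsq hc
  have e1 : (T + 1) * (T + 1) = T * (T + 2) + 1 := by ring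
  rw [e1] at hle hdvd
  rw [Nat.add_sub_cancel] at hdvd
  have hlo : r + 1 ≤ T := by
    by_contra h
    have h1 : (r + 1) * (T + 2) ≤ T * (T + 2) := le_trans (Nat.mul_le_mul_left _ hs) (by omega)
    have := Nat.le_of_mul_le_mul_right h1 (by omega)
    omega
  have hhi : T ≤ 2 * r := by
    have h1 : (r + 1) * T ^ 2 ≤ r * (T * (T + 2)) := by
      calc (r + 1) * T ^ 2 ≤ (r + 1) * (r * s) := Nat.mul_le_mul_left _ hsq
        _ = r * ((r + 1) * s) := by ring
        _ ≤ r * (T * (T + 2)) := Nat.mul_le_mul_left _ (by omega)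
    have h2 : T * T ≤ T * (2 * r) := by nlinarith
    exact Nat.le_of_mul_le_mul_left h2 (by omega)
  rcases (Nat.Prime.dvd_mul hr).mp hdvd with h | h
  · exfalso
    obtain ⟨k, hk⟩ := h
    have hk1 : k = 1 := by
      rcases k with _ | _ | k
      · omega
      · rfl
      · rw [show k + 1 + 1 = k + 2 from rfl] at hk
        have : (r + 1) * (k + 2) ≥ (r + 1) * 2 := Nat.mul_le_mul_left _ (by omega)
        omega
    rw [hk1, mul_one] at hk
    have h1 := hrn.coprime_dvd_left (dvd_refl (r + 1))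
    have h2 : n ∣ r + 1 := ⟨c, by omega⟩
    have := Nat.Coprime.eq_one_of_dvd h1.symm h2
    omega
  · obtain ⟨k, hk⟩ := h
    have hk2 : k = 2 := by
      rcases k with _ | _ | _ | k
      · omega
      · omega
      · rfl
      · rw [show k + 1 + 1 + 1 = k + 3 from rfl] at hk
        have : (r + 1) * (k + 3) ≥ (r + 1) * 3 := Nat.mul_le_mul_left _ (by omega)
        omega
    rw [hk2] at hk
    omega

theorem four_mul_le {x : ℕ} (h : 3 ≤ x) : 4 * x + 1 ≤ x ^ 2 + 4 := by nlinarith

theorem squares_le {r s : ℕ} (hr : 1 ≤ r) (h : r * s + 1 ≤ (2 * r - 1) * (2 * r - 1)) :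
    r * s ≤ r * (4 * (r - 1)) := by
  obtain ⟨r', rfl⟩ : ∃ r', r = r' + 1 := ⟨r - 1, by omega⟩
  rw [show 2 * (r' + 1) - 1 = 2 * r' + 1 by omega] at h
  rw [Nat.add_sub_cancel]
  nlinarith

theorem fixed_le_one {n m d D o c1 c2 : ℕ} (hn : 2 ≤ n) (hD : D = m + d)
    (h : n * (m * m + c1 + c2) ≤ n * o) (h1 : m * d ≤ n * c1) (h2 : d * D ≤ n * c2)
    (hc : D ^ 2 + n = n * o + 1) : m ≤ 1 := by
  by_contra h'
  obtain ⟨n', rfl⟩ : ∃ n', n = n' + 1 := ⟨n - 1, by omega⟩
  have h4 : 4 ≤ m * m := Nat.mul_le_mul (by omega : 2 ≤ _) (by omega : 2 ≤ _)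
  have h5 : n' * 4 ≤ n' * (m * m) := Nat.mul_le_mul_left _ h4
  subst hD
  nlinarith

theorem fixed_one_le {n d D o c1 c2 : ℕ} (hD : D = d + 1) (h : n * (1 + c1 + c2) ≤ n * o)
    (h2 : d * D ≤ n * c2) (hc : D ^ 2 + n = n * o + 1) : n * c1 ≤ d := by
  subst hD
  nlinarith

/-- An operator of order a power of the characteristic has square zero difference to `1` on a plane. -/
theorem sub_one_sq_of_plane {l : ℕ} [Fact l.Prime] [CharP K l] {V : Type*} [AddCommGroup V] [Module K V]
    [FiniteDimensional K V] (hV : Module.finrank K V ≤ 2) {G : Module.End K V} {e : ℕ} (hG : G ^ l ^ e = 1) :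
    (G - 1) ^ 2 = 0 := by
  have h0 : (G - 1) ^ l ^ e = 0 := sub_pow_eq_zero (Commute.one_right G) hG (one_pow _)
  refine LinearMap.ext fun v => ?_
  have h1 : v ∈ LinearMap.ker ((G - 1) ^ max 2 (l ^ e)) := by
    rw [LinearMap.mem_ker, pow_eq_zero_of_le (le_max_right 2 (l ^ e)) h0, LinearMap.zero_apply]
  rw [Module.End.ker_pow_eq_ker_pow_finrank_of_le (hV.trans (le_max_left 2 (l ^ e)))] at h1
  rw [LinearMap.zero_apply]
  obtain ⟨k, hk⟩ := Nat.exists_eq_add_of_le hV
  rw [hk, add_comm, pow_add, Module.End.mul_apply, LinearMap.mem_ker.mp h1, map_zero]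

/-- A unipotent operator fixes a line. -/
theorem eq_of_line {l : ℕ} [Fact l.Prime] [CharP K l] {V : Type*} [AddCommGroup V] [Module K V]
    [FiniteDimensional K V] (hV : Module.finrank K V ≤ 1) {G : Module.End K V} {e : ℕ} (hG : G ^ l ^ e = 1) :
    G = 1 := by
  have h0 : (G - 1) ^ l ^ e = 0 := sub_pow_eq_zero (Commute.one_right G) hG (one_pow _)
  rw [← sub_eq_zero]
  refine LinearMap.ext fun v => ?_
  have h1 : v ∈ LinearMap.ker ((G - 1) ^ max 1 (l ^ e)) := by
    rw [LinearMap.mem_ker, pow_eq_zero_of_le (le_max_right 1 (l ^ e)) h0, LinearMap.zero_apply]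
  rw [Module.End.ker_pow_eq_ker_pow_finrank_of_le (hV.trans (le_max_left 1 (l ^ e)))] at h1
  rw [LinearMap.zero_apply]
  obtain ⟨k, hk⟩ := Nat.exists_eq_add_of_le hV
  rw [← pow_one (G - 1), hk, add_comm, pow_add, Module.End.mul_apply, LinearMap.mem_ker.mp h1, map_zero]

/-- The centraliser of an operator trivial on a summand. -/
theorem block_bound {l : ℕ} [Fact l.Prime] [CharP K l] {S : Type*} [AddCommGroup S] [Module K S]
    [FiniteDimensional K S] (G : Module.End K S) {e : ℕ} (hGn : G ^ l ^ e = 1) (F C : Submodule K S)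
    (hFC : IsCompl F C) (hFfix : ∀ v ∈ F, G v = v) (hCG : ∀ v ∈ C, G v ∈ C) :
    ∃ c1 c2 : ℕ, Module.finrank K F * Module.finrank K F + c1 + c2 ≤
        Module.finrank K (Subalgebra.centralizer K ({G} : Set (Module.End K S))) ∧
      Module.finrank K C * Module.finrank K S ≤ l ^ e * c2 ∧
      Module.finrank K F * Module.finrank K C ≤ l ^ e * c1 ∧
      ∀ k, (G - 1) ^ k = 0 → Module.finrank K F * Module.finrank K C ≤ k * c1 := by
  set GC : Module.End K C := G.restrict hCG with hGC
  have hGCn : GC ^ l ^ e = 1 := by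
    rw [hGC, Module.End.pow_restrict]
    exact LinearMap.ext fun v => Subtype.ext (congrArg (fun f : Module.End K S => f (v : S)) hGn)
  let πF : S →ₗ[K] F := F.projectionOnto C hFC
  let πC : S →ₗ[K] C := C.projectionOnto F hFC.symm
  have pFF : ∀ a : F, πF (a : S) = a := fun a => Submodule.projectionOnto_apply_left hFC a
  have pFC : ∀ b : C, πF (b : S) = 0 := fun b => Submodule.projectionOnto_apply_right hFC b
  have pCC : ∀ b : C, πC (b : S) = b := fun b => Submodule.projectionOnto_apply_left hFC.symm b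
  have pCF : ∀ a : F, πC (a : S) = 0 := fun a => Submodule.projectionOnto_apply_right hFC.symm a
  have hsplit : ∀ v, ∃ (a : F) (b : C), (a : S) + b = v := fun v => by
    obtain ⟨a, ha, b, hb, hab⟩ := Submodule.mem_sup.mp
      (show v ∈ F ⊔ C by rw [hFC.sup_eq_top]; exact Submodule.mem_top)
    exact ⟨⟨a, ha⟩, ⟨b, hb⟩, hab⟩
  have hFG : ∀ v, πF (G v) = πF v ∧ πC (G v) = GC (πC v) := by
    intro v
    obtain ⟨a, b, rfl⟩ := hsplit v
    have hb : G (b : S) = ((GC b : C) : S) := rfl
    rw [map_add G, hFfix _ a.2, hb]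
    simp only [map_add, pFF, pFC, pCC, pCF, zero_add, add_zero, and_self]
  let E1 : Submodule K (F →ₗ[K] C) := LinearMap.ker (adj (1 : Module.End K F) GC)
  let E2 : Submodule K (C →ₗ[K] S) := LinearMap.ker (adj GC G)
  let Ψ : ((F →ₗ[K] F) × (E1 × E2)) →ₗ[K] Module.End K S :=
    { toFun := fun x => F.subtype ∘ₗ x.1 ∘ₗ πF + C.subtype ∘ₗ (x.2.1 : F →ₗ[K] C) ∘ₗ πF +
        (x.2.2 : C →ₗ[K] S) ∘ₗ πC
      map_add' := fun x y => LinearMap.ext fun v => by
        simp only [Prod.fst_add, Prod.snd_add, Submodule.coe_add, LinearMap.add_apply, LinearMap.comp_apply,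
          map_add]
        abel
      map_smul' := fun k x => LinearMap.ext fun v => by
        simp only [Prod.smul_fst, Prod.smul_snd, Submodule.coe_smul, LinearMap.add_apply, LinearMap.comp_apply,
          LinearMap.smul_apply, map_smul, RingHom.id_apply, smul_add] }
  have hΨapp : ∀ x v, Ψ x v = (x.1 (πF v) : S) + ((x.2.1 : F →ₗ[K] C) (πF v) : S) +
      (x.2.2 : C →ₗ[K] S) (πC v) := fun x v => rfl
  have hrange : LinearMap.range Ψ ≤
      Subalgebra.toSubmodule (Subalgebra.centralizer K ({G} : Set (Module.End K S))) := by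
    rintro _ ⟨x, rfl⟩
    rw [Subalgebra.mem_toSubmodule, Subalgebra.mem_centralizer_iff]
    intro g hg
    rw [Set.mem_singleton_iff.mp hg]
    refine LinearMap.ext fun v => ?_
    have h1 : GC ((x.2.1 : F →ₗ[K] C) (πF v)) = (x.2.1 : F →ₗ[K] C) (πF v) :=
      sub_eq_zero.mp (congrArg (fun f : F →ₗ[K] C => f (πF v)) (LinearMap.mem_ker.mp x.2.1.2))
    have h2 : ∀ c, G ((x.2.2 : C →ₗ[K] S) c) = (x.2.2 : C →ₗ[K] S) (GC c) := fun c =>
      sub_eq_zero.mp (congrArg (fun f : C →ₗ[K] S => f c) (LinearMap.mem_ker.mp x.2.2.2))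
    rw [Module.End.mul_apply, Module.End.mul_apply, hΨapp, hΨapp, map_add, map_add, (hFG v).1, (hFG v).2,
      hFfix _ (x.1 (πF v)).2, h2]
    exact congrArg₂ (· + ·) (congrArg₂ (· + ·) rfl (congrArg Subtype.val h1)) rfl
  have hΨ : Function.Injective Ψ := by
    intro x y hxy
    have h0 : ∀ v, Ψ x v = Ψ y v := fun v => congrArg (fun f : Module.End K S => f v) hxy
    have hab : ∀ w : F, x.1 w = y.1 w ∧ (x.2.1 : F →ₗ[K] C) w = (y.2.1 : F →ₗ[K] C) w := by
      intro w
      have h := h0 (w : S)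
      rw [hΨapp, hΨapp, pFF, pCF, map_zero, map_zero, add_zero, add_zero] at h
      have h1 := congrArg πF h
      have h2 := congrArg πC h
      simp only [map_add, pFF, pFC, pCC, pCF, add_zero, zero_add] at h1 h2
      exact ⟨h1, h2⟩
    have hc : ∀ w : C, (x.2.2 : C →ₗ[K] S) w = (y.2.2 : C →ₗ[K] S) w := by
      intro w
      have h := h0 (w : S)
      simpa only [hΨapp, pFC, pCC, map_zero, Submodule.coe_zero, zero_add] using h
    exact Prod.ext (LinearMap.ext fun w => (hab w).1)
      (Prod.ext (Subtype.ext (LinearMap.ext fun w => (hab w).2)) (Subtype.ext (LinearMap.ext hc)))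
  refine ⟨Module.finrank K E1, Module.finrank K E2, ?_, ?_, ?_, fun k hk => ?_⟩
  · have h := (LinearMap.finrank_range_of_inj hΨ).symm.le.trans (Submodule.finrank_mono hrange)
    rw [Subalgebra.finrank_toSubmodule] at h
    haveI : Module.Free K E1 := Module.Free.of_divisionRing K E1
    haveI : Module.Free K E2 := Module.Free.of_divisionRing K E2
    rwa [Module.finrank_prod, Module.finrank_prod, Module.finrank_linearMap, ← add_assoc] at h
  · have h := finrank_le_mul_ker (adj GC G) (adj_pow (l := l) hGCn hGn)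
    rwa [Module.finrank_linearMap] at h
  · have h := finrank_le_mul_ker (adj (1 : Module.End K F) GC) (adj_pow (l := l) (one_pow _) hGCn)
    rwa [Module.finrank_linearMap] at h
  · have hadj : adj (1 : Module.End K F) GC ^ k = 0 := by
      have hit : ∀ (i : ℕ) (f : F →ₗ[K] C) (w : F),
          (((adj (1 : Module.End K F) GC ^ i) f w : C) : S) = ((G - 1) ^ i) (f w : S) := by
        intro i
        induction i with
        | zero => intro f w; rfl
        | succ i ih =>
          intro f w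
          rw [pow_succ, pow_succ, Module.End.mul_apply, Module.End.mul_apply, ih]
          rfl
      refine LinearMap.ext fun f => LinearMap.ext fun w => Subtype.ext ?_
      rw [hit, hk]
      rfl
    have h := finrank_le_mul_ker _ hadj
    rwa [Module.finrank_linearMap] at h

variable [IsAlgClosed K]

/-- The exceptional configuration in the characteristic of the operator. -/
theorem modular_core {Q : Type*} [Group Q] [Finite Q] (hcls : ∀ a b : Q, a * b * a⁻¹ * b⁻¹ ∈ center Q)
    (hnc : ∃ a : Q, a ∉ center Q) {l : ℕ} [Fact l.Prime] [CharP K l] {r e : ℕ} [Fact r.Prime] (hlr : l ≠ r)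
    (he : 1 ≤ e) (hrK : (r : K) ≠ 0) (θ : MulAut Q) (hθN : ∀ a, (θ ^ (r * l ^ e)) a = a)
    (hθZ : ∀ c ∈ center Q, θ c = c)
    (hfree : ∀ k : ℕ, 0 < k → k < r * l ^ e → ∀ a, a⁻¹ * (θ ^ k) a ∈ center Q → a ∈ center Q)
    {W : Type*} [AddCommGroup W] [Module K W] [FiniteDimensional K W] [Nontrivial W]
    (ρ : Q →* Module.End K W) (hρ : Function.Injective ρ)
    (hscalW : ∀ c ∈ center Q, ∃ k : K, ρ c = k • (1 : Module.End K W))
    (u : Module.End K W) (hu : u ^ (r * l ^ e) = 1) (hcomm : ∀ a, u * ρ a = ρ (θ a) * u)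
    (hfix : ∀ w, (u ^ l ^ e) w = w → (u ^ r) w = w) :
    l ^ e = 2 ∧ Nat.card (Q ⧸ center Q) = (2 * r - 1) ^ 2 := by
  classical
  have hr : r.Prime := Fact.out
  have hl : l.Prime := Fact.out
  obtain ⟨S, ρS, u', φ, hS, hscal, hinj, hirr, hφinj, hu', hcomm', hφ⟩ :=
    exists_twist hcls ρ hρ hscalW θ hθZ u hu hcomm
  have hφpow : ∀ (i : ℕ) v, (u ^ i) (φ v) = φ ((u' ^ i) v) := by
    intro i
    induction i with
    | zero => intro v; rfl
    | succ i ih =>
      intro v
      rw [pow_succ', pow_succ', Module.End.mul_apply, Module.End.mul_apply, ih, hφ]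
  set n := l ^ e with hn
  have hn2 : 2 ≤ n := hl.two_le.trans (Nat.le_self_pow (by omega) l)
  have hrn : r.Coprime n := ((Nat.coprime_primes hr hl).mpr (Ne.symm hlr)).pow_right e
  set G : Module.End K S := u' ^ r with hG
  set S' : Module.End K S := u' ^ n with hS'
  have hGn : G ^ n = 1 := by rw [hG, ← pow_mul, hu']
  have hS'r : S' ^ r = 1 := by rw [hS', ← pow_mul, mul_comm, hu']
  have hGS : G * S' = S' * G := ((Commute.refl u').pow_pow r n).eq
  have hGfix : ∀ v, S' v = v → G v = v := fun v hv => hφinj (by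
    rw [← hφpow]; exact hfix _ (by rw [hφpow]; exact congrArg φ hv))
  have hunit : IsUnit u' := IsUnit.of_pow_eq_one hu' (Nat.mul_ne_zero hr.ne_zero (by omega))
  have hpowZ : ∀ (i : ℕ), ∀ c ∈ center Q, (θ ^ i) c = c := by
    intro i
    induction i with
    | zero => intro c _; rfl
    | succ i ih => intro c hc; rw [pow_succ', MulAut.mul_apply, ih c hc, hθZ c hc]
  obtain ⟨oG, hoG, hcG⟩ := centralizer_le hcls ρS hscal hinj hirr (N := n) (by omega) (θ ^ r)
    (fun a => by rw [← pow_mul]; exact hθN a) (hpowZ r)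
    (fun k hk0 hkn a ha => hfree (r * k) (Nat.mul_pos hr.pos hk0) (Nat.mul_lt_mul_of_pos_left hkn hr.pos) a
      (by rwa [← pow_mul] at ha)) hnc G (hunit.pow r) (fun a => pow_compat ρS θ u' hcomm' r a)
  obtain ⟨oS, hoS, hcS⟩ := centralizer_le hcls ρS hscal hinj hirr (N := r) hr.pos (θ ^ n)
    (fun a => by rw [← pow_mul, mul_comm]; exact hθN a) (hpowZ n)
    (fun k hk0 hkn a ha => hfree (n * k) (Nat.mul_pos (by omega) hk0)
      (by rw [mul_comm r]; exact Nat.mul_lt_mul_of_pos_left hkn (by omega)) a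
      (by rwa [← pow_mul] at ha)) hnc S' (hunit.pow n) (fun a => pow_compat ρS θ u' hcomm' n a)
  have hcard := card_quot_center hcls ρS hscal hinj hirr
  set D := Module.finrank K S with hD
  have hD2 : 2 ≤ D := by
    by_contra h
    obtain ⟨a, ha⟩ := hnc
    have h1 : Nat.card (Q ⧸ center Q) ≤ 1 := by
      rw [hcard, sq]; exact Nat.mul_le_mul (by omega : _ ≤ 1) (by omega : _ ≤ 1)
    exact ha ((QuotientGroup.eq_one_iff a).mp ((Finite.card_le_one_iff_subsingleton.mp h1).elim _ _))
  have hGne : G ≠ 1 := by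
    intro h1
    have h2 : Subalgebra.centralizer K ({G} : Set (Module.End K S)) = ⊤ := by
      rw [eq_top_iff]
      intro f _
      rw [Subalgebra.mem_centralizer_iff]
      intro g hg
      rw [Set.mem_singleton_iff.mp hg, h1, one_mul, mul_one]
    rw [h2, Subalgebra.topEquiv.toLinearEquiv.finrank_eq, Module.finrank_linearMap, ← hD] at hoG
    have h3 : n * (D * D) ≤ n * oG := Nat.mul_le_mul_left _ hoG
    have h4 : 4 ≤ D * D := Nat.mul_le_mul hD2 hD2
    nlinarith
  haveI : NeZero (r : K) := ⟨hrK⟩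
  obtain ⟨ζ, hζ⟩ := HasEnoughRootsOfUnity.exists_primitiveRoot K r
  obtain ⟨hdim, hsq⟩ := eigen_dims S' hζ hrK hS'r
  set m : Fin r → ℕ := fun i => Module.finrank K (Module.End.eigenspace S' (ζ ^ (i : ℕ))) with hm
  replace hsq : ∑ i, m i ^ 2 ≤ oS := hsq.trans hoS
  have hGE : ∀ (i : Fin r), ∀ v ∈ Module.End.eigenspace S' (ζ ^ (i : ℕ)),
      G v ∈ Module.End.eigenspace S' (ζ ^ (i : ℕ)) := by
    intro i v hv
    rw [Module.End.mem_eigenspace_iff] at hv ⊢
    rw [← Module.End.mul_apply, ← hGS, Module.End.mul_apply, hv, map_smul]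
  have hGEn : ∀ i : Fin r, (G.restrict (hGE i)) ^ n = 1 := fun i => by
    rw [Module.End.pow_restrict]
    exact LinearMap.ext fun v => Subtype.ext (congrArg (fun f : Module.End K S => f (v : S)) hGn)
  have hsum : ∀ v, ∑ i, eigProj S' r ζ i v = v := fun v => by
    rw [← LinearMap.sum_apply, sum_eigProj S' hζ hrK]; rfl
  have hproj : ∀ (i : Fin r) (v : S), eigProj S' r ζ i v ∈ Module.End.eigenspace S' (ζ ^ (i : ℕ)) := fun i v =>
    Module.End.mem_eigenspace_iff.mpr (congrArg (fun f : Module.End K S => f v) (mul_eigProj S' hζ hrK hS'r i))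
  have hline : ¬ ∀ i, m i ≤ 1 := fun hle => hGne (LinearMap.ext fun v => by
    rw [Module.End.one_apply]
    conv_rhs => rw [← hsum v]
    conv_lhs => rw [← hsum v, map_sum]
    exact Finset.sum_congr rfl fun i _ => congrArg Subtype.val
      (congrArg (fun f : Module.End K (Module.End.eigenspace S' (ζ ^ (i : ℕ))) => f ⟨_, hproj i v⟩)
        (eq_of_line (hle i) (hGEn i))))
  -- the fixed vectors and a complement
  let i0 : Fin r := ⟨0, hr.pos⟩
  set F := Module.End.eigenspace S' (ζ ^ (i0 : ℕ)) with hF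
  have hFfix : ∀ v ∈ F, G v = v := fun v hv => hGfix v (by
    have h := Module.End.mem_eigenspace_iff.mp hv
    simpa [i0] using h)
  set C := LinearMap.ker (eigProj S' r ζ i0) with hC
  have hP : LinearMap.IsProj F (eigProj S' r ζ i0) :=
    ⟨hproj i0, fun v hv => (eigProj_apply_of_eigenvector S' hζ hrK (j := i0) (Module.End.mem_eigenspace_iff.mp hv)).trans
      (if_pos rfl)⟩
  have hFC : IsCompl F C := hP.isCompl
  have hGP : Commute G (eigProj S' r ζ i0) := by
    unfold eigProj
    exact (Commute.sum_right _ _ _ fun k _ => ((show Commute G S' from hGS).pow_right k).smul_right _).smul_right _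
  have hCG : ∀ v ∈ C, G v ∈ C := fun v hv => by
    rw [hC, LinearMap.mem_ker] at hv ⊢
    rw [← Module.End.mul_apply, ← hGP.eq, Module.End.mul_apply, hv, map_zero]
  have hdimC : m i0 + Module.finrank K C = D := Submodule.finrank_add_eq_of_isCompl hFC
  obtain ⟨c1, c2, hbound', hE2, hE1, hE1'⟩ := block_bound G hGn F C hFC hFfix hCG
  have hbound : m i0 * m i0 + c1 + c2 ≤ oG := hbound'.trans hoG
  set dC := Module.finrank K C with hdC
  change dC * D ≤ n * c2 at hE2
  change m i0 * dC ≤ n * c1 at hE1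
  replace hE1' : ∀ k, (G - 1) ^ k = 0 → m i0 * dC ≤ k * c1 := hE1'
  have hmi : ∀ i : Fin r, Module.finrank K (Module.End.eigenspace S' (ζ ^ (i : ℕ))) = m i := fun i => rfl
  replace hdim : ∑ i, m i = D := hdim.trans hD.symm
  clear_value m dC D
  clear hbound'
  have hn0 : n * (m i0 * m i0 + c1 + c2) ≤ n * oG := Nat.mul_le_mul_left _ hbound
  have hm0 : m i0 ≤ 1 := fixed_le_one hn2 hdimC.symm hn0 hE1 hE2 hcG
  rcases Nat.eq_zero_or_pos (m i0) with h0 | hpos
  · exact absurd (fun i => by
      by_cases hi : i = i0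
      · rw [hi]; omega
      · exact le_of_eq ((dims_eq hr.pos m h0 hD2 hdim hsq hcS).2 i hi)) hline
  have hm1 : m i0 = 1 := by omega
  rw [hm1, one_mul] at hE1 hn0
  have hdC' : D = dC + 1 := by omega
  have hc1' : n * c1 = D - 1 := by
    rw [hdC', Nat.add_sub_cancel]
    exact le_antisymm (fixed_one_le hdC' hn0 hE2 hcG) hE1
  have hs : D - 1 + 2 ≤ ∑ i ∈ Finset.univ.erase i0, m i ^ 2 ∧ (∑ i ∈ Finset.univ.erase i0, m i) = D - 1 ∧
      ∑ i, m i ^ 2 = 1 + ∑ i ∈ Finset.univ.erase i0, m i ^ 2 := by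
    push Not at hline
    obtain ⟨i, hi⟩ := hline
    have hii : i ≠ i0 := fun h => by rw [h, hm1] at hi; omega
    have h1 : ∑ i ∈ Finset.univ.erase i0, m i = D - 1 := by
      have h := Finset.add_sum_erase _ m (Finset.mem_univ i0)
      rw [hm1, hdim] at h
      omega
    refine ⟨?_, h1, by rw [← Finset.add_sum_erase _ _ (Finset.mem_univ i0), hm1, one_pow]⟩
    have hmem : i ∈ Finset.univ.erase i0 := Finset.mem_erase.mpr ⟨hii, Finset.mem_univ _⟩
    rw [← h1, ← Finset.add_sum_erase _ _ hmem, ← Finset.add_sum_erase _ (fun i => m i ^ 2) hmem]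
    have h2 : ∑ x ∈ (Finset.univ.erase i0).erase i, m x ≤ ∑ x ∈ (Finset.univ.erase i0).erase i, m x ^ 2 :=
      Finset.sum_le_sum fun x _ => Nat.le_self_pow two_ne_zero _
    have h3 : m i + 2 ≤ m i ^ 2 := by
      rw [sq]
      have h4 : m i * 2 ≤ m i * m i := Nat.mul_le_mul_left _ hi
      omega
    omega
  obtain ⟨hs2, hsumT, hsplit⟩ := hs
  set s := ∑ i ∈ Finset.univ.erase i0, m i ^ 2 with hs'
  have hcauchy : (D - 1) ^ 2 ≤ (r - 1) * s := by
    have h := sq_sum_le_card_mul_sum_sq (s := Finset.univ.erase i0) (f := m)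
    rwa [hsumT, Finset.card_erase_of_mem (Finset.mem_univ _), Finset.card_univ, Fintype.card_fin] at h
  have hrs : r * (1 + s) ≤ r * oS := Nat.mul_le_mul_left _ (hsplit ▸ hsq)
  have hoS1 : 1 ≤ oS := by
    rcases Nat.eq_zero_or_pos oS with h | h
    · rw [h, mul_zero] at hrs
      have := Nat.mul_pos hr.pos (show 0 < 1 + s by omega)
      omega
    · exact h
  have hD' : D = 2 * r - 1 := modular_dims hr hn2 hrn hc1' hs2 hcauchy
    (by rw [mul_add, mul_one] at hrs; rw [sq] at hcS; omega)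
    ⟨oS - 1, by rw [Nat.mul_sub, mul_one]; rw [sq] at hcS; omega⟩
  refine ⟨?_, by rw [hcard, hD']⟩
  -- all other eigenspaces are planes
  have hall : ∀ i, m i ≤ 2 := by
    intro i
    by_cases hi : i = i0
    · rw [hi]; omega
    by_contra h3
    have hmem : i ∈ Finset.univ.erase i0 := Finset.mem_erase.mpr ⟨hi, Finset.mem_univ _⟩
    have hge : ∀ x : ℕ, 4 * x ≤ x ^ 2 + 4 := fun x => by zify; nlinarith [sq_nonneg ((x : ℤ) - 2)]
    have h4 : ∑ x ∈ (Finset.univ.erase i0).erase i, 4 * m x ≤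
        ∑ x ∈ (Finset.univ.erase i0).erase i, (m x ^ 2 + 4) := Finset.sum_le_sum fun x _ => hge _
    rw [← Finset.mul_sum, Finset.sum_add_distrib, Finset.sum_const, smul_eq_mul, Finset.card_erase_of_mem hmem,
      Finset.card_erase_of_mem (Finset.mem_univ _), Finset.card_univ, Fintype.card_fin] at h4
    have e1 := Finset.add_sum_erase _ m hmem
    rw [hsumT] at e1
    have e2 := Finset.add_sum_erase _ (fun i => m i ^ 2) hmem
    rw [← hs'] at e2
    have h5 : 4 * m i + 1 ≤ m i ^ 2 + 4 := four_mul_le (by omega)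
    rw [sq] at hcS
    have h6 : r * s + 1 ≤ D * D := by rw [mul_add, mul_one] at hrs; omega
    have h7 : r * s ≤ r * (4 * (r - 1)) := squares_le hr.one_le (hD' ▸ h6)
    have h8 := Nat.le_of_mul_le_mul_left h7 hr.pos
    omega
  have hsq0 : (G - 1) ^ 2 = 0 := LinearMap.ext fun v => by
    rw [LinearMap.zero_apply]
    conv_lhs => rw [← hsum v, map_sum]
    refine Finset.sum_eq_zero fun i _ => ?_
    have h := congrArg (fun f : Module.End K (Module.End.eigenspace S' (ζ ^ (i : ℕ))) =>
      ((f ⟨_, hproj i v⟩ : Module.End.eigenspace S' (ζ ^ (i : ℕ))) : S))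
      (sub_one_sq_of_plane ((hmi i).trans_le (hall i)) (hGEn i))
    rw [pow_two, Module.End.mul_apply] at h
    rw [pow_two, Module.End.mul_apply]
    exact h
  have h : m i0 * dC ≤ 2 * c1 := hE1' 2 hsq0
  rw [hm1, one_mul] at h
  have hDd : 1 ≤ dC := by omega
  have h9 : n * c1 ≤ 2 * c1 := by omega
  have hc1pos : 0 < c1 := by omega
  have := Nat.le_of_mul_le_mul_right h9 hc1pos
  omega

end H1.Turull
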