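import Cfsg.Agent.H1.Turull.Forms
import Cfsg.Agent.H1.Turull.Modular

/-!
Invariant complements, and the exceptional configuration forced by a group of class two with a semiregular
automorphism without fixed vectors.
-/

set_option autoImplicit false
set_option linter.style.haveILetI false

namespace H1.Turull

open Module Subgroup
open H1.Shult

universe u v w

/-- Invariant complements in elementary abelian groups. -/
theorem exists_complement {E : Type u} [CommGroup E] [Finite E] {q : ℕ} [Fact q.Prime]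
    (hE : ∀ e : E, e ^ q = 1) {N : ℕ} (hNq : N.Coprime q) (θ : MulAut E) (hθ : θ ^ N = 1) (B X : Subgroup E)
    (hB : ∀ x ∈ B, θ x ∈ B) (hX : ∀ x ∈ X, θ x ∈ X) :
    ∃ Y : Subgroup E, Y ≤ X ∧ (∀ x ∈ Y, θ x ∈ Y) ∧ Y ⊓ B = ⊥ ∧ X ≤ Y ⊔ (X ⊓ B) := by
  classical
  have hq : q.Prime := Fact.out
  have hEA : ∀ a : Additive E, q • a = 0 := fun a => by
    apply Additive.toMul.injective
    rw [toMul_nsmul, hE, toMul_zero]
  obtain ⟨hmod⟩ : Nonempty (Module (ZMod q) (Additive E)) := ⟨AddCommGroup.zmodModule hEA⟩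
  let C : Submodule (ZMod q) (Additive E) := AddSubgroup.toZModSubmodule q (Subgroup.toAddSubgroup (X ⊓ B))
  obtain ⟨D, hD⟩ := C.exists_isCompl
  let pr := C.projectionOnto D hD
  let π0 : E →* E := MonoidHom.mk' (fun x => (pr (Additive.ofMul x) : Additive E).toMul) fun x y => by
    rw [ofMul_mul, map_add, Submodule.coe_add, toMul_add]
  have hπ0 : ∀ x, π0 x ∈ X ⊓ B := fun x => (pr (Additive.ofMul x)).2
  have hπ0' : ∀ x ∈ X ⊓ B, π0 x = x := fun x hx =>
    congrArg (fun z : C => (z : Additive E).toMul)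
      (Submodule.projectionOnto_apply_left hD (⟨Additive.ofMul x, hx⟩ : C))
  have hXBθ : ∀ x ∈ X ⊓ B, θ x ∈ X ⊓ B := fun x hx => ⟨hX x hx.1, hB x hx.2⟩
  have hinv : ∀ i : ℕ, ∀ x ∈ X ⊓ B, ((θ ^ i)⁻¹ : MulAut E) x ∈ X ⊓ B := by
    intro i x hx
    rcases Nat.eq_zero_or_pos N with h0 | hN0
    · rw [h0, Nat.coprime_zero_left] at hNq
      exact absurd hNq hq.ne_one
    have h1 : (θ ^ i)⁻¹ = θ ^ ((N - 1) * i) := by
      refine inv_eq_of_mul_eq_one_left ?_
      rw [← pow_add, ← Nat.succ_mul, show (N - 1).succ = N by omega, pow_mul, hθ, one_pow]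
    rw [h1]
    exact pow_apply_mem hXBθ _ hx
  let conj : ℕ → (E →* E) := fun i =>
    ((θ ^ i).toMonoidHom.comp π0).comp ((θ ^ i)⁻¹ : MulAut E).toMonoidHom
  let π : E →* E := ∏ i ∈ Finset.range N, conj i
  have hπmem : ∀ x, π x ∈ X ⊓ B := by
    intro x
    rw [MonoidHom.finsetProd_apply]
    exact Subgroup.prod_mem _ fun i _ => pow_apply_mem hXBθ i (hπ0 _)
  have hπfix : ∀ x ∈ X ⊓ B, π x = x ^ N := by
    intro x hx
    rw [MonoidHom.finsetProd_apply, Finset.prod_congr rfl (g := fun _ => x) (fun i _ => ?_),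
      Finset.prod_const, Finset.card_range]
    show (θ ^ i) (π0 (((θ ^ i)⁻¹ : MulAut E) x)) = x
    rw [hπ0' _ (hinv i x hx), MulAut.apply_inv_self]
  have hπθ : ∀ x, π (θ x) = θ (π x) := by
    intro x
    rw [MonoidHom.finsetProd_apply, MonoidHom.finsetProd_apply, map_prod]
    let f : ℕ → E := fun i => (θ ^ i) (π0 (((θ ^ i)⁻¹ : MulAut E) (θ x)))
    show ∏ i ∈ Finset.range N, f i = ∏ i ∈ Finset.range N, θ (conj i x)
    have hf : ∀ i, θ (conj i x) = f (i + 1) := by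
      intro i
      show θ ((θ ^ i) (π0 (((θ ^ i)⁻¹ : MulAut E) x))) = _
      simp only [f]
      rw [pow_succ', MulAut.mul_apply, mul_inv_rev, MulAut.mul_apply, MulAut.inv_apply_self]
    rw [Finset.prod_congr rfl fun i _ => hf i]
    have h1 := (Finset.prod_range_succ f N).symm.trans (Finset.prod_range_succ' f N)
    have h2 : f N = f 0 := by simp [f, hθ]
    rw [h2] at h1
    exact mul_right_cancel h1
  refine ⟨X ⊓ π.ker, inf_le_left, fun x hx => ⟨hX x hx.1, ?_⟩, ?_, fun x hx => ?_⟩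
  · show π (θ x) = 1
    rw [hπθ, MonoidHom.mem_ker.mp hx.2, map_one]
  · rw [Subgroup.eq_bot_iff_forall]
    intro x hx
    have h1 := hπfix x ⟨hx.1.1, hx.2⟩
    rw [MonoidHom.mem_ker.mp hx.1.2] at h1
    have := pow_gcd_eq_one.mpr ⟨h1.symm, hE x⟩
    rwa [hNq, pow_one] at this
  · obtain ⟨t, -, ht⟩ := Nat.exists_mul_mod_eq_one_of_coprime hNq hq.one_lt
    have hπx := hπmem x
    have hpow : ∀ e : E, (e ^ t) ^ N = e := fun e => by
      rw [← pow_mul, mul_comm, pow_eq_pow_mod _ (hE e), ht, pow_one]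
    have hb : π x ^ t ∈ X ⊓ B := pow_mem hπx t
    rw [show x = (x * (π x ^ t)⁻¹) * (π x ^ t) by group]
    refine mul_mem (Subgroup.mem_sup_left (Subgroup.mem_inf.mpr ⟨mul_mem hx (inv_mem hb.1), ?_⟩))
      (Subgroup.mem_sup_right hb)
    rw [MonoidHom.mem_ker, map_mul, map_inv, hπfix _ hb, hpow, mul_inv_cancel]

variable {K : Type v} [Field K] {V : Type w} [AddCommGroup V] [Module K V]

/-- A group of class two with a semiregular automorphism modulo the radical and no fixed vectors in a block. -/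
theorem exceptional [IsAlgClosed K] [FiniteDimensional K V] {Q : Type u} [Group Q] [Finite Q]
    (hcls : ∀ a b : Q, com a b ∈ center Q) {N : ℕ} (hN : 0 < N) (hNK : (N : K) ≠ 0) {η : K}
    (hη : IsPrimitiveRoot η N) (θ : MulAut Q) {ψ : Q → K} (hψ : IsCentralChar ψ)
    (hψθ : ∀ z ∈ center Q, ψ (θ z) = ψ z) (ρ : Q →* Module.End K V) (S : Module.End K V)
    (hcomp : ∀ a, S * ρ a = ρ (θ a) * S) (W : Submodule K V) (hW0 : W ≠ ⊥) (hWS : ∀ w ∈ W, S w ∈ W)
    (Y : Subgroup Q) (hWρ : ∀ a ∈ Y, ∀ w ∈ W, ρ a w ∈ W) (hWψ : ∀ z ∈ center Q, ∀ w ∈ W, ρ z w = ψ z • w)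
    (hWfix : ∀ w ∈ W, S w = w → w = 0) (hSN : ∀ w ∈ W, (S ^ N) w = w) (hθN : ∀ a ∈ Y, (θ ^ N) a = a)
    (hYθ : ∀ x ∈ Y, θ x ∈ Y)
    (hYrad : Y ⊓ rad hψ hcls ≤ center Q) (hYne : ¬ Y ≤ center Q)
    (hfree : ∀ k, 0 < k → k < N → ∀ a ∈ Y, a⁻¹ * (θ ^ k) a ∈ rad hψ hcls → a ∈ rad hψ hcls)
    (hgen : ∃ k, 0 < k ∧ k < N ∧ ∀ a, a⁻¹ * (θ ^ k) a ∈ Y ⊔ rad hψ hcls) :
    3 ≤ N ∧ Nat.card (Y ⧸ (rad hψ hcls).subgroupOf Y) = (N - 1) ^ 2 ∧
      ∀ j, 0 < j → j < N → ∃ w ∈ W, w ≠ 0 ∧ S w = η ^ j • w := by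
  classical
  set Rd := rad hψ hcls with hRd
  haveI : Rd.Normal := rad_normal hψ hcls
  haveI : Nontrivial W := Submodule.nontrivial_iff_ne_bot.mpr hW0
  obtain ⟨w0, hw0⟩ := exists_ne (0 : W)
  let ρW : Y →* Module.End K W :=
    { toFun := fun a => (ρ a).restrict (hWρ a a.2)
      map_one' := LinearMap.ext fun v => Subtype.ext (by
        show ρ ((1 : Y) : Q) (v : V) = _
        rw [OneMemClass.coe_one, map_one]; rfl)
      map_mul' := fun a b => LinearMap.ext fun v => Subtype.ext (by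
        show ρ ((a * b : Y) : Q) (v : V) = _
        rw [Subgroup.coe_mul, map_mul]; rfl) }
  let SW : Module.End K W := S.restrict hWS
  have hscal : ∀ a : Y, (a : Q) ∈ center Q → ρW a = ψ a • (1 : Module.End K W) := fun a ha =>
    LinearMap.ext fun v => Subtype.ext (hWψ _ ha v v.2)
  let θY : MulAut Y := H28.subAut θ Y hYθ
  have hcompW : ∀ a, SW * ρW a = ρW (θY a) * SW := fun a => LinearMap.ext fun v => Subtype.ext
    (congrArg (fun f : Module.End K V => f (v : V)) (hcomp a))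
  have hSWpow : ∀ (i : ℕ) (v : W), ((SW ^ i) v : V) = (S ^ i) (v : V) := by
    intro i
    induction i with
    | zero => intro v; rfl
    | succ i ih =>
      intro v
      rw [pow_succ', pow_succ', Module.End.mul_apply, Module.End.mul_apply, ← ih]
      rfl
  have hSWN : SW ^ N = 1 := LinearMap.ext fun v => Subtype.ext (by rw [hSWpow, hSN _ v.2]; rfl)
  let ker := ρW.ker
  have hkerθ : ∀ x ∈ ker, θY x ∈ ker := by
    intro x hx
    rw [MonoidHom.mem_ker] at hx ⊢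
    have h := hcompW x
    rw [hx, mul_one] at h
    have hSinv : SW * SW ^ (N - 1) = 1 := by rw [← pow_succ', Nat.sub_add_cancel hN, hSWN]
    calc ρW (θY x) = ρW (θY x) * (SW * SW ^ (N - 1)) := by rw [hSinv, mul_one]
      _ = 1 := by rw [← mul_assoc, ← h, hSinv]
  let θg : MulAut (Y ⧸ ker) := H28.quotAut θY ker hkerθ
  let ρg : Y ⧸ ker →* Module.End K W := QuotientGroup.lift ker ρW le_rfl
  have hρgmk : ∀ a : Y, ρg (QuotientGroup.mk a) = ρW a := fun a => QuotientGroup.lift_mk' _ _ a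
  have hρg : Function.Injective ρg := by
    rw [← MonoidHom.ker_eq_bot_iff, eq_bot_iff]
    intro x hx
    obtain ⟨a, rfl⟩ := QuotientGroup.mk_surjective x
    rw [MonoidHom.mem_ker, hρgmk] at hx
    exact Subgroup.mem_bot.mpr ((QuotientGroup.eq_one_iff a).mpr hx)
  have hmk : ∀ a b : Y, (QuotientGroup.mk a : Y ⧸ ker) * QuotientGroup.mk b * (QuotientGroup.mk a)⁻¹ *
      (QuotientGroup.mk b)⁻¹ = QuotientGroup.mk (a * b * a⁻¹ * b⁻¹) := fun a b => rfl
  have hcenR : ∀ x : Y, (QuotientGroup.mk x : Y ⧸ ker) ∈ center (Y ⧸ ker) → (x : Q) ∈ Rd := by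
    intro x hx
    obtain ⟨k, hk0, hkN, hk⟩ := hgen
    have hone : ∀ y : Y, ψ (com (x : Q) (y : Q)) = 1 := by
      intro y
      have h1 := mem_center_iff.mp hx (QuotientGroup.mk y)
      have h2 : (QuotientGroup.mk (x * y * x⁻¹ * y⁻¹) : Y ⧸ ker) = 1 := by
        rw [← hmk, ← h1, mul_inv_cancel_right, mul_inv_cancel]
      have h3 : ρW (x * y * x⁻¹ * y⁻¹) = 1 := MonoidHom.mem_ker.mp ((QuotientGroup.eq_one_iff _).mp h2)
      have h4 := congrArg (fun f : Module.End K W => f w0) ((hscal (x * y * x⁻¹ * y⁻¹) (hcls _ _)).symm.trans h3)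
      exact smul_left_injective K hw0 (h4.trans (one_smul K w0).symm)
    refine hfree k hk0 hkN x x.2 (fixed_mod_rad hψ hcls (θ ^ k) (fun z hz => ?_) fun a => ?_)
    · clear hk0 hkN hk
      induction k with
      | zero => rfl
      | succ i ih =>
        rw [pow_succ', MulAut.mul_apply, hψθ, ih]
        exact (Subgroup.characteristic_iff_le_comap.mp inferInstance (θ ^ i) hz)
    · obtain ⟨y, hy, d, hd, hyd⟩ := Subgroup.mem_sup_of_normal_right.mp (hk a)
      rw [← hyd, com_mul_right hcls, hψ.mul _ (hcls _ _) _ (hcls _ _), hone ⟨y, hy⟩, one_mul]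
      rw [com_swap, hψ.inv (hcls _ _), hd, inv_one]
  have hcenQ : ∀ x : Y, (QuotientGroup.mk x : Y ⧸ ker) ∈ center (Y ⧸ ker) → (x : Q) ∈ center Q := fun x hx =>
    hYrad ⟨x.2, hcenR x hx⟩
  have hQcen : ∀ x : Y, (x : Q) ∈ center Q → (QuotientGroup.mk x : Y ⧸ ker) ∈ center (Y ⧸ ker) := by
    intro x hx
    rw [mem_center_iff]
    intro y
    obtain ⟨y, rfl⟩ := QuotientGroup.mk_surjective y
    exact congrArg QuotientGroup.mk (Subtype.ext (mem_center_iff.mp hx y))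
  have hθgpow : ∀ (i : ℕ) (x : Y), (θg ^ i) (QuotientGroup.mk x) = QuotientGroup.mk ((θY ^ i) x) :=
    fun i x => H28.quotAut_pow_mk _ _ _ i x
  have hiter : ∀ (i : ℕ) (x : Y ⧸ ker), (θg : Y ⧸ ker → Y ⧸ ker)^[i] x = (θg ^ i) x :=
    fun i x => (autPow_apply θg i x).symm
  have hθYpow : ∀ (i : ℕ) (x : Y), ((θY ^ i) x : Q) = (θ ^ i) (x : Q) := fun i x => H28.subAut_pow_coe _ _ _ i x
  obtain ⟨h3, hcard, hall, -⟩ := semiregularHH (Q := Y ⧸ ker) hN
    (fun a b => by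
      obtain ⟨a, rfl⟩ := QuotientGroup.mk_surjective a
      obtain ⟨b, rfl⟩ := QuotientGroup.mk_surjective b
      rw [hmk]
      exact hQcen _ (hcls _ _))
    (by
      obtain ⟨y, hy, hyc⟩ := SetLike.not_le_iff_exists.mp hYne
      exact ⟨QuotientGroup.mk ⟨y, hy⟩, fun h => hyc (hcenQ _ h)⟩)
    θg
    (fun a => by
      obtain ⟨a, rfl⟩ := QuotientGroup.mk_surjective a
      rw [hiter, hθgpow]
      exact congrArg QuotientGroup.mk (Subtype.ext (by rw [hθYpow, hθN _ a.2])))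
    (fun c hc => by
      obtain ⟨c, rfl⟩ := QuotientGroup.mk_surjective c
      apply hρg
      show ρg (QuotientGroup.mk (θY c)) = ρg (QuotientGroup.mk c)
      have hcc := hcenQ c hc
      have hθc : ((θY c : Y) : Q) ∈ center Q :=
        Subgroup.characteristic_iff_le_comap.mp inferInstance θ hcc
      rw [hρgmk, hρgmk, hscal _ hcc, hscal _ hθc]
      exact congrArg (· • (1 : Module.End K W)) (hψθ _ hcc))
    (fun k hk0 hkN a ha => by
      obtain ⟨a, rfl⟩ := QuotientGroup.mk_surjective a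
      rw [hiter, hθgpow] at ha
      have h1 := hcenR (a⁻¹ * (θY ^ k) a) ha
      rw [Subgroup.coe_mul, Subgroup.coe_inv, hθYpow] at h1
      exact hQcen a (hYrad ⟨a.2, hfree k hk0 hkN _ a.2 h1⟩))
    hNK hη (W := W) ρg hρg
    (fun c hc => by
      obtain ⟨c, rfl⟩ := QuotientGroup.mk_surjective c
      exact ⟨ψ c, by rw [hρgmk]; exact hscal c (hcenQ c hc)⟩)
    SW hSWN (fun v hv => Subtype.ext (hWfix v v.2 (congrArg Subtype.val hv)))
    (fun a => by
      obtain ⟨a, rfl⟩ := QuotientGroup.mk_surjective a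
      show SW * ρg (QuotientGroup.mk a) = ρg (QuotientGroup.mk (θY a)) * SW
      rw [hρgmk, hρgmk, hcompW])
  refine ⟨h3, ?_, fun j hj0 hjN => ?_⟩
  · rw [← hcard]
    let f : Y →* (Y ⧸ ker) ⧸ center (Y ⧸ ker) :=
      (QuotientGroup.mk' (center (Y ⧸ ker))).comp (QuotientGroup.mk' ker)
    have hf : Function.Surjective f :=
      (QuotientGroup.mk'_surjective _).comp (QuotientGroup.mk'_surjective _)
    have hker : f.ker = Rd.subgroupOf Y := by
      ext x
      rw [MonoidHom.mem_ker, Subgroup.mem_subgroupOf]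
      refine ⟨fun h => hcenR x ((QuotientGroup.eq_one_iff _).mp h), fun h => ?_⟩
      exact (QuotientGroup.eq_one_iff _).mpr (hQcen x (hYrad ⟨x.2, h⟩))
    rw [← Nat.card_congr (QuotientGroup.quotientKerEquivOfSurjective f hf).toEquiv, hker]
  · obtain ⟨w, hw, hSw⟩ := hall j hj0 hjN
    exact ⟨w, w.2, fun h => hw (Subtype.ext h), congrArg Subtype.val hSw⟩

/-- The same in the characteristic of the part of the automorphism prime to `r`. -/
theorem exceptional_modular [IsAlgClosed K] [FiniteDimensional K V] {Q : Type u} [Group Q] [Finite Q]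
    (hcls : ∀ a b : Q, com a b ∈ center Q) {l : ℕ} [Fact l.Prime] [CharP K l] {r e : ℕ}
    [Fact r.Prime] (hlr : l ≠ r) (he : 1 ≤ e) (hrK : (r : K) ≠ 0) {N : ℕ} (hNe : N = r * l ^ e) (hN : 0 < N)
    (θ : MulAut Q) {ψ : Q → K} (hψ : IsCentralChar ψ)
    (hψθ : ∀ z ∈ center Q, ψ (θ z) = ψ z) (ρ : Q →* Module.End K V) (S : Module.End K V)
    (hcomp : ∀ a, S * ρ a = ρ (θ a) * S) (W : Submodule K V) (hW0 : W ≠ ⊥) (hWS : ∀ w ∈ W, S w ∈ W)
    (Y : Subgroup Q) (hWρ : ∀ a ∈ Y, ∀ w ∈ W, ρ a w ∈ W) (hWψ : ∀ z ∈ center Q, ∀ w ∈ W, ρ z w = ψ z • w)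
    (hWfix : ∀ w ∈ W, (S ^ l ^ e) w = w → (S ^ r) w = w) (hSN : ∀ w ∈ W, (S ^ N) w = w) (hθN : ∀ a ∈ Y, (θ ^ N) a = a)
    (hYθ : ∀ x ∈ Y, θ x ∈ Y)
    (hYrad : Y ⊓ rad hψ hcls ≤ center Q) (hYne : ¬ Y ≤ center Q)
    (hfree : ∀ k, 0 < k → k < N → ∀ a ∈ Y, a⁻¹ * (θ ^ k) a ∈ rad hψ hcls → a ∈ rad hψ hcls)
    (hgen : ∃ k, 0 < k ∧ k < N ∧ ∀ a, a⁻¹ * (θ ^ k) a ∈ Y ⊔ rad hψ hcls) :
    l ^ e = 2 ∧ Nat.card (Y ⧸ (rad hψ hcls).subgroupOf Y) = (2 * r - 1) ^ 2 := by
  classical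
  set Rd := rad hψ hcls with hRd
  haveI : Rd.Normal := rad_normal hψ hcls
  haveI : Nontrivial W := Submodule.nontrivial_iff_ne_bot.mpr hW0
  obtain ⟨w0, hw0⟩ := exists_ne (0 : W)
  let ρW : Y →* Module.End K W :=
    { toFun := fun a => (ρ a).restrict (hWρ a a.2)
      map_one' := LinearMap.ext fun v => Subtype.ext (by
        show ρ ((1 : Y) : Q) (v : V) = _
        rw [OneMemClass.coe_one, map_one]; rfl)
      map_mul' := fun a b => LinearMap.ext fun v => Subtype.ext (by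
        show ρ ((a * b : Y) : Q) (v : V) = _
        rw [Subgroup.coe_mul, map_mul]; rfl) }
  let SW : Module.End K W := S.restrict hWS
  have hscal : ∀ a : Y, (a : Q) ∈ center Q → ρW a = ψ a • (1 : Module.End K W) := fun a ha =>
    LinearMap.ext fun v => Subtype.ext (hWψ _ ha v v.2)
  let θY : MulAut Y := H28.subAut θ Y hYθ
  have hcompW : ∀ a, SW * ρW a = ρW (θY a) * SW := fun a => LinearMap.ext fun v => Subtype.ext
    (congrArg (fun f : Module.End K V => f (v : V)) (hcomp a))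
  have hSWpow : ∀ (i : ℕ) (v : W), ((SW ^ i) v : V) = (S ^ i) (v : V) := by
    intro i
    induction i with
    | zero => intro v; rfl
    | succ i ih =>
      intro v
      rw [pow_succ', pow_succ', Module.End.mul_apply, Module.End.mul_apply, ← ih]
      rfl
  have hSWN : SW ^ N = 1 := LinearMap.ext fun v => Subtype.ext (by rw [hSWpow, hSN _ v.2]; rfl)
  let ker := ρW.ker
  have hkerθ : ∀ x ∈ ker, θY x ∈ ker := by
    intro x hx
    rw [MonoidHom.mem_ker] at hx ⊢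
    have h := hcompW x
    rw [hx, mul_one] at h
    have hSinv : SW * SW ^ (N - 1) = 1 := by rw [← pow_succ', Nat.sub_add_cancel hN, hSWN]
    calc ρW (θY x) = ρW (θY x) * (SW * SW ^ (N - 1)) := by rw [hSinv, mul_one]
      _ = 1 := by rw [← mul_assoc, ← h, hSinv]
  let θg : MulAut (Y ⧸ ker) := H28.quotAut θY ker hkerθ
  let ρg : Y ⧸ ker →* Module.End K W := QuotientGroup.lift ker ρW le_rfl
  have hρgmk : ∀ a : Y, ρg (QuotientGroup.mk a) = ρW a := fun a => QuotientGroup.lift_mk' _ _ a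
  have hρg : Function.Injective ρg := by
    rw [← MonoidHom.ker_eq_bot_iff, eq_bot_iff]
    intro x hx
    obtain ⟨a, rfl⟩ := QuotientGroup.mk_surjective x
    rw [MonoidHom.mem_ker, hρgmk] at hx
    exact Subgroup.mem_bot.mpr ((QuotientGroup.eq_one_iff a).mpr hx)
  have hmk : ∀ a b : Y, (QuotientGroup.mk a : Y ⧸ ker) * QuotientGroup.mk b * (QuotientGroup.mk a)⁻¹ *
      (QuotientGroup.mk b)⁻¹ = QuotientGroup.mk (a * b * a⁻¹ * b⁻¹) := fun a b => rfl
  have hcenR : ∀ x : Y, (QuotientGroup.mk x : Y ⧸ ker) ∈ center (Y ⧸ ker) → (x : Q) ∈ Rd := by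
    intro x hx
    obtain ⟨k, hk0, hkN, hk⟩ := hgen
    have hone : ∀ y : Y, ψ (com (x : Q) (y : Q)) = 1 := by
      intro y
      have h1 := mem_center_iff.mp hx (QuotientGroup.mk y)
      have h2 : (QuotientGroup.mk (x * y * x⁻¹ * y⁻¹) : Y ⧸ ker) = 1 := by
        rw [← hmk, ← h1, mul_inv_cancel_right, mul_inv_cancel]
      have h3 : ρW (x * y * x⁻¹ * y⁻¹) = 1 := MonoidHom.mem_ker.mp ((QuotientGroup.eq_one_iff _).mp h2)
      have h4 := congrArg (fun f : Module.End K W => f w0) ((hscal (x * y * x⁻¹ * y⁻¹) (hcls _ _)).symm.trans h3)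
      exact smul_left_injective K hw0 (h4.trans (one_smul K w0).symm)
    refine hfree k hk0 hkN x x.2 (fixed_mod_rad hψ hcls (θ ^ k) (fun z hz => ?_) fun a => ?_)
    · clear hk0 hkN hk
      induction k with
      | zero => rfl
      | succ i ih =>
        rw [pow_succ', MulAut.mul_apply, hψθ, ih]
        exact (Subgroup.characteristic_iff_le_comap.mp inferInstance (θ ^ i) hz)
    · obtain ⟨y, hy, d, hd, hyd⟩ := Subgroup.mem_sup_of_normal_right.mp (hk a)
      rw [← hyd, com_mul_right hcls, hψ.mul _ (hcls _ _) _ (hcls _ _), hone ⟨y, hy⟩, one_mul]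
      rw [com_swap, hψ.inv (hcls _ _), hd, inv_one]
  have hcenQ : ∀ x : Y, (QuotientGroup.mk x : Y ⧸ ker) ∈ center (Y ⧸ ker) → (x : Q) ∈ center Q := fun x hx =>
    hYrad ⟨x.2, hcenR x hx⟩
  have hQcen : ∀ x : Y, (x : Q) ∈ center Q → (QuotientGroup.mk x : Y ⧸ ker) ∈ center (Y ⧸ ker) := by
    intro x hx
    rw [mem_center_iff]
    intro y
    obtain ⟨y, rfl⟩ := QuotientGroup.mk_surjective y
    exact congrArg QuotientGroup.mk (Subtype.ext (mem_center_iff.mp hx y))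
  have hθgpow : ∀ (i : ℕ) (x : Y), (θg ^ i) (QuotientGroup.mk x) = QuotientGroup.mk ((θY ^ i) x) :=
    fun i x => H28.quotAut_pow_mk _ _ _ i x
  have hθYpow : ∀ (i : ℕ) (x : Y), ((θY ^ i) x : Q) = (θ ^ i) (x : Q) := fun i x => H28.subAut_pow_coe _ _ _ i x
  subst hNe
  obtain ⟨h3, hcard⟩ := modular_core (Q := Y ⧸ ker)
    (fun a b => by
      obtain ⟨a, rfl⟩ := QuotientGroup.mk_surjective a
      obtain ⟨b, rfl⟩ := QuotientGroup.mk_surjective b
      rw [hmk]
      exact hQcen _ (hcls _ _))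
    (by
      obtain ⟨y, hy, hyc⟩ := SetLike.not_le_iff_exists.mp hYne
      exact ⟨QuotientGroup.mk ⟨y, hy⟩, fun h => hyc (hcenQ _ h)⟩)
    hlr he hrK θg
    (fun a => by
      obtain ⟨a, rfl⟩ := QuotientGroup.mk_surjective a
      rw [hθgpow]
      exact congrArg QuotientGroup.mk (Subtype.ext (by rw [hθYpow, hθN _ a.2])))
    (fun c hc => by
      obtain ⟨c, rfl⟩ := QuotientGroup.mk_surjective c
      apply hρg
      show ρg (QuotientGroup.mk (θY c)) = ρg (QuotientGroup.mk c)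
      have hcc := hcenQ c hc
      have hθc : ((θY c : Y) : Q) ∈ center Q :=
        Subgroup.characteristic_iff_le_comap.mp inferInstance θ hcc
      rw [hρgmk, hρgmk, hscal _ hcc, hscal _ hθc]
      exact congrArg (· • (1 : Module.End K W)) (hψθ _ hcc))
    (fun k hk0 hkN a ha => by
      obtain ⟨a, rfl⟩ := QuotientGroup.mk_surjective a
      rw [hθgpow] at ha
      have h1 := hcenR (a⁻¹ * (θY ^ k) a) ha
      rw [Subgroup.coe_mul, Subgroup.coe_inv, hθYpow] at h1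
      exact hQcen a (hYrad ⟨a.2, hfree k hk0 hkN _ a.2 h1⟩))
    (W := W) ρg hρg
    (fun c hc => by
      obtain ⟨c, rfl⟩ := QuotientGroup.mk_surjective c
      exact ⟨ψ c, by rw [hρgmk]; exact hscal c (hcenQ c hc)⟩)
    SW hSWN
    (fun a => by
      obtain ⟨a, rfl⟩ := QuotientGroup.mk_surjective a
      show SW * ρg (QuotientGroup.mk a) = ρg (QuotientGroup.mk (θY a)) * SW
      rw [hρgmk, hρgmk, hcompW])
    (fun v hv => Subtype.ext (by
      rw [hSWpow]
      refine hWfix v v.2 ?_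
      rw [← hSWpow]
      exact congrArg Subtype.val hv))
  refine ⟨h3, ?_⟩
  rw [← hcard]
  let f : Y →* (Y ⧸ ker) ⧸ center (Y ⧸ ker) :=
    (QuotientGroup.mk' (center (Y ⧸ ker))).comp (QuotientGroup.mk' ker)
  have hf : Function.Surjective f :=
    (QuotientGroup.mk'_surjective _).comp (QuotientGroup.mk'_surjective _)
  have hker : f.ker = Rd.subgroupOf Y := by
    ext x
    rw [MonoidHom.mem_ker, Subgroup.mem_subgroupOf]
    refine ⟨fun h => hcenR x ((QuotientGroup.eq_one_iff _).mp h), fun h => ?_⟩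
    exact (QuotientGroup.eq_one_iff _).mpr (hQcen x (hYrad ⟨x.2, h⟩))
  rw [← Nat.card_congr (QuotientGroup.quotientKerEquivOfSurjective f hf).toEquiv, hker]


end H1.Turull
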