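import Cfsg.Agent.H1.Turull.Forms

/-!
An odd order group of form preserving automorphisms generated by its `θ`-displacements is trivial if the
space moved by `θ` has dimension `2 m` with `θ` of prime order `2 ^ m + 1`.
-/

set_option autoImplicit false
set_option linter.style.haveILetI false

namespace H1.Turull

open Module Subgroup
open H1.Shult

universe u v w

/-- The displacement homomorphism of a commutative group. -/
def dispHom {E : Type u} [CommGroup E] (θ : MulAut E) : E →* E :=
  MonoidHom.mk' (fun x => x⁻¹ * θ x) fun x y => by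
    rw [map_mul, mul_inv, mul_mul_mul_comm]

theorem dispHom_range {E : Type u} [CommGroup E] (θ : MulAut E) : (dispHom θ).range = disp θ :=
  le_antisymm (by rintro _ ⟨x, rfl⟩; exact disp_mem θ x)
    ((closure_le _).mpr (by rintro _ ⟨x, rfl⟩; exact ⟨x, rfl⟩))

/-- The zero-one value of a sign. -/
noncomputable def bit {R : Type v} [Field R] (x : R) : ZMod 2 := by
  classical exact if x = 1 then 0 else 1

theorem bit_mul {R : Type v} [Field R] {x y : R} (hx : x * x = 1) (hy : y * y = 1) :
    bit (x * y) = bit x + bit y := by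
  classical
  rcases mul_self_eq_one_iff.mp hx with rfl | rfl <;> rcases mul_self_eq_one_iff.mp hy with rfl | rfl
  · simp [bit]
  · simp only [bit, one_mul]
    split_ifs <;> simp_all
  · simp only [bit, mul_one]
    split_ifs <;> simp_all
  · simp only [bit, neg_mul, one_mul, neg_neg]
    split_ifs <;> first | decide | simp_all

theorem bit_eq_zero {R : Type v} [Field R] {x : R} (h : bit x = 0) : x = 1 := by
  classical
  simp only [bit] at h
  split_ifs at h with h1
  · exact h1
  · exact absurd h one_ne_zero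

section

variable {E : Type u} [CommGroup E] [Finite E] {R : Type v} [Field R] {b : E → E → R}

/-- The functional of an element. -/
noncomputable def functional (h2 : ∀ e : E, e ^ 2 = 1) (hb : IsForm b) (y : E) : Additive E →+ ZMod 2 :=
  AddMonoidHom.mk' (fun x => bit (b x.toMul y)) fun x x' => by
    have hsq : ∀ x : E, b x y * b x y = 1 := fun x => by
      rw [← hb.mul_left, ← pow_two, h2, hb.one_left]
    rw [toMul_add, hb.mul_left, bit_mul (hsq _) (hsq _)]

theorem functional_injective (h2 : ∀ e : E, e ^ 2 = 1) (hb : IsForm b) :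
    Function.Injective (functional h2 hb) := by
  intro y y' h
  rw [← div_eq_one]
  refine hb.nondeg _ fun x => ?_
  have hsq : ∀ y : E, b x y * b x y = 1 := fun y => by
    rw [← hb.mul_right, ← pow_two, h2, hb.one_right]
  have h1 : bit (b x y) = bit (b x y') := congrArg (fun f : Additive E →+ ZMod 2 => f (Additive.ofMul x)) h
  have h3 := hb.mul_right x (y / y') y'
  rw [div_mul_cancel] at h3
  refine bit_eq_zero (?_ : bit _ = 0)
  rw [h3, bit_mul (hsq _) (hsq _)] at h1
  exact add_eq_right.mp h1

theorem functional_surjective (h2 : ∀ e : E, e ^ 2 = 1) (hb : IsForm b) :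
    Function.Surjective (functional h2 hb) := by
  letI : Module (ZMod 2) (Additive E) := AddCommGroup.zmodModule fun a => by
    apply Additive.toMul.injective
    rw [toMul_nsmul, h2, toMul_zero]
  haveI : Module.Finite (ZMod 2) (Additive E) := Module.Finite.of_finite
  haveI : Finite (Additive E →+ ZMod 2) := Finite.of_injective (fun f => (f : Additive E → ZMod 2)) DFunLike.coe_injective
  refine ((functional_injective h2 hb).bijective_of_nat_card_le ?_).2
  rw [Nat.card_congr (AddMonoidHom.toZModLinearMapEquiv 2 (M := Additive E) (M₁ := ZMod 2)).toEquiv,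
    Module.natCard_eq_pow_finrank (K := ZMod 2) (V := Additive E →ₗ[ZMod 2] ZMod 2),
    show finrank (ZMod 2) (Additive E →ₗ[ZMod 2] ZMod 2) = finrank (ZMod 2) (Additive E) from
      Subspace.dual_finrank_eq, ← Module.natCard_eq_pow_finrank]
  exact le_of_eq (Nat.card_congr Additive.toMul)

variable {K : Type w} [Field K] [CharP K 2]

/-- Functionals which vanish on all the images of elements are zero. -/
theorem functional_span (h2 : ∀ e : E, e ^ 2 = 1) (hb : IsForm b) {W : Type*} [AddCommGroup W] [Module K W]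
    (L : (Additive E →+ K) →ₗ[K] W)
    (hL : ∀ y, L ((ZMod.castHom dvd_rfl K).toAddMonoidHom.comp (functional h2 hb y)) = 0) : L = 0 := by
  classical
  letI : Module (ZMod 2) (Additive E) := AddCommGroup.zmodModule fun a => by
    apply Additive.toMul.injective
    rw [toMul_nsmul, h2, toMul_zero]
  letI : Algebra (ZMod 2) K := ZMod.algebra K 2
  haveI : Module.Finite (ZMod 2) (Additive E) := Module.Finite.of_finite
  let B := Module.finBasis (ZMod 2) (Additive E)
  refine LinearMap.ext fun f => ?_
  choose y hy using fun i => functional_surjective h2 hb (B.coord i).toAddMonoidHom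
  have hf : f = ∑ i, f (B i) • (ZMod.castHom dvd_rfl K).toAddMonoidHom.comp (functional h2 hb (y i)) := by
    refine (AddMonoidHom.toZModLinearMapEquiv 2).injective (B.ext fun j => ?_)
    show f (B j) = (∑ i, f (B i) • (ZMod.castHom dvd_rfl K).toAddMonoidHom.comp (functional h2 hb (y i))) (B j)
    rw [AddMonoidHom.finset_sum_apply, Finset.sum_eq_single j]
    · rw [AddMonoidHom.smul_apply, AddMonoidHom.comp_apply, hy]
      simp
    · intro i _ hij
      rw [AddMonoidHom.smul_apply, AddMonoidHom.comp_apply, hy]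
      simp [Finsupp.single_apply, Ne.symm hij]
    · intro h; exact absurd (Finset.mem_univ j) h
  rw [hf, map_sum]
  refine Finset.sum_eq_zero fun i _ => ?_
  rw [map_smul, hL, smul_zero]

end

/-- The displacement automorphism group moves too much. -/
theorem false_of_small_moved {E : Type u} [CommGroup E] [Finite E] (h2 : ∀ e : E, e ^ 2 = 1) {p : ℕ}
    [Fact p.Prime] (hp2 : p ≠ 2) {r : ℕ} (hr : r.Prime) (θ : MulAut E) (hθ : θ ^ r = 1) (A : Subgroup (MulAut E))
    (hA : IsPGroup p A) (hAθ : ∀ a ∈ A, θ * a * θ⁻¹ ∈ A) (hcomm : ∀ a ∈ A, ∀ a' ∈ A, a * a' = a' * a)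
    (hgen : ∀ a ∈ A, ∃ c ∈ A, a = c⁻¹ * (θ * c * θ⁻¹)) (hne : A ≠ ⊥)
    {R : Type v} [Field R] {b : E → E → R} (hb : IsForm b) (hbsym : ∀ x y, b x y = b y x)
    (hbA : ∀ a ∈ A, ∀ x y, b (a x) (a y) = b x y) {m : ℕ} (hm : r = 2 ^ m + 1)
    (hW : Nat.card (disp θ) ≤ 2 ^ (2 * m)) : False := by
  classical
  haveI : Fact (Nat.Prime 2) := ⟨Nat.prime_two⟩
  let K := AlgebraicClosure (ZMod 2)
  haveI : CharP K 2 := charP_of_injective_algebraMap (algebraMap (ZMod 2) K).injective 2
  have hpK : (p : K) ≠ 0 := fun h => by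
    rw [CharP.cast_eq_zero_iff K 2] at h
    exact hp2 ((Nat.prime_dvd_prime_iff_eq Nat.prime_two Fact.out).mp h).symm
  let D := Additive E →+ K
  let ev : D →ₗ[K] (Additive E → K) :=
    { toFun := fun f => f
      map_add' := fun _ _ => rfl
      map_smul' := fun _ _ => rfl }
  haveI : FiniteDimensional K D := FiniteDimensional.of_injective ev fun f g h => DFunLike.coe_injective h
  let mk : (f : MulAut E) → Module.End K D := fun f =>
    { toFun := fun φ => φ.comp (MonoidHom.toAdditive (f⁻¹ : MulAut E).toMonoidHom)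
      map_add' := fun _ _ => rfl
      map_smul' := fun _ _ => rfl }
  let π : MulAut E →* Module.End K D :=
    { toFun := mk
      map_one' := LinearMap.ext fun φ => AddMonoidHom.ext fun x => rfl
      map_mul' := fun f g => LinearMap.ext fun φ => AddMonoidHom.ext fun x => rfl }
  have hπ : ∀ (f : MulAut E) (φ : D) (x : E), π f φ (Additive.ofMul x) = φ (Additive.ofMul ((f⁻¹ : MulAut E) x)) :=
    fun _ _ _ => rfl
  let ι : E → D := fun y => (ZMod.castHom dvd_rfl K).toAddMonoidHom.comp (functional h2 hb y)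
  have hι : ∀ y x, ι y (Additive.ofMul x) = ZMod.castHom dvd_rfl K (bit (b x y)) := fun _ _ => rfl
  let θA : MulAut A := H28.subAut (MulAut.conj θ) A hAθ
  have hθAr : θA ^ r = 1 := MulEquiv.ext fun a => Subtype.ext
    ((H28.subAut_pow_coe _ _ _ _ _).trans (by rw [← map_pow, hθ, map_one]; rfl))
  let ρ : A →* Module.End K D := π.comp A.subtype
  set S := π θ with hS
  have hcomp : ∀ a, S * ρ a = ρ (θA a) * S := fun a => by
    show π θ * π (a : MulAut E) = π (θ * (a : MulAut E) * θ⁻¹) * π θ
    rw [← map_mul, ← map_mul, inv_mul_cancel_right]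
  have hSr : S ^ r = 1 := by rw [hS, ← map_pow, hθ, map_one]
  -- faithful
  obtain ⟨a0, ha0⟩ : ∃ a : A, ρ a ≠ 1 := by
    obtain ⟨⟨a, ha⟩, hane⟩ := (Subgroup.ne_bot_iff_exists_ne_one (H := A)).mp hne
    refine ⟨⟨a, ha⟩, fun h => hane (Subtype.ext (MulEquiv.ext fun x => ?_))⟩
    obtain ⟨z, rfl⟩ : ∃ z, z = (a⁻¹ : MulAut E) (a x) := ⟨_, rfl⟩
    show a x = x
    rw [← div_eq_one]
    refine hb.nondeg _ fun y => ?_
    rw [hbsym]
    refine bit_eq_zero ((ZMod.castHom dvd_rfl K).injective ?_)
    rw [map_zero, ← hι]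
    have h1 := congrArg (fun F : Module.End K D => F (ι y) (Additive.ofMul (a x))) h
    simp only [Module.End.one_apply] at h1
    rw [show ρ ⟨a, ha⟩ = π a from rfl, hπ, MulAut.inv_apply_self] at h1
    rw [ofMul_div, map_sub, ← h1, sub_self]
  obtain ⟨v, hv0, χ, hχ, hχa⟩ := exists_eigen_ne hA hpK ρ
    (fun a a' => by rw [← map_mul, ← map_mul, show a * a' = a' * a from Subtype.ext (hcomm _ a.2 _ a'.2)])
    a0 ha0
  obtain ⟨hχ1, hχm⟩ := eigen_mul ρ hv0 hχ
  have hχinv : ∀ a, χ a⁻¹ * χ a = 1 := fun a => by rw [← hχm, inv_mul_cancel, hχ1]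
  haveI : Fintype A := Fintype.ofFinite A
  -- an eigenvector for the inverse character
  let P : Module.End K D := ∑ a, χ a • ρ a
  let P' : Module.End K D := ∑ a, χ a⁻¹ • ρ a
  have hP : P ≠ 0 := by
    intro hP0
    have hP'v : P' v = (Fintype.card A : K) • v := by
      rw [LinearMap.sum_apply, Finset.sum_congr rfl (g := fun _ => v) fun a _ => by
        rw [LinearMap.smul_apply, hχ, smul_smul, hχinv, one_smul], Finset.sum_const, Finset.card_univ,
        Nat.cast_smul_eq_nsmul]
    have hcard : (Fintype.card A : K) ≠ 0 := by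
      obtain ⟨j, hj⟩ := IsPGroup.iff_card.mp hA
      rw [← Nat.card_eq_fintype_card, hj, Nat.cast_pow]
      exact pow_ne_zero _ hpK
    have hP' : P' = 0 := by
      refine functional_span h2 hb P' fun x => ?_
      show P' (ι x) = 0
      refine AddMonoidHom.ext fun y => ?_
      have h1 := congrArg (fun F : Module.End K D => F (ι y.toMul) (Additive.ofMul x)) hP0
      simp only [P, P', LinearMap.sum_apply, LinearMap.smul_apply, AddMonoidHom.finset_sum_apply,
        AddMonoidHom.smul_apply, LinearMap.zero_apply, AddMonoidHom.zero_apply] at h1 ⊢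
      rw [← Equiv.sum_comp (Equiv.inv A), AddMonoidHom.finset_sum_apply]
      rw [AddMonoidHom.finset_sum_apply] at h1
      refine Eq.trans (Finset.sum_congr rfl fun a _ => ?_) h1
      rw [Equiv.inv_apply, inv_inv, AddMonoidHom.smul_apply, AddMonoidHom.smul_apply]
      congr 1
      show π ((a⁻¹ : A) : MulAut E) (ι x) (Additive.ofMul y.toMul) = π (a : MulAut E) (ι y.toMul) (Additive.ofMul x)
      rw [hπ, hπ, hι, hι, hbsym]
      congr 2
      rw [Subgroup.coe_inv, inv_inv, ← hbA _ a.2 ((a : MulAut E)⁻¹ x) y.toMul, MulAut.apply_inv_self]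
    rw [hP', LinearMap.zero_apply] at hP'v
    exact smul_ne_zero hcard hv0 hP'v.symm
  obtain ⟨u, hu⟩ : ∃ u, P u ≠ 0 := by
    by_contra h
    push Not at h
    exact hP (LinearMap.ext h)
  set w := P u with hwdef
  let χ' : A → K := fun a => χ a⁻¹
  have hw : ∀ c, ρ c w = χ' c • w := by
    intro c
    rw [hwdef, LinearMap.sum_apply, map_sum, Finset.smul_sum]
    refine Fintype.sum_equiv (Equiv.mulLeft c) _ _ fun a => ?_
    rw [Equiv.coe_mulLeft, LinearMap.smul_apply, LinearMap.smul_apply, map_smul, smul_smul,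
      ← Module.End.mul_apply, ← map_mul, hχm, ← mul_assoc, hχinv, one_mul]
  -- orbits
  have hfixchar : ∀ f : A → K, f 1 = 1 → (∀ a a', f (a * a') = f a * f a') → (∀ a, f (θA a) = f a) →
      ∀ a, f a = 1 := by
    intro f hf1 hfm hfθ a
    obtain ⟨c, hc, hac⟩ := hgen _ a.2
    rw [show a = (⟨c, hc⟩ : A)⁻¹ * θA ⟨c, hc⟩ from Subtype.ext hac, hfm, hfθ, ← hfm, inv_mul_cancel, hf1]
  have hχne : χ ≠ χ' := fun h => hχa (by
    have hsq : χ a0 * χ a0 = 1 := by
      conv_lhs => arg 1; rw [h]
      exact hχinv a0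
    obtain ⟨e, he⟩ := hA a0
    have hodd : Odd (p ^ e) := (Fact.out : p.Prime).eq_two_or_odd'.resolve_left hp2 |>.pow
    obtain ⟨c, hc⟩ := hodd
    have hpow : ∀ n, χ (a0 ^ n) = χ a0 ^ n := by
      intro n
      induction n with
      | zero => rw [pow_zero, pow_zero, hχ1]
      | succ n ih => rw [pow_succ, pow_succ, hχm, ih]
    have := hpow (p ^ e)
    rw [he, hχ1, hc, pow_succ, pow_mul, pow_two, hsq, one_pow, one_mul] at this
    exact this.symm)
  let x : Fin 2 → D := ![v, w]
  let χs : Fin 2 → A → K := ![χ, χ']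
  have hx : ∀ i, ∀ a, ρ a (x i) = χs i a • x i := by
    intro i; fin_cases i
    · exact hχ
    · exact hw
  have hx0 : ∀ i, x i ≠ 0 := by
    intro i; fin_cases i
    · exact hv0
    · exact hu
  let tw : Fin 2 → ℕ → A → K := fun i k a => χs i (((θA ^ k)⁻¹ : MulAut A) a)
  have htw : ∀ i k a, ρ a ((S ^ k) (x i)) = tw i k a • (S ^ k) (x i) := by
    intro i k a
    conv_lhs => rw [show a = (θA ^ k) (((θA ^ k)⁻¹ : MulAut A) a) from (MulAut.apply_inv_self _ _ _).symm]
    rw [← Module.End.mul_apply, ← pow_compat ρ θA S hcomp, Module.End.mul_apply, hx, map_smul]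
  have hinj : ∀ i j : Fin 2, ∀ k l, k < r → l < r → tw i k = tw j l → i = j ∧ k = l := by
    have key : ∀ i j : Fin 2, ∀ d, (∀ a, χs i ((θA ^ d) a) = χs j a) → r ∣ d ∧ i = j := by
      intro i j d h
      have h2d : ∀ a, χs i ((θA ^ (2 * d)) a) = χs i a := by
        intro a
        have hij : (∀ a, χs j a = χs i a) ∨ ∀ a, χs j a = χs i a⁻¹ := by
          fin_cases i <;> fin_cases j
          · exact Or.inl fun _ => rfl
          · exact Or.inr fun _ => rfl
          · exact Or.inr fun a => show χ a = χ a⁻¹⁻¹ by rw [inv_inv]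
          · exact Or.inl fun _ => rfl
        rw [two_mul, pow_add, MulAut.mul_apply]
        rcases hij with hij | hij
        · rw [h, hij, h, hij]
        · rw [h, hij, ← map_inv, h, hij, inv_inv]
      have hi0 : χs i a0 ≠ 1 := by
        fin_cases i
        · exact hχa
        · intro h1
          have := hχinv a0
          rw [show χ a0⁻¹ = 1 from h1, one_mul] at this
          exact hχa this
      have hr2d : r ∣ 2 * d := by
        by_contra hnd
        obtain ⟨t, -, ht⟩ := Nat.exists_mul_mod_eq_one_of_coprime (hr.coprime_iff_not_dvd.mpr hnd).symm hr.one_lt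
        have hper : ∀ s, ∀ a, χs i ((θA ^ (2 * d * s)) a) = χs i a := by
          intro s
          induction s with
          | zero => intro a; rfl
          | succ s ih => intro a; rw [Nat.mul_succ, pow_add, MulAut.mul_apply, ih, h2d]
        refine hi0 (hfixchar (χs i) ?_ ?_ (fun a => ?_) a0)
        · fin_cases i
          · exact hχ1
          · show χ 1⁻¹ = 1; rw [inv_one, hχ1]
        · intro a a'
          fin_cases i
          · exact hχm a a'
          · show χ (a * a')⁻¹ = χ a⁻¹ * χ a'⁻¹
            rw [mul_inv_rev, hχm, mul_comm]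
        · have := hper t a
          rwa [← Nat.mod_add_div (2 * d * t) r, ht, pow_add, pow_mul, hθAr, one_pow, mul_one, pow_one] at this
      have hrne2 : r ≠ 2 := by
        intro h2'
        rw [h2'] at hm
        have hm0 : m = 0 := by
          rcases Nat.eq_zero_or_pos m with h0 | h0
          · exact h0
          · have : 2 ≤ 2 ^ m := Nat.le_self_pow (by omega) 2
            omega
        rw [hm0, mul_zero, pow_zero] at hW
        have hd : disp θ = ⊥ := Subgroup.card_eq_one.mp (le_antisymm hW Nat.card_pos)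
        have hθ1 : θ = 1 := MulEquiv.ext fun e => by
          have := (Subgroup.eq_bot_iff_forall _).mp hd _ (disp_mem θ e)
          rw [inv_mul_eq_one] at this
          exact this.symm
        obtain ⟨⟨a, ha⟩, hane⟩ := (Subgroup.ne_bot_iff_exists_ne_one (H := A)).mp hne
        obtain ⟨c, _, hac⟩ := hgen a ha
        refine hane (Subtype.ext (show a = 1 from ?_))
        rw [hac, hθ1]; simp
      have hrd : r ∣ d := ((Nat.Prime.dvd_mul hr).mp hr2d).resolve_left fun h =>
        hrne2 ((Nat.prime_dvd_prime_iff_eq hr Nat.prime_two).mp h)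
      refine ⟨hrd, ?_⟩
      obtain ⟨c, rfl⟩ := hrd
      rw [pow_mul, hθAr, one_pow] at h
      fin_cases i <;> fin_cases j <;> first | rfl | skip
      · exact absurd (funext fun a => h a) hχne
      · exact absurd (funext fun a => (h a).symm) hχne
    intro i j k l hk hl h
    rcases le_total k l with hkl | hkl
    · obtain ⟨hd, hij⟩ := key i j (l - k) fun a => by
        have := congrFun h ((θA ^ l) a)
        simp only [tw, MulAut.inv_apply_self] at this
        rw [← this, show (θA ^ l) a = (θA ^ k) ((θA ^ (l - k)) a) by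
          rw [← MulAut.mul_apply, ← pow_add, Nat.add_sub_cancel' hkl], MulAut.inv_apply_self]
      exact ⟨hij, by have := Nat.eq_zero_of_dvd_of_lt hd (by omega); omega⟩
    · obtain ⟨hd, hij⟩ := key j i (k - l) fun a => by
        have := congrFun h.symm ((θA ^ k) a)
        simp only [tw, MulAut.inv_apply_self] at this
        rw [← this, show (θA ^ k) a = (θA ^ l) ((θA ^ (k - l)) a) by
          rw [← MulAut.mul_apply, ← pow_add, Nat.add_sub_cancel' hkl], MulAut.inv_apply_self]
      exact ⟨hij.symm, by have := Nat.eq_zero_of_dvd_of_lt hd (by omega); omega⟩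
  -- a lower bound for the moved space
  let Φ : (Fin 2 → Fin (r - 1) → K) →ₗ[K] LinearMap.range (S - 1) :=
    { toFun := fun c => ⟨∑ i, ∑ k : Fin (r - 1), c i k • (S - 1) ((S ^ (k : ℕ)) (x i)),
        Submodule.sum_mem _ fun i _ => Submodule.sum_mem _ fun k _ =>
          Submodule.smul_mem _ _ (LinearMap.mem_range_self _ _)⟩
      map_add' := fun c c' => Subtype.ext (by
        simp only [Pi.add_apply, add_smul, Finset.sum_add_distrib]; rfl)
      map_smul' := fun e c => Subtype.ext (by
        simp only [Pi.smul_apply, smul_assoc, ← Finset.smul_sum]; rfl) }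
  have hΦ : Function.Injective Φ := by
    refine (injective_iff_map_eq_zero Φ).mpr fun c hc => ?_
    let ce : Fin 2 → ℕ → K := fun i k => if hk : k < r - 1 then c i ⟨k, hk⟩ else 0
    let d : Fin 2 → ℕ → K := fun i k => (if k = 0 then 0 else ce i (k - 1)) - ce i k
    have hsum : ∑ p' ∈ (Finset.univ : Finset (Fin 2)) ×ˢ Finset.range r, d p'.1 p'.2 • (S ^ p'.2) (x p'.1) = 0 := by
      rw [Finset.sum_product]
      refine Eq.trans (Finset.sum_congr rfl fun i _ => ?_) (congrArg Subtype.val hc)
      show ∑ k ∈ Finset.range r, d i k • (S ^ k) (x i) = ∑ k : Fin (r - 1), c i k • (S - 1) ((S ^ (k : ℕ)) (x i))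
      have key : ∀ (n : ℕ) (cc : ℕ → K) (X : ℕ → D), cc n = 0 →
          ∑ k ∈ Finset.range (n + 1), ((if k = 0 then 0 else cc (k - 1)) - cc k) • X k =
            ∑ k ∈ Finset.range n, cc k • (X (k + 1) - X k) := by
        intro n cc X hcc
        simp only [sub_smul, smul_sub, Finset.sum_sub_distrib]
        congr 1
        · rw [Finset.sum_range_succ']
          simp
        · rw [Finset.sum_range_succ, hcc, zero_smul, add_zero]
      have h1 := key (r - 1) (ce i) (fun k => (S ^ k) (x i)) (dif_neg (lt_irrefl _))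
      rw [Nat.sub_add_cancel hr.one_le] at h1
      refine h1.trans ?_
      rw [← Fin.sum_univ_eq_sum_range]
      refine Finset.sum_congr rfl fun k _ => ?_
      rw [show ce i k = c i k from dif_pos k.2, LinearMap.sub_apply, Module.End.one_apply,
        ← Module.End.mul_apply S (S ^ (k : ℕ)), ← pow_succ']
    have hzero := eigen_sum_eq_zero ρ _ (fun p' : Fin 2 × ℕ => d p'.1 p'.2 • (S ^ p'.2) (x p'.1))
      (fun p' => tw p'.1 p'.2)
      (fun p' hp' q hq h => by
        obtain ⟨h1, h2'⟩ := hinj _ _ _ _ (Finset.mem_range.mp (Finset.mem_product.mp hp').2)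
          (Finset.mem_range.mp (Finset.mem_product.mp hq).2) h
        exact Prod.ext h1 h2')
      (fun p' _ a => by rw [map_smul, htw, smul_comm]) hsum
    have hd : ∀ i k, k < r → d i k = 0 := fun i k hk => by
      have h := hzero (i, k) (Finset.mem_product.mpr ⟨Finset.mem_univ _, Finset.mem_range.mpr hk⟩)
      refine (smul_eq_zero.mp h).resolve_right fun h0 => hx0 i ?_
      have := congrArg (fun y => (S ^ (r - k)) y) h0
      simpa [← Module.End.mul_apply, ← pow_add, Nat.sub_add_cancel hk.le, hSr] using this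
    have hce : ∀ i k, k < r → ce i k = 0 := by
      intro i k
      induction k with
      | zero => intro hk; simpa [d] using hd i 0 hk
      | succ k ih =>
        intro hk
        have := hd i (k + 1) hk
        simp only [d, Nat.succ_ne_zero, if_false, Nat.add_sub_cancel, ih (by omega), zero_sub, neg_eq_zero] at this
        exact this
    funext i k
    have := hce i k (by omega)
    rwa [show ce i k = c i k from dif_pos k.2] at this
  have hlow := LinearMap.finrank_le_finrank_of_injective hΦ
  rw [Module.finrank_pi_fintype, Finset.sum_congr rfl fun _ _ => Module.finrank_fin_fun K, Finset.sum_const,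
    Finset.card_univ, Fintype.card_fin, smul_eq_mul] at hlow
  -- an upper bound
  let W := disp θ
  let D' := Additive W →+ K
  letI : Module (ZMod 2) (Additive W) := AddCommGroup.zmodModule fun a => by
    apply Additive.toMul.injective
    rw [toMul_nsmul, toMul_zero]
    exact Subtype.ext (h2 _)
  haveI : Module.Finite (ZMod 2) (Additive W) := Module.Finite.of_finite
  let B := Module.finBasis (ZMod 2) (Additive W)
  let evW : D' →ₗ[K] (Fin (finrank (ZMod 2) (Additive W)) → K) :=
    { toFun := fun f i => f (B i)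
      map_add' := fun _ _ => rfl
      map_smul' := fun _ _ => rfl }
  letI : Algebra (ZMod 2) K := ZMod.algebra K 2
  have hevW : Function.Injective evW := fun f g h =>
    (AddMonoidHom.toZModLinearMapEquiv 2).injective (B.ext fun i => congrFun h i)
  haveI : FiniteDimensional K D' := FiniteDimensional.of_injective evW hevW
  let δ : E →* W := (dispHom (θ⁻¹ : MulAut E)).codRestrict W fun e => by
    have h := inv_mem (disp_mem θ ((θ⁻¹ : MulAut E) e))
    rw [MulAut.apply_inv_self, mul_inv_rev, inv_inv] at h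
    exact h
  let res : D →ₗ[K] D' :=
    { toFun := fun f => f.comp (MonoidHom.toAdditive W.subtype)
      map_add' := fun _ _ => rfl
      map_smul' := fun _ _ => rfl }
  let Δ : D' →ₗ[K] D :=
    { toFun := fun g => g.comp (MonoidHom.toAdditive δ)
      map_add' := fun _ _ => rfl
      map_smul' := fun _ _ => rfl }
  have hfac : S - 1 = Δ ∘ₗ res := by
    refine LinearMap.ext fun f => AddMonoidHom.ext fun e => ?_
    show f (Additive.ofMul ((θ⁻¹ : MulAut E) e.toMul)) - f e =
      f (Additive.ofMul (e.toMul⁻¹ * (θ⁻¹ : MulAut E) e.toMul))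
    rw [ofMul_mul, map_add, ofMul_inv, map_neg]
    exact sub_eq_neg_add _ _
  have hup : finrank K (LinearMap.range (S - 1)) ≤ finrank K D' := by
    rw [hfac]
    exact le_trans (Submodule.finrank_mono (LinearMap.range_comp_le_range res Δ)) (LinearMap.finrank_range_le Δ)
  have hD' : finrank K D' ≤ 2 * m := by
    refine (LinearMap.finrank_le_finrank_of_injective hevW).trans ?_
    rw [Module.finrank_fin_fun]
    have h1 := Module.natCard_eq_pow_finrank (K := ZMod 2) (V := Additive W)
    rw [Nat.card_zmod, Nat.card_congr Additive.toMul] at h1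
    rw [h1] at hW
    exact (Nat.pow_le_pow_iff_right (le_refl 2)).mp hW
  have hm2 : m < 2 ^ m := Nat.lt_two_pow_self
  omega

/-- An odd group of automorphisms generated by displacements does not preserve the form. -/
theorem no_exceptional {E : Type u} [CommGroup E] [Finite E] (h2 : ∀ e : E, e ^ 2 = 1) {p : ℕ} [Fact p.Prime]
    (hp2 : p ≠ 2) {r : ℕ} [Fact r.Prime] (hr2 : r ≠ 2) (hpr : p ≠ r) (θ : MulAut E) (hθ : θ ^ r = 1)
    (T : Subgroup (MulAut E)) (hT : IsPGroup p T) (hTθ : ∀ t ∈ T, θ * t * θ⁻¹ ∈ T)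
    (hgen : T ≤ closure {u | ∃ t ∈ T, u = t⁻¹ * (θ * t * θ⁻¹)}) (hne : T ≠ ⊥)
    {R : Type v} [Field R] {b : E → E → R} (hb : IsForm b) (hbsym : ∀ x y, b x y = b y x)
    (hbθ : ∀ x y, b (θ x) (θ y) = b x y) (hbT : ∀ t ∈ T, ∀ x y, b (t x) (t y) = b x y) {m : ℕ}
    (hm : r = 2 ^ m + 1) (hW : Nat.card (disp θ) = 2 ^ (2 * m)) : False := by
  classical
  have hr : r.Prime := Fact.out
  haveI : Fact (Nat.Prime 2) := ⟨Nat.prime_two⟩
  haveI : Finite (MulAut E) := Finite.of_injective (fun f : MulAut E => (f : E → E)) DFunLike.coe_injective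
  by_cases hcen : ∀ z ∈ T, (∀ t ∈ T, z * t = t * z) → θ * z * θ⁻¹ = z
  · haveI : Nontrivial T := (Subgroup.nontrivial_iff_ne_bot T).mpr hne
    haveI := hT.center_nontrivial
    obtain ⟨⟨⟨z, hzT⟩, hz⟩, hzne⟩ := exists_ne (1 : center T)
    have hzt : ∀ t ∈ T, z * t = t * z := fun t ht => by
      exact (congrArg Subtype.val (mem_center_iff.mp hz ⟨t, ht⟩)).symm
    have hzθ := hcen z hzT hzt
    have hcommθ : θ * z = z * θ := mul_inv_eq_iff_eq_mul.mp hzθ
    obtain ⟨e, he⟩ := hT ⟨z, hzT⟩
    have hze : z ^ p ^ e = 1 := congrArg Subtype.val he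
    -- `z` is trivial on the displacements
    have hzmem : ∀ x ∈ disp θ, z x ∈ disp θ := by
      intro x hx
      rw [← dispHom_range] at hx ⊢
      obtain ⟨a, rfl⟩ := hx
      refine ⟨z a, ?_⟩
      show (z a)⁻¹ * θ (z a) = z (a⁻¹ * θ a)
      rw [map_mul, map_inv, ← MulAut.mul_apply, hcommθ, MulAut.mul_apply]
    have hzW : ∀ x ∈ disp θ, z x = x := by
      intro x hx
      by_cases hW1 : Nat.card (disp θ) = 1
      · rw [(Subgroup.eq_bot_iff_forall _).mp (Subgroup.card_eq_one.mp hW1) x hx, map_one]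
      haveI : Nontrivial (disp θ) := (Subgroup.nontrivial_iff_ne_bot _).mpr fun h => hW1 (Subgroup.card_eq_one.mpr h)
      let θW : MulAut (disp θ) := H28.subAut θ _ fun x hx => disp_apply_mem θ hx
      let zW : MulAut (disp θ) := H28.subAut z _ hzmem
      have hθW : θW ^ r = 1 := MulEquiv.ext fun y => Subtype.ext (by rw [H28.subAut_pow_coe, hθ]; rfl)
      have hfpf : ∀ y, θW y = y → y = 1 := fun y hy => Subtype.ext
        (fixed_disp_eq_one h2 ((Nat.coprime_primes Nat.prime_two hr).mpr (Ne.symm hr2)) θ hθ y.2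
          (congrArg Subtype.val hy))
      let bW : disp θ → disp θ → R := fun y y' => b y y'
      have hbW : IsForm bW :=
        ⟨fun _ _ _ => hb.mul_left _ _ _, fun _ _ _ => hb.mul_right _ _ _, fun _ => hb.one_left _,
          fun _ => hb.one_right _, fun y hy => Subtype.ext
            (nondeg_disp h2 ((Nat.coprime_primes Nat.prime_two hr).mpr (Ne.symm hr2)) θ hθ hb hbθ y.2
              fun y' hy' => hy ⟨y', hy'⟩)⟩
      have h := pow_eq_one_of_form (E := disp θ) (p := 2) (fun y => Subtype.ext (h2 _)) θW zW hθW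
        (k := m) (hm ▸ dvd_rfl) hbW (fun y y' => hbθ _ _) (fun y y' => hbT z hzT _ _)
        (fun U hU => irreducible_of_card θW hθW hfpf hr2 (Or.inl hm.symm) hW U hU)
        (MulEquiv.ext fun y => Subtype.ext (congrArg (fun f : MulAut E => f (y : E)) hcommθ))
      rw [← hm] at h
      have h' : zW ^ p ^ e = 1 := MulEquiv.ext fun y => Subtype.ext (by rw [H28.subAut_pow_coe, hze]; rfl)
      have h1 := pow_gcd_eq_one.mpr ⟨h, h'⟩
      rw [(((Nat.coprime_primes hr Fact.out).mpr (Ne.symm hpr)).pow_right e), pow_one] at h1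
      exact congrArg (fun f : MulAut (disp θ) => ((f ⟨x, hx⟩ : disp θ) : E)) h1
    -- the displacements of `z` are fixed by `θ` and so by `T`
    have hUθ : ∀ a, θ (a⁻¹ * z a) = a⁻¹ * z a := by
      intro a
      rw [map_mul, map_inv, ← MulAut.mul_apply, hcommθ, MulAut.mul_apply,
        show θ a = a * (a⁻¹ * θ a) by group, map_mul, hzW _ (disp_mem θ a)]
      rw [mul_inv_rev]
      simp [mul_comm, mul_assoc, mul_left_comm]
    have hUT : ∀ a, z (a⁻¹ * z a) = a⁻¹ * z a := by
      intro a
      have hle : T ≤ MulAction.stabilizer (MulAut E) (a⁻¹ * z a) := by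
        refine hgen.trans ((closure_le _).mpr ?_)
        rintro _ ⟨t, ht, rfl⟩
        show (t⁻¹ * (θ * t * θ⁻¹)) (a⁻¹ * z a) = a⁻¹ * z a
        have hta : t (a⁻¹ * z a) = (t a)⁻¹ * z (t a) := by
          rw [map_mul, map_inv, ← MulAut.mul_apply, ← hzt t ht, MulAut.mul_apply]
        have hθinv : (θ⁻¹ : MulAut E) (a⁻¹ * z a) = a⁻¹ * z a := by
          conv_lhs => rw [← hUθ a]
          rw [MulAut.inv_apply_self]
        rw [MulAut.mul_apply, MulAut.mul_apply, MulAut.mul_apply, hθinv, hta, hUθ, ← hta, MulAut.inv_apply_self]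
      exact hle hzT
    have hz1 : z = 1 := MulEquiv.ext fun a => by
      refine H1.Gross.eq_of_disp_fixed z hze ?_ a (hUT a)
      refine Nat.Coprime.pow_left _ ?_
      refine (Fact.out : p.Prime).coprime_iff_not_dvd.mpr fun hd => ?_
      obtain ⟨y, hy⟩ := exists_prime_orderOf_dvd_card' p hd
      have := hy ▸ orderOf_dvd_of_pow_eq_one (h2 y)
      exact hp2 ((Nat.prime_dvd_prime_iff_eq Fact.out Nat.prime_two).mp this)
    exact hzne (Subtype.ext (Subtype.ext hz1))
  · push Not at hcen
    obtain ⟨z0, hz0T, hz0t, hz0⟩ := hcen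
    let Z : Subgroup (MulAut E) := T ⊓ Subgroup.centralizer (T : Set (MulAut E))
    have hZcomm : ∀ a ∈ Z, ∀ a' ∈ Z, a * a' = a' * a := fun a ha a' ha' =>
      (Subgroup.mem_centralizer_iff.mp ha.2 a' ha'.1).symm
    have hZθ : ∀ a ∈ Z, θ * a * θ⁻¹ ∈ Z := by
      intro a ha
      refine ⟨hTθ a ha.1, Subgroup.mem_centralizer_iff.mpr fun t ht => ?_⟩
      have hpre : ∀ t ∈ T, θ⁻¹ * t * θ ∈ T := by
        intro t ht
        have : ∀ n : ℕ, θ ^ n * t * (θ ^ n)⁻¹ ∈ T := by
          intro n
          induction n with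
          | zero => simpa using ht
          | succ n ih =>
            have := hTθ _ ih
            rwa [pow_succ', mul_inv_rev, ← mul_assoc, ← mul_assoc] at *
        have h := this (r - 1)
        have hinv : θ ^ (r - 1) = θ⁻¹ := by
          refine eq_inv_of_mul_eq_one_left ?_
          rw [← pow_succ, Nat.sub_add_cancel hr.one_le, hθ]
        rwa [hinv, inv_inv] at h
      have h1 := Subgroup.mem_centralizer_iff.mp ha.2 _ (hpre t ht)
      calc t * (θ * a * θ⁻¹) = θ * ((θ⁻¹ * t * θ) * a) * θ⁻¹ := by group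
        _ = θ * (a * (θ⁻¹ * t * θ)) * θ⁻¹ := by rw [h1]
        _ = θ * a * θ⁻¹ * t := by group
    letI : CommGroup Z := { (inferInstance : Group Z) with
      mul_comm := fun a a' => Subtype.ext (hZcomm _ a.2 _ a'.2) }
    let θZ : MulAut Z := H28.subAut (MulAut.conj θ) Z hZθ
    have hθZr : θZ ^ r = 1 := MulEquiv.ext fun a => Subtype.ext
      ((H28.subAut_pow_coe _ _ _ _ _).trans (by rw [← map_pow, hθ, map_one]; rfl))
    let f := dispHom θZ
    let A : Subgroup (MulAut E) := f.range.map Z.subtype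
    have hinjf : Function.Injective (f.comp f.range.subtype) := by
      rw [injective_iff_map_eq_one]
      rintro ⟨y, hy⟩ h
      apply Subtype.ext
      have hyfix : θZ y = y := (inv_mul_eq_one.mp h).symm
      obtain ⟨j, hj⟩ := IsPGroup.iff_card.mp (hT.to_le (inf_le_left : Z ≤ T))
      have hexp : ∀ a : Z, a ^ (p ^ j) = 1 := fun a => hj ▸ pow_card_eq_one'
      rw [dispHom_range] at hy
      exact fixed_disp_eq_one hexp (((Nat.coprime_primes Fact.out hr).mpr hpr).pow_left j) θZ hθZr hy hyfix
    refine false_of_small_moved h2 hp2 hr θ hθ A (hT.to_le ?_) ?_ ?_ ?_ ?_ hb hbsym ?_ hm hW.le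
    · rintro _ ⟨a, -, rfl⟩; exact a.2.1
    · rintro _ ⟨_, ⟨c, rfl⟩, rfl⟩
      refine ⟨θZ (f c), ⟨θZ c, ?_⟩, rfl⟩
      show (θZ c)⁻¹ * θZ (θZ c) = θZ (c⁻¹ * θZ c)
      rw [map_mul, map_inv]
    · rintro _ ⟨a, -, rfl⟩ _ ⟨a', -, rfl⟩
      exact hZcomm _ a.2 _ a'.2
    · rintro _ ⟨a, ha, rfl⟩
      have hi : Function.Injective fun y : f.range => (⟨f y, y, rfl⟩ : f.range) :=
        fun y y' h => hinjf (congrArg (fun z : f.range => (z : Z)) h)
      obtain ⟨⟨c, hc⟩, hce⟩ := Finite.injective_iff_surjective.mp hi ⟨a, ha⟩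
      refine ⟨c, ⟨c, hc, rfl⟩, ?_⟩
      rw [← show f c = a from congrArg Subtype.val hce]
      rfl
    · intro hA
      have hz0Z : z0 ∈ Z := ⟨hz0T, Subgroup.mem_centralizer_iff.mpr fun t ht => (hz0t t ht).symm⟩
      have h := (Subgroup.eq_bot_iff_forall _).mp hA ((f ⟨z0, hz0Z⟩ : Z) : MulAut E) ⟨_, ⟨_, rfl⟩, rfl⟩
      change z0⁻¹ * (θ * z0 * θ⁻¹) = 1 at h
      exact hz0 (inv_mul_eq_one.mp h).symm
    · rintro _ ⟨a, -, rfl⟩ x y
      exact hbT _ a.2.1 x y

end H1.Turull
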