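import Cfsg.Agent.H1.Turull.Tower

/-!
Minimal towers.
-/

set_option autoImplicit false
set_option linter.style.haveILetI false
set_option linter.unusedSectionVars false

namespace H1.Turull

open Subgroup

universe u

variable {G : Type u} [Group G]

/-- Coprimely, a commutator commuting modulo `J` lies in `J`. -/
theorem com_mem_of_com_com {J : Subgroup G} {x y : G} {k q e : ℕ} (hk : x ^ k = 1) (hco : k.Coprime q)
    (hc : com x y ^ q ^ e = 1) (hxJ : ∀ u ∈ J, x * u * x⁻¹ ∈ J)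
    (hcJ : ∀ i : ℕ, ∀ u ∈ J, com x y ^ i * u * (com x y ^ i)⁻¹ ∈ J) (hcc : com x (com x y) ∈ J) :
    com x y ∈ J := by
  set c := com x y with hcdef
  set d := com x c with hd
  have hdc : ∀ i : ℕ, ∃ u ∈ J, (d * c) ^ i = u * c ^ i := by
    intro i
    induction i with
    | zero => exact ⟨1, one_mem _, by simp⟩
    | succ i ih =>
      obtain ⟨u, hu, he⟩ := ih
      refine ⟨u * (c ^ i * d * (c ^ i)⁻¹), mul_mem hu (hcJ i d hcc), ?_⟩
      rw [pow_succ, he, pow_succ c i]
      group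
  have hit : ∀ i : ℕ, ∃ u ∈ J, x ^ i * y * (x ^ i)⁻¹ = u * c ^ i * y := by
    intro i
    induction i with
    | zero => exact ⟨1, one_mem _, by simp⟩
    | succ i ih =>
      obtain ⟨u, hu, he⟩ := ih
      obtain ⟨u', hu', he'⟩ := hdc i
      refine ⟨x * u * x⁻¹ * u', mul_mem (hxJ u hu) hu', ?_⟩
      have h1 : x * c ^ i * x⁻¹ = u' * c ^ i := by
        rw [← he', ← conj_pow, hd]
        congr 1
        simp only [com]; group
      calc x ^ (i + 1) * y * (x ^ (i + 1))⁻¹ = x * (x ^ i * y * (x ^ i)⁻¹) * x⁻¹ := by rw [pow_succ']; group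
        _ = x * (u * c ^ i * y) * x⁻¹ := by rw [he]
        _ = (x * u * x⁻¹) * (x * c ^ i * x⁻¹) * (x * y * x⁻¹) := by group
        _ = (x * u * x⁻¹) * (u' * c ^ i) * (c * y) := by
          rw [h1, show x * y * x⁻¹ = c * y by rw [hcdef]; simp only [com]; group]
        _ = x * u * x⁻¹ * u' * c ^ (i + 1) * y := by rw [pow_succ]; group
  obtain ⟨u, hu, he⟩ := hit k
  rw [hk, one_mul, inv_one, mul_one] at he
  have h1 : c ^ k ∈ J := by
    have h2 : u * c ^ k = 1 := mul_eq_right.mp he.symm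
    rw [eq_inv_of_mul_eq_one_right h2]
    exact inv_mem hu
  have h3 : c ^ Nat.gcd k (q ^ e) ∈ J := by
    rw [← zpow_natCast, Nat.gcd_eq_gcd_ab, zpow_add, zpow_mul, zpow_mul, zpow_natCast, zpow_natCast, hc, one_zpow,
      mul_one]
    exact zpow_mem h1 _
  rwa [hco.pow_right e, pow_one] at h3

/-- A tower in which every level is minimal. -/
structure IsMinTower (σ : MulAut G) (m : ℕ) (p : ℕ → ℕ) (L : ℕ → Subgroup G) : Prop extends IsTower σ m p L where
  gen : ∀ j < m, L j ≤ closure {z | ∃ x ∈ L (j + 1), ∃ y ∈ L j, z = com x y}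
  min : ∀ j < m, ∀ U ≤ L j, U ≠ L j → (∀ x ∈ U, σ x ∈ U) →
    (∀ a, j < a → a ≤ m → ∀ x ∈ L a, ∀ y ∈ U, x * y * x⁻¹ ∈ U) →
    ∀ x ∈ L (j + 1), ∀ y ∈ U, com x y ∈ kers L j
  min_top : ∀ U ≤ L m, U ≠ L m → (∀ x ∈ U, σ x ∈ U) → U ≤ kers L m
  ne : ∀ j ≤ m, ¬ L j ≤ kers L j

theorem com_mem_level {σ : MulAut G} {m : ℕ} {p : ℕ → ℕ} {L : ℕ → Subgroup G} (h : IsTower σ m p L) {j : ℕ}
    (hj : j < m) {x : G} (hx : x ∈ L (j + 1)) {y : G} (hy : y ∈ L j) : com x y ∈ L j :=
  mul_mem (h.norm (j + 1) j (Nat.lt_succ_self j) hj x hx y hy) (inv_mem hy)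

/-- Every tower contains a minimal one. -/
theorem exists_min_tower [Finite G] {σ : MulAut G} {m : ℕ} {p : ℕ → ℕ} {L : ℕ → Subgroup G}
    (h : IsTower σ m p L) : ∃ T, IsMinTower σ m p T := by
  classical
  set J := kers L with hJ
  have hJconj := kers_conj h.norm
  suffices H : ∀ k ≤ m, ∃ T : ℕ → Subgroup G, (∀ j, ∀ x ∈ T j, σ x ∈ T j) ∧
      (∀ j, m - k ≤ j → j ≤ m → T j ≤ L j ∧ ¬ T j ≤ J j) ∧
      (∀ a b, m - k ≤ b → b < a → a ≤ m → ∀ x ∈ T a, ∀ y ∈ T b, x * y * x⁻¹ ∈ T b) ∧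
      (∀ U ≤ T m, U ≠ T m → (∀ x ∈ U, σ x ∈ U) → U ≤ J m) ∧
      (∀ j, m - k ≤ j → j < m → (∃ x ∈ T (j + 1), ∃ y ∈ T j, com x y ∉ J j) ∧
        ∀ U ≤ T j, U ≠ T j → (∀ x ∈ U, σ x ∈ U) → (∀ a, j < a → a ≤ m → ∀ x ∈ T a, ∀ y ∈ U, x * y * x⁻¹ ∈ U) →
          ∀ x ∈ T (j + 1), ∀ y ∈ U, com x y ∈ J j) by
    obtain ⟨T, hTinv, hTle, hTn, hTtop, hTmin⟩ := H m le_rfl
    simp only [Nat.sub_self, Nat.zero_le, forall_const] at hTle hTn hTmin
    have hJle : ∀ j ≤ m, ∀ x ∈ J j, x ∈ T j → x ∈ kers T j := by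
      intro j
      induction j with
      | zero => intro _ x hx _; exact hx
      | succ j ih =>
        intro hj x hx hxT
        refine (mem_kers_succ (fun a b hab ha => hTn a b hab ha) hj).mpr ⟨hxT, fun y hy => ?_⟩
        refine ih (by omega) _ (((mem_kers_succ h.norm hj).mp hx).2 y ((hTle j (by omega)).1 hy)) ?_
        exact mul_mem (hTn (j + 1) j (Nat.lt_succ_self j) hj x hxT y hy) (inv_mem hy)
    have hgen : ∀ j < m, T j ≤ closure {z | ∃ x ∈ T (j + 1), ∃ y ∈ T j, z = com x y} := by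
      intro j hj
      set D := closure {z | ∃ x ∈ T (j + 1), ∃ y ∈ T j, z = com x y} with hD
      have hDT : D ≤ T j := (closure_le _).mpr (by
        rintro _ ⟨x, hx, y, hy, rfl⟩
        exact mul_mem (hTn (j + 1) j (Nat.lt_succ_self j) hj x hx y hy) (inv_mem hy))
      by_contra hne
      have hDσ : ∀ x ∈ D, σ x ∈ D := by
        intro x hx
        suffices h1 : D ≤ D.comap σ.toMonoidHom from h1 hx
        rw [hD, closure_le]
        rintro _ ⟨a, ha, b, hb, rfl⟩
        exact subset_closure ⟨σ a, hTinv _ a ha, σ b, hTinv _ b hb, map_com' σ a b⟩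
      have hDn : ∀ a, j < a → a ≤ m → ∀ x ∈ T a, ∀ y ∈ D, x * y * x⁻¹ ∈ D := by
        intro a hja ham g hg y hy
        suffices h1 : D ≤ D.comap (MulAut.conj g).toMonoidHom from h1 hy
        rw [hD, closure_le]
        rintro _ ⟨u, hu, v, hv, rfl⟩
        refine subset_closure ⟨g * u * g⁻¹, ?_, g * v * g⁻¹, hTn a j hja ham g hg v hv, map_com' (MulAut.conj g) u v⟩
        rcases (Nat.succ_le_of_lt hja).eq_or_lt with e | e
        · subst e; exact mul_mem (mul_mem hg hu) (inv_mem hg)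
        · exact hTn a (j + 1) e ham g hg u hu
      obtain ⟨⟨x, hx, y, hy, hxy⟩, hmin⟩ := hTmin j hj
      refine hxy ?_
      have hxL := (hTle (j + 1) hj).1 hx
      have hyL := (hTle j (by omega)).1 hy
      have hcL : com x y ∈ L j := com_mem_level h hj hxL hyL
      obtain ⟨e1, he1⟩ := h.pgroup (j + 1) hj ⟨x, hxL⟩
      obtain ⟨e2, he2⟩ := h.pgroup j (by omega) ⟨_, hcL⟩
      refine com_mem_of_com_com (congrArg Subtype.val he1 : x ^ p (j + 1) ^ e1 = 1)
        (((Nat.coprime_primes (h.prime _ hj) (h.prime _ (by omega))).mpr (h.ne_prime j hj)).pow_left e1)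
        (congrArg Subtype.val he2 : com x y ^ p j ^ e2 = 1)
        (fun u hu => hJconj j (j + 1) (Nat.le_succ j) hj x hxL u hu)
        (fun i u hu => hJconj j j le_rfl (by omega) _ (pow_mem hcL i) u hu) ?_
      exact hmin D hDT (fun e => hne e.ge) hDσ hDn x hx _ (subset_closure ⟨x, hx, y, hy, rfl⟩)
    have hne : ∀ j ≤ m, ¬ T j ≤ kers T j := by
      intro j
      induction j with
      | zero => intro hm; exact (hTle 0 hm).2
      | succ j ih =>
        intro hj hle
        refine ih (by omega) ((hgen j hj).trans ((closure_le _).mpr ?_))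
        rintro _ ⟨x, hx, y, hy, rfl⟩
        exact ((mem_kers_succ (fun a b hab ha => hTn a b hab ha) hj).mp (hle hx)).2 y hy
    refine ⟨T, ⟨⟨h.prime, fun j hj => (h.pgroup j hj).to_le (hTle j hj).1, hTinv, hTn, h.ne_prime, hne m le_rfl⟩,
      hgen, fun j hj U hU hUne hUσ hUn x hx y hy => ?_, fun U hU hUne hUσ x hx => ?_, hne⟩⟩
    · refine hJle j (by omega) _ ((hTmin j hj).2 U hU hUne hUσ hUn x hx y hy) ?_
      exact mul_mem (hTn (j + 1) j (Nat.lt_succ_self j) hj x hx y (hU hy)) (inv_mem (hU hy))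
    · exact hJle m le_rfl x (hTtop U hU hUne hUσ hx) (hU hx)
  intro k
  induction k with
  | zero =>
    intro _
    obtain ⟨W, ⟨hWle, hWσ, hWne⟩, hWmin⟩ := (Set.toFinite {U : Subgroup G | U ≤ L m ∧ (∀ x ∈ U, σ x ∈ U) ∧
      ¬ U ≤ J m}).exists_minimal ⟨L m, le_rfl, h.inv m, h.top⟩
    refine ⟨fun j => if j = m then W else ⊥, fun j x hx => ?_, fun j hj1 hj2 => ?_, fun a b hb hab ha => by omega,
      fun U hU hUne hUσ => ?_, fun j hj1 hj2 => by omega⟩
    · simp only at hx ⊢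
      split_ifs at hx ⊢
      · exact hWσ x hx
      · rw [Subgroup.mem_bot.mp hx, map_one]; exact one_mem _
    · obtain rfl : j = m := by omega
      simp only [if_pos]
      exact ⟨hWle, hWne⟩
    · simp only [if_pos] at hU hUne
      by_contra hne
      exact hUne (le_antisymm hU (hWmin ⟨hU.trans hWle, hUσ, hne⟩ hU))
  | succ k ih =>
    intro hk
    obtain ⟨T, hTinv, hTle, hTn, hTtop, hTmin⟩ := ih (by omega)
    obtain ⟨i, hi⟩ : ∃ i, i = m - (k + 1) := ⟨_, rfl⟩
    have him : i < m := by omega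
    have hi1 : i + 1 = m - k := by omega
    obtain ⟨hT1le, hT1ne⟩ := hTle (i + 1) hi1.ge (by omega)
    obtain ⟨W, ⟨hWle, hWσ, hWn, hWne⟩, hWmin⟩ := (Set.toFinite {U : Subgroup G | U ≤ L i ∧ (∀ x ∈ U, σ x ∈ U) ∧
      (∀ a, i < a → a ≤ m → ∀ x ∈ T a, ∀ y ∈ U, x * y * x⁻¹ ∈ U) ∧
      ∃ x ∈ T (i + 1), ∃ y ∈ U, com x y ∉ J i}).exists_minimal ⟨L i, le_rfl, h.inv i,
        fun a hia ham x hx => h.norm a i hia ham x ((hTle a (by omega) ham).1 hx), by
          by_contra hno
          push Not at hno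
          exact hT1ne fun x hx => (mem_kers_succ h.norm him).mpr ⟨hT1le hx, fun y hy => hno x hx y hy⟩⟩
    refine ⟨Function.update T i W, fun j x hx => ?_, fun j hj1 hj2 => ?_, fun a b hb hab ha => ?_,
      fun U hU hUne hUσ => ?_, fun j hj1 hj2 => ?_⟩
    · by_cases hj : j = i
      · subst hj; rw [Function.update_self] at hx ⊢; exact hWσ x hx
      · rw [Function.update_of_ne hj] at hx ⊢; exact hTinv j x hx
    · by_cases hj : j = i
      · subst hj
        rw [Function.update_self]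
        refine ⟨hWle, fun hle => ?_⟩
        obtain ⟨x, hx, y, hy, hxy⟩ := hWne
        exact hxy (mul_mem (hJconj j (j + 1) (Nat.le_succ j) him x (hT1le hx) y (hle hy)) (inv_mem (hle hy)))
      · rw [Function.update_of_ne hj]; exact hTle j (by omega) hj2
    · rw [Function.update_of_ne (show a ≠ i by omega)]
      by_cases hbi : b = i
      · subst hbi; rw [Function.update_self]; exact hWn a hab ha
      · rw [Function.update_of_ne hbi]; exact hTn a b (by omega) hab ha
    · rw [Function.update_of_ne (show m ≠ i by omega)] at hU hUne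
      exact hTtop U hU hUne hUσ
    · rw [Function.update_of_ne (show j + 1 ≠ i by omega)]
      by_cases hji : j = i
      · subst hji
        rw [Function.update_self]
        refine ⟨hWne, fun U hU hUne hUσ hUn x hx y hy => ?_⟩
        by_contra hno
        refine hUne (le_antisymm hU (hWmin ⟨hU.trans hWle, hUσ, fun a hja ham x' hx' => ?_, x, hx, y, hy, hno⟩ hU))
        exact hUn a hja ham x' (by rw [Function.update_of_ne (show a ≠ j by omega)]; exact hx')
      · rw [Function.update_of_ne hji]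
        obtain ⟨h1, h2⟩ := hTmin j (by omega) hj2
        refine ⟨h1, fun U hU hUne hUσ hUn => h2 U hU hUne hUσ fun a hja ham x' hx' => ?_⟩
        exact hUn a hja ham x' (by rw [Function.update_of_ne (show a ≠ i by omega)]; exact hx')

end H1.Turull
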