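import Cfsg.Agent.H1.Turull.Refine

/-!
Commutators with elements of an iterated nilpotent residual fall into the next one.
-/

set_option autoImplicit false
set_option linter.style.haveILetI false

namespace H1.Turull

open Subgroup
open H31.FitLen
open scoped commutatorElement

universe u

variable {G : Type u} [Group G] [Finite G]

theorem map_conj_eq {N : Subgroup G} {y : G} (hy : y ∈ Subgroup.normalizer (N : Set G)) :
    N.map (MulAut.conj y).toMonoidHom = N :=
  Subgroup.mem_normalizer_iff_map_conj_eq.mp hy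

theorem res_conj_mem (C : Subgroup G) (s : ℕ) {c y : G} (hc : c ∈ C) (hy : y ∈ res s C) :
    c * y * c⁻¹ ∈ res s C := by
  have h := map_res (MulAut.conj c).toMonoidHom C s
  rw [map_conj_eq (Subgroup.le_normalizer hc)] at h
  exact h ▸ Subgroup.mem_map_of_mem (MulAut.conj c).toMonoidHom hy

theorem lcs_conj_mem (N : Subgroup G) (k : ℕ) {c y : G} (hc : c ∈ N) (hy : y ∈ N.lowerCentralSeries k) :
    c * y * c⁻¹ ∈ N.lowerCentralSeries k := by
  have h : (N.lowerCentralSeries k).map (MulAut.conj c).toMonoidHom = N.lowerCentralSeries k := by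
    rw [Subgroup.map_lowerCentralSeries, map_conj_eq (Subgroup.le_normalizer hc)]
  exact h ▸ Subgroup.mem_map_of_mem (MulAut.conj c).toMonoidHom hy

/-- A coprime commutator with a residual element lies one residual deeper. -/
theorem com_mem_res {C D : Subgroup G} {s q : ℕ} {x : G} (hx : x ∈ res s C) (hDC : D ≤ C) (hD : IsPGroup q D)
    (hxD : ∀ d ∈ D, x * d * x⁻¹ ∈ D) (hco : (orderOf x).Coprime q) {d : G} (hd : d ∈ D) :
    com x d ∈ res (s + 1) C := by
  rw [res_succ, nres, Subgroup.mem_iInf]
  intro k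
  have hcD : ∀ d ∈ D, com x d ∈ D := fun d hd => mul_mem (hxD d hd) (inv_mem hd)
  induction k generalizing d with
  | zero =>
    rw [show com x d = x * (d * x⁻¹ * d⁻¹) by simp only [com]; group]
    exact (res s C).mul_mem hx (res_conj_mem C s (hDC hd) ((res s C).inv_mem hx))
  | succ k ih =>
    obtain ⟨e, he⟩ := hD ⟨com x d, hcD d hd⟩
    have hcN : com x d ∈ (res s C).lowerCentralSeries k := ih hd
    have hcN' : com x d ∈ res s C := (res s C).lowerCentralSeries_antitone (Nat.zero_le k) hcN
    refine (com_mem_of_com_com (J := (res s C).lowerCentralSeries (k + 1) ⊓ D) (pow_orderOf_eq_one x) hco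
      (e := e) (congrArg Subtype.val he) (fun u hu => ⟨lcs_conj_mem _ _ hx hu.1, hxD u hu.2⟩)
      (fun i u hu => ⟨lcs_conj_mem _ _ (pow_mem hcN' i) hu.1,
        D.mul_mem (D.mul_mem (D.pow_mem (hcD d hd) i) hu.2) (D.inv_mem (D.pow_mem (hcD d hd) i))⟩) ⟨?_, hcD _ (hcD d hd)⟩).1
    show com x (com x d) ∈ ⁅(res s C).lowerCentralSeries k, res s C⁆
    rw [show com x (com x d) = ⁅com x d, x⁆⁻¹ by simp [com, commutatorElement_def, mul_assoc]]
    exact inv_mem (Subgroup.commutator_mem_commutator hcN hx)

end H1.Turull
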