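import Cfsg.Agent.H1.Turull.Refine
import Cfsg.Agent.H1.Turull.StepAbelian
import Cfsg.Agent.H31.InvariantMax

/-!
The sections of a minimal tower.
-/

set_option autoImplicit false
set_option linter.style.haveILetI false
set_option linter.unusedSectionVars false

namespace H1.Turull

open Subgroup

universe u

variable {G : Type u} [Group G]

/-- The kernel inside a level, made normal. -/
def secKer (T : ℕ → Subgroup G) (j : ℕ) : Subgroup (T j) := ((kers T j).subgroupOf (T j)).normalCore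

instance secKer_normal (T : ℕ → Subgroup G) (j : ℕ) : (secKer T j).Normal := Subgroup.normalCore_normal _

/-- The section of a level. -/
abbrev Sec (T : ℕ → Subgroup G) (j : ℕ) : Type u := T j ⧸ secKer T j

/-- The elements acting on a section. -/
def secNorm (T : ℕ → Subgroup G) (j : ℕ) : Subgroup G :=
  Subgroup.normalizer (T j : Set G) ⊓ Subgroup.normalizer (kers T j : Set G)

/-- Conjugation on a level. -/
def levelConj (T : ℕ → Subgroup G) (j : ℕ) : secNorm T j →* MulAut (T j) where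
  toFun g :=
    { toFun := fun x => ⟨(g : G) * x * (g : G)⁻¹, (Subgroup.mem_normalizer_iff.mp g.2.1 x).mp x.2⟩
      invFun := fun x => ⟨(g : G)⁻¹ * x * g, (Subgroup.mem_normalizer_iff.mp g.2.1 _).mpr (by simp [mul_assoc, x.2])⟩
      left_inv := fun x => Subtype.ext (by simp [mul_assoc])
      right_inv := fun x => Subtype.ext (by simp [mul_assoc])
      map_mul' := fun x y => Subtype.ext (by simp [mul_assoc]) }
  map_one' := MulEquiv.ext fun x => Subtype.ext (by simp)
  map_mul' g h := MulEquiv.ext fun x => Subtype.ext (by simp [mul_assoc])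

theorem levelConj_coe (T : ℕ → Subgroup G) (j : ℕ) (g : secNorm T j) (x : T j) :
    ((levelConj T j g x : T j) : G) = (g : G) * x * (g : G)⁻¹ := rfl

theorem apply_normalCore_mem {A : Type u} [Group A] (f : MulAut A) {K : Subgroup A} (hf : ∀ x ∈ K, f x ∈ K)
    {x : A} (hx : x ∈ K.normalCore) : f x ∈ K.normalCore := by
  intro a
  obtain ⟨b, rfl⟩ := f.surjective a
  rw [← map_inv, ← map_mul, ← map_mul]
  exact hf _ (hx b)

theorem secKer_apply_mem (T : ℕ → Subgroup G) (j : ℕ) (f : MulAut (T j))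
    (hf : ∀ x : T j, (x : G) ∈ kers T j → ((f x : T j) : G) ∈ kers T j) {x : T j} (hx : x ∈ secKer T j) :
    f x ∈ secKer T j :=
  apply_normalCore_mem f (K := (kers T j).subgroupOf (T j)) (fun x hx => hf x hx) hx

variable [Finite G]

/-- The action on a section. -/
noncomputable def secAct (T : ℕ → Subgroup G) (j : ℕ) : secNorm T j →* MulAut (Sec T j) :=
  H1.Gross.quotHom (levelConj T j) (secKer T j) fun g _ hx =>
    secKer_apply_mem T j (levelConj T j g) (fun x hx => (Subgroup.mem_normalizer_iff.mp g.2.2 (x : G)).mp hx) hx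

theorem secAct_mk (T : ℕ → Subgroup G) (j : ℕ) (g : secNorm T j) (x : T j) :
    secAct T j g (QuotientGroup.mk x) = QuotientGroup.mk (levelConj T j g x) :=
  H1.Gross.quotHom_mk _ _ _ _ _

variable {σ : MulAut G} {m : ℕ} {p : ℕ → ℕ} {T : ℕ → Subgroup G}

/-- The automorphism of a section. -/
noncomputable def secAut (h : IsMinTower σ m p T) (j : ℕ) : MulAut (Sec T j) :=
  H28.quotAut (H28.subAut σ (T j) (h.inv j)) (secKer T j) fun _ hx =>
    secKer_apply_mem T j (H28.subAut σ (T j) (h.inv j)) (fun x hx => kers_inv h.inv j (x : G) hx) hx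

theorem secAut_mk (h : IsMinTower σ m p T) (j : ℕ) (x : T j) :
    secAut h j (QuotientGroup.mk x) = QuotientGroup.mk (⟨σ x, h.inv j x x.2⟩ : T j) := rfl

variable (h : IsMinTower σ m p T)

include h

theorem secKer_eq {j : ℕ} (hj : j ≤ m) : secKer T j = (kers T j).subgroupOf (T j) := by
  haveI : ((kers T j).subgroupOf (T j)).Normal := ⟨fun x hx a => kers_conj h.norm j j le_rfl hj a a.2 x hx⟩
  exact Subgroup.normalCore_eq_self _

theorem mk_eq_one_iff {j : ℕ} (hj : j ≤ m) (x : T j) : (QuotientGroup.mk x : Sec T j) = 1 ↔ (x : G) ∈ kers T j := by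
  rw [QuotientGroup.eq_one_iff, secKer_eq h hj, Subgroup.mem_subgroupOf]

theorem sec_isPGroup {j : ℕ} (hj : j ≤ m) : IsPGroup (p j) (Sec T j) := (h.pgroup j hj).to_quotient _

theorem sec_exists_ne_one {j : ℕ} (hj : j ≤ m) : ∃ a : Sec T j, a ≠ 1 := by
  obtain ⟨x, hx, hxk⟩ := SetLike.not_le_iff_exists.mp (h.ne j hj)
  exact ⟨QuotientGroup.mk ⟨x, hx⟩, fun e => hxk ((mk_eq_one_iff h hj _).mp e)⟩

theorem secAut_pow {r : ℕ} (hσ : σ ^ r = 1) (j : ℕ) : secAut h j ^ r = 1 := MulEquiv.ext fun y => by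
  obtain ⟨x, rfl⟩ := QuotientGroup.mk_surjective y
  rw [secAut, H28.quotAut_pow_mk, MulAut.one_apply]
  exact congrArg QuotientGroup.mk (Subtype.ext (by rw [H28.subAut_pow_coe, hσ]; rfl))

theorem mem_secNorm {a j : ℕ} (hja : j ≤ a) (ha : a ≤ m) {x : G} (hx : x ∈ T a) : x ∈ secNorm T j := by
  have key : ∀ (x : G), x ∈ T a → ∀ y ∈ T j, x * y * x⁻¹ ∈ T j := fun x hx y hy => by
    rcases hja.eq_or_lt with e | e
    · subst e; exact mul_mem (mul_mem hx hy) (inv_mem hx)
    · exact h.norm a j e ha x hx y hy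
  have key' := fun (x : G) (hx : x ∈ T a) => kers_conj h.norm j a hja ha x hx
  refine ⟨Subgroup.mem_normalizer_iff.mpr fun y => ⟨key x hx y, fun hy => ?_⟩,
    Subgroup.mem_normalizer_iff.mpr fun y => ⟨key' x hx y, fun hy => ?_⟩⟩
  · simpa [mul_assoc] using key x⁻¹ (inv_mem hx) _ hy
  · simpa [mul_assoc] using key' x⁻¹ (inv_mem hx) _ hy

theorem secAut_conj (j : ℕ) {g : G} (hg : g ∈ secNorm T j) (hg' : σ g ∈ secNorm T j) :
    secAut h j * secAct T j ⟨g, hg⟩ = secAct T j ⟨σ g, hg'⟩ * secAut h j := MulEquiv.ext fun y => by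
  obtain ⟨x, rfl⟩ := QuotientGroup.mk_surjective y
  rw [MulAut.mul_apply, MulAut.mul_apply, secAct_mk, secAut_mk, secAut_mk, secAct_mk]
  refine congrArg QuotientGroup.mk (Subtype.ext ?_)
  show σ (g * (x : G) * g⁻¹) = σ g * σ (x : G) * (σ g)⁻¹
  rw [map_mul, map_mul, map_inv]

theorem mem_ker_iff {j : ℕ} (hj : j + 1 ≤ m) (x : T (j + 1)) :
    secAct T j ⟨x, mem_secNorm h (Nat.le_succ j) hj x.2⟩ = 1 ↔ (x : G) ∈ kers T (j + 1) := by
  rw [mem_kers_succ h.norm hj]
  constructor
  · intro e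
    refine ⟨x.2, fun y hy => ?_⟩
    have h1 := congrArg (fun f : MulAut (Sec T j) => f (QuotientGroup.mk (⟨y, hy⟩ : T j))) e
    simp only [MulAut.one_apply, secAct_mk] at h1
    have h2 := (mk_eq_one_iff h (Nat.le_of_succ_le hj)
      ((levelConj T j ⟨x, mem_secNorm h (Nat.le_succ j) hj x.2⟩ ⟨y, hy⟩) * (⟨y, hy⟩ : T j)⁻¹)).mp
        (by rw [QuotientGroup.mk_mul, QuotientGroup.mk_inv, h1, mul_inv_cancel])
    exact h2
  · rintro ⟨-, hx⟩
    refine MulEquiv.ext fun y => ?_
    obtain ⟨y, rfl⟩ := QuotientGroup.mk_surjective y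
    rw [secAct_mk, MulAut.one_apply, ← mul_inv_eq_one, ← QuotientGroup.mk_inv, ← QuotientGroup.mk_mul,
      mk_eq_one_iff h (Nat.le_of_succ_le hj)]
    exact hx y y.2

/-- The action of a level on the section below. -/
noncomputable def levelAct {j : ℕ} (hj : j + 1 ≤ m) : T (j + 1) →* MulAut (Sec T j) :=
  (secAct T j).comp (Subgroup.inclusion fun _ hx => mem_secNorm h (Nat.le_succ j) hj hx)

/-- The faithful action of a section on the one below. -/
noncomputable def secRep {j : ℕ} (hj : j + 1 ≤ m) : Sec T (j + 1) →* MulAut (Sec T j) :=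
  QuotientGroup.lift (secKer T (j + 1)) (levelAct h hj) fun x hx => by
    rw [secKer_eq h hj, Subgroup.mem_subgroupOf] at hx
    exact (mem_ker_iff h hj x).mpr hx

theorem secRep_mk {j : ℕ} (hj : j + 1 ≤ m) (x : T (j + 1)) :
    secRep h hj (QuotientGroup.mk x) = secAct T j ⟨x, mem_secNorm h (Nat.le_succ j) hj x.2⟩ := rfl

theorem secRep_injective {j : ℕ} (hj : j + 1 ≤ m) : Function.Injective (secRep h hj) := by
  rw [injective_iff_map_eq_one]
  intro a ha
  obtain ⟨x, rfl⟩ := QuotientGroup.mk_surjective a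
  exact (mk_eq_one_iff h hj x).mpr ((mem_ker_iff h hj x).mp ha)

theorem secRep_equiv {j : ℕ} (hj : j + 1 ≤ m) (a : Sec T (j + 1)) :
    secAut h j * secRep h hj a = secRep h hj (secAut h (j + 1) a) * secAut h j := by
  obtain ⟨x, rfl⟩ := QuotientGroup.mk_surjective a
  rw [secAut_mk, secRep_mk, secRep_mk]
  exact secAut_conj h j (mem_secNorm h (Nat.le_succ j) hj x.2) (mem_secNorm h (Nat.le_succ j) hj (h.inv _ x x.2))

theorem secRep_gen {j : ℕ} (hj : j + 1 ≤ m) :
    closure {z : Sec T j | ∃ a, ∃ t ∈ (secRep h hj).range, z = a⁻¹ * t a} = ⊤ := by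
  rw [eq_top_iff]
  intro y _
  obtain ⟨y, rfl⟩ := QuotientGroup.mk_surjective y
  set D := closure {z : Sec T j | ∃ a, ∃ t ∈ (secRep h hj).range, z = a⁻¹ * t a}
  have hsub : closure {z : G | ∃ x ∈ T (j + 1), ∃ y ∈ T j, z = com x y} ≤
      (D.comap (QuotientGroup.mk' (secKer T j))).map (T j).subtype := by
    rw [closure_le]
    rintro _ ⟨x, hx, y, hy, rfl⟩
    let cy : T j := levelConj T j ⟨x, mem_secNorm h (Nat.le_succ j) hj hx⟩ ⟨y, hy⟩
    refine ⟨cy * (⟨y, hy⟩ : T j)⁻¹, ?_, rfl⟩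
    show (QuotientGroup.mk (cy * (⟨y, hy⟩ : T j)⁻¹) : Sec T j) ∈ D
    rw [← inv_mem_iff, QuotientGroup.mk_mul, mul_inv_rev, QuotientGroup.mk_inv, inv_inv]
    refine subset_closure ⟨(QuotientGroup.mk (⟨y, hy⟩ : T j))⁻¹, _, ⟨QuotientGroup.mk ⟨x, hx⟩, rfl⟩, ?_⟩
    rw [inv_inv, map_inv, secRep_mk, secAct_mk]
  obtain ⟨y', hy', hye⟩ := hsub (h.gen j hj y.2)
  rw [show y = y' from Subtype.ext hye.symm]
  exact hy'

theorem sec_min {j : ℕ} (hj : j + 1 ≤ m) (U : Subgroup (Sec T j)) (hU : U ≠ ⊤)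
    (hθ : ∀ y ∈ U, secAut h j y ∈ U)
    (hact : ∀ a, (hja : j < a) → (ham : a ≤ m) → ∀ x, (hx : x ∈ T a) → ∀ y ∈ U,
      secAct T j ⟨x, mem_secNorm h hja.le ham hx⟩ y ∈ U)
    (t : MulAut (Sec T j)) (ht : t ∈ (secRep h hj).range) (y : Sec T j) (hy : y ∈ U) : t y = y := by
  obtain ⟨a, rfl⟩ := ht
  obtain ⟨x, rfl⟩ := QuotientGroup.mk_surjective a
  obtain ⟨y, rfl⟩ := QuotientGroup.mk_surjective y
  set U' := (U.comap (QuotientGroup.mk' (secKer T j))).map (T j).subtype with hU'
  have hne : U' ≠ T j := by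
    intro e
    apply hU
    rw [eq_top_iff]
    intro z _
    obtain ⟨z, rfl⟩ := QuotientGroup.mk_surjective z
    obtain ⟨w, hw, hwe⟩ := (e.ge z.2 : (z : G) ∈ U')
    rw [show z = w from Subtype.ext hwe.symm]
    exact hw
  have hm := h.min j hj U' (Subgroup.map_subtype_le _) hne
    (by
      rintro _ ⟨w, hw, rfl⟩
      exact ⟨⟨σ w, h.inv j w w.2⟩, (secAut_mk h j w ▸ hθ _ hw :), rfl⟩)
    (fun a hja ham x hx z hz => by
      obtain ⟨w, hw, rfl⟩ := hz
      refine ⟨levelConj T j ⟨x, mem_secNorm h hja.le ham hx⟩ w, ?_, rfl⟩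
      have := hact a hja ham x hx _ hw
      rw [QuotientGroup.mk'_apply, secAct_mk] at this
      exact this)
    x x.2 y ⟨y, hy, rfl⟩
  rw [secRep_mk, secAct_mk, ← mul_inv_eq_one, ← QuotientGroup.mk_inv, ← QuotientGroup.mk_mul,
    mk_eq_one_iff h (Nat.le_of_succ_le hj)]
  exact hm

theorem sec_min_top (U : Subgroup (Sec T m)) (hU : U ≠ ⊤) (hθ : ∀ y ∈ U, secAut h m y ∈ U) : U = ⊥ := by
  rw [Subgroup.eq_bot_iff_forall]
  intro y hy
  obtain ⟨y, rfl⟩ := QuotientGroup.mk_surjective y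
  set U' := (U.comap (QuotientGroup.mk' (secKer T m))).map (T m).subtype with hU'
  have hne : U' ≠ T m := by
    intro e
    apply hU
    rw [eq_top_iff]
    intro z _
    obtain ⟨z, rfl⟩ := QuotientGroup.mk_surjective z
    obtain ⟨w, hw, hwe⟩ := (e.ge z.2 : (z : G) ∈ U')
    rw [show z = w from Subtype.ext hwe.symm]
    exact hw
  exact (mk_eq_one_iff h le_rfl y).mpr (h.min_top U' (Subgroup.map_subtype_le _) hne
    (by
      rintro _ ⟨w, hw, rfl⟩
      exact ⟨⟨σ w, h.inv m w w.2⟩, (secAut_mk h m w ▸ hθ _ hw :), rfl⟩) ⟨y, hy, rfl⟩)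

theorem frattini_fixed {j : ℕ} (hj : j + 1 ≤ m) {t : MulAut (Sec T j)} (ht : t ∈ (secRep h hj).range) {c : Sec T j}
    (hc : c ∈ frattini (Sec T j)) : t c = c := by
  refine sec_min h hj (frattini (Sec T j)) (fun e => ?_) (fun y hy => H28.char_apply_mem _ _ y hy)
    (fun a hja ham x hx y hy => H28.char_apply_mem _ _ y hy) t ht c hc
  obtain ⟨a, ha⟩ := sec_exists_ne_one h (Nat.le_of_succ_le hj)
  haveI : Nontrivial (Sec T j) := ⟨⟨a, 1, ha⟩⟩
  rcases eq_top_or_exists_le_coatom (⊥ : Subgroup (Sec T j)) with hb | ⟨M, hM, -⟩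
  · exact bot_ne_top hb
  · exact hM.1 (top_le_iff.mp (e ▸ frattini_le_coatom hM))

theorem frattini_central {j : ℕ} (hj : j + 1 ≤ m) {c : Sec T j} (hc : c ∈ frattini (Sec T j)) :
    c ∈ center (Sec T j) := by
  rw [mem_center_iff]
  intro y
  have hy : y ∈ closure {z : Sec T j | ∃ a, ∃ t ∈ (secRep h hj).range, z = a⁻¹ * t a} := by
    rw [secRep_gen h hj]; exact mem_top y
  have hle : closure {z : Sec T j | ∃ a, ∃ t ∈ (secRep h hj).range, z = a⁻¹ * t a} ≤
      Subgroup.centralizer ({c} : Set (Sec T j)) := by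
    rw [closure_le]
    rintro _ ⟨a, t, ht, rfl⟩
    refine Subgroup.mem_centralizer_singleton_iff.mpr ?_
    haveI : (frattini (Sec T j)).Normal := inferInstance
    have h1 := frattini_fixed h hj ht ((inferInstance : (frattini (Sec T j)).Normal).conj_mem c hc a)
    rw [map_mul, map_mul, map_inv, frattini_fixed h hj ht hc] at h1
    calc a⁻¹ * t a * c = a⁻¹ * (t a * c * (t a)⁻¹) * t a := by group
      _ = c * (a⁻¹ * t a) := by rw [h1]; group
  exact Subgroup.mem_centralizer_singleton_iff.mp (hle hy)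

theorem sec_class_two {j : ℕ} (hj : j + 1 ≤ m) (a b : Sec T j) : com a b ∈ center (Sec T j) := by
  haveI := Fact.mk (h.prime j (Nat.le_of_succ_le hj))
  refine frattini_central h hj (H31.commutator_le_frattini (sec_isPGroup h (Nat.le_of_succ_le hj)) ?_)
  exact Subgroup.commutator_mem_commutator (mem_top a) (mem_top b)

theorem sec_pow {j : ℕ} (hj : j + 1 ≤ m) (a : Sec T j) : a ^ p j ∈ center (Sec T j) := by
  haveI := Fact.mk (h.prime j (Nat.le_of_succ_le hj))
  exact frattini_central h hj (H31.pow_mem_frattini (sec_isPGroup h (Nat.le_of_succ_le hj)) a)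

theorem sec_abelian_pow {j : ℕ} (hj : j + 1 ≤ m) (hab : ∀ a b : Sec T j, a * b = b * a) (a : Sec T j) :
    a ^ p j = 1 := by
  haveI := Fact.mk (h.prime j (Nat.le_of_succ_le hj))
  have ha : a ∈ closure {z : Sec T j | ∃ a, ∃ t ∈ (secRep h hj).range, z = a⁻¹ * t a} := by
    rw [secRep_gen h hj]; exact mem_top a
  induction ha using Subgroup.closure_induction with
  | mem z hz =>
    obtain ⟨b, t, ht, rfl⟩ := hz
    have h1 : t (b ^ p j) = b ^ p j :=
      frattini_fixed h hj ht (H31.pow_mem_frattini (sec_isPGroup h (Nat.le_of_succ_le hj)) b)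
    rw [map_pow] at h1
    rw [(show Commute b⁻¹ (t b) from hab _ _).mul_pow, h1, inv_pow, inv_mul_cancel]
  | one => exact one_pow _
  | mul x y _ _ hx hy => rw [(show Commute x y from hab x y).mul_pow, hx, hy, one_mul]
  | inv x _ hx => rw [inv_pow, hx, inv_one]

theorem sec_center_fixed {j : ℕ} (hj : j + 1 ≤ m) (hnab : ¬ ∀ a b : Sec T j, a * b = b * a) {t : MulAut (Sec T j)}
    (ht : t ∈ (secRep h hj).range) {z : Sec T j} (hz : z ∈ center (Sec T j)) : t z = z := by
  refine sec_min h hj (center (Sec T j)) (fun e => hnab fun a b => ?_) (fun y hy => apply_center_mem _ hy)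
    (fun a hja ham x hx y hy => apply_center_mem _ hy) t ht z hz
  exact (mem_center_iff.mp (e.ge (mem_top a)) b).symm

theorem sec_top_comm (a b : Sec T m) : a * b = b * a ∧ a ^ p m = 1 := by
  haveI := Fact.mk (h.prime m le_rfl)
  have hΦ : frattini (Sec T m) = ⊥ := by
    refine sec_min_top h _ (fun e => ?_) fun y hy => H28.char_apply_mem _ _ y hy
    obtain ⟨a, ha⟩ := sec_exists_ne_one h le_rfl
    haveI : Nontrivial (Sec T m) := ⟨⟨a, 1, ha⟩⟩
    rcases eq_top_or_exists_le_coatom (⊥ : Subgroup (Sec T m)) with hb | ⟨M, hM, -⟩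
    · exact bot_ne_top hb
    · exact hM.1 (top_le_iff.mp (e ▸ frattini_le_coatom hM))
  have h1 : com a b ∈ frattini (Sec T m) :=
    H31.commutator_le_frattini (sec_isPGroup h le_rfl) (Subgroup.commutator_mem_commutator (mem_top a) (mem_top b))
  have h2 := H31.pow_mem_frattini (sec_isPGroup h le_rfl) a
  rw [hΦ, Subgroup.mem_bot] at h1 h2
  rw [com, mul_inv_eq_one, mul_inv_eq_iff_eq_mul] at h1
  exact ⟨h1, h2⟩

/-- Above the last moved level everything is fixed. -/
theorem fixed_above {r : ℕ} [Fact r.Prime] (hσ : σ ^ r = 1) (hcop : ¬ r ∣ Nat.card G) (t : ℕ)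
    (htriv : ∀ a, t ≤ a → a ≤ m → secAut h a = 1) : ∀ k a, a + k = m → t ≤ a → ∀ x ∈ T a, σ x = x := by
  intro k
  induction k using Nat.strong_induction_on with
  | _ k ih =>
    intro a hak hta
    let U : Subgroup G :=
      { carrier := {x | x ∈ T a ∧ σ x = x}
        one_mem' := ⟨one_mem _, map_one σ⟩
        mul_mem' := fun {x y} hx hy => ⟨mul_mem hx.1 hy.1, by rw [map_mul, hx.2, hy.2]⟩
        inv_mem' := fun {x} hx => ⟨inv_mem hx.1, by rw [map_inv, hx.2]⟩ }
    suffices hU : U = T a from fun x hx => ((hU.ge hx : x ∈ U)).2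
    have hUσ : ∀ x ∈ U, σ x ∈ U := fun x hx => by rw [hx.2]; exact hx
    have hcov : ∀ x ∈ T a, ∃ c ∈ U, x⁻¹ * c ∈ kers T a := by
      intro x hx
      let θa : MulAut (T a) := H28.subAut σ (T a) (h.inv a)
      obtain ⟨c, hc, hcθ⟩ := exists_fixed_coset (r := r) θa
        (MulEquiv.ext fun y => Subtype.ext (by rw [H28.subAut_pow_coe, hσ]; rfl))
        ((kers T a).subgroupOf (T a)) (fun y hy => kers_inv h.inv a (y : G) hy)
        (fun hd => hcop (hd.trans ((Subgroup.card_subgroup_dvd_card _).trans (Subgroup.card_subgroup_dvd_card _))))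
        ⟨x, hx⟩ (by
          have h1 := congrArg (fun f : MulAut (Sec T a) => f (QuotientGroup.mk ⟨x, hx⟩)) (htriv a hta (by omega))
          simp only [MulAut.one_apply, secAut_mk] at h1
          have h2 := QuotientGroup.eq.mp h1.symm
          rw [secKer_eq h (by omega)] at h2
          exact h2)
      exact ⟨c, ⟨c.2, congrArg Subtype.val hcθ⟩, hc⟩
    by_contra hne
    have hUle : U ≤ T a := fun x hx => hx.1
    rcases Nat.eq_zero_or_pos k with hk0 | hk0
    · subst hk0
      obtain rfl : a = m := by omega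
      refine h.ne a le_rfl fun x hx => ?_
      obtain ⟨c, hcU, hc⟩ := hcov x hx
      have := mul_mem (h.min_top U hUle hne hUσ hcU) (inv_mem hc)
      rwa [mul_inv_rev, inv_inv, mul_inv_cancel_left] at this
    · have hfix : ∀ b, a < b → b ≤ m → ∀ x ∈ T b, σ x = x := fun b hab hbm =>
        ih (m - b) (by omega) b (by omega) (by omega)
      have hmin := h.min a (by omega) U hUle hne hUσ fun b hab hbm x hx y hy =>
        ⟨h.norm b a hab hbm x hx y hy.1, by rw [map_mul, map_mul, map_inv, hfix b hab hbm x hx, hy.2]⟩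
      refine h.ne (a + 1) (by omega) fun x hx => (mem_kers_succ h.norm (by omega)).mpr ⟨hx, fun y hy => ?_⟩
      obtain ⟨c, hcU, hc⟩ := hcov y hy
      have hconj := fun b (hb : b ∈ T (a + 1)) u (hu : u ∈ kers T a) =>
        kers_conj h.norm a (a + 1) (Nat.le_succ a) (by omega) b hb u hu
      have hconj' := fun b (hb : b ∈ T a) u (hu : u ∈ kers T a) =>
        kers_conj h.norm a a le_rfl (by omega) b hb u hu
      rw [show com x y = (com x c) * (c * ((x * (y⁻¹ * c)⁻¹ * x⁻¹) * (y⁻¹ * c)) * c⁻¹) by simp only [com]; group]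
      exact mul_mem (hmin x hx c hcU) (hconj' c hcU.1 _ (mul_mem (hconj x hx _ (inv_mem hc)) hc))

/-- The displacements cover the last moved level. -/
theorem sec_disp_top {t : ℕ} (ht : t ≤ m) (hne : secAut h t ≠ 1)
    (hfix : ∀ a, t < a → a ≤ m → ∀ x ∈ T a, σ x = x) : disp (secAut h t) = ⊤ := by
  by_contra htop
  have hinv : ∀ y ∈ disp (secAut h t), secAut h t y ∈ disp (secAut h t) := fun y hy => disp_apply_mem _ hy
  rcases ht.eq_or_lt with e | hlt
  · subst e
    have h0 := sec_min_top h _ htop hinv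
    refine hne (MulEquiv.ext fun y => ?_)
    have h1 := disp_mem (secAut h t) y
    rw [h0, Subgroup.mem_bot, inv_mul_eq_one] at h1
    exact h1.symm
  have hcomm : ∀ a, (hta : t < a) → (ham : a ≤ m) → ∀ x, (hx : x ∈ T a) →
      secAut h t * secAct T t ⟨x, mem_secNorm h hta.le ham hx⟩ =
        secAct T t ⟨x, mem_secNorm h hta.le ham hx⟩ * secAut h t := by
    intro a hta ham x hx
    rw [secAut_conj h t (mem_secNorm h hta.le ham hx) (by rw [hfix a hta ham x hx]; exact mem_secNorm h hta.le ham hx)]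
    congr 2
    exact Subtype.ext (hfix a hta ham x hx)
  have hRfix := sec_min h hlt (disp (secAut h t)) htop hinv fun a hta ham x hx y hy => by
    suffices hle : disp (secAut h t) ≤
        (disp (secAut h t)).comap (secAct T t ⟨x, mem_secNorm h hta.le ham hx⟩).toMonoidHom from hle hy
    rw [disp, closure_le]
    rintro _ ⟨b, rfl⟩
    show secAct T t _ (b⁻¹ * secAut h t b) ∈ disp (secAut h t)
    rw [map_mul, map_inv, ← MulAut.mul_apply, ← hcomm a hta ham x hx, MulAut.mul_apply]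
    exact disp_mem _ _
  refine hne (MulEquiv.ext fun y => ?_)
  have hy : y ∈ closure {z : Sec T t | ∃ a, ∃ s ∈ (secRep h hlt).range, z = a⁻¹ * s a} := by
    rw [secRep_gen h hlt]; exact mem_top y
  induction hy using Subgroup.closure_induction with
  | mem z hz =>
    obtain ⟨b, s, hs, rfl⟩ := hz
    -- the commutators with the level above are fixed
    have hsθ : secAut h t * s = s * secAut h t := by
      obtain ⟨a, rfl⟩ := hs
      obtain ⟨x, rfl⟩ := QuotientGroup.mk_surjective a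
      exact hcomm (t + 1) (Nat.lt_succ_self t) hlt x x.2
    have h1 := hRfix s hs _ (conj_mem_disp (secAut h t) (secAut h t b) (inv_mem (disp_mem (secAut h t) b)))
    have h2 : secAut h t b * (b⁻¹ * secAut h t b)⁻¹ * (secAut h t b)⁻¹ = b * (secAut h t b)⁻¹ := by group
    rw [h2, map_mul, map_inv, show s (secAut h t b) = secAut h t (s b) by
      rw [← MulAut.mul_apply, ← hsθ, MulAut.mul_apply]] at h1
    rw [MulAut.one_apply, map_mul, map_inv]
    calc (secAut h t b)⁻¹ * secAut h t (s b) = b⁻¹ * (b * (secAut h t b)⁻¹) * secAut h t (s b) := by group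
      _ = b⁻¹ * (s b * (secAut h t (s b))⁻¹) * secAut h t (s b) := by rw [h1]
      _ = b⁻¹ * s b := by group
  | one => rw [map_one, map_one]
  | mul a b _ _ ha hb => rw [map_mul, map_mul, ha, hb]
  | inv a _ ha => rw [map_inv, map_inv, ha]

end H1.Turull
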