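import Cfsg.Agent.H1.Turull.Levels
import Cfsg.Agent.H1.Turull.Sections
import Cfsg.Agent.H1.Turull.Residual

/-!
The sections of a minimal tower acting on the modules of the sections below.
-/

set_option autoImplicit false
set_option linter.style.haveILetI false
set_option linter.unusedSectionVars false

namespace H1.Turull

open Subgroup

universe u v

variable {G : Type u} [Group G] [Finite G] {σ : MulAut G} {m : ℕ} {p : ℕ → ℕ} {T : ℕ → Subgroup G}
  (h : IsMinTower σ m p T) {r : ℕ} [Fact r.Prime]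

include h

theorem prime_ne_r (hcop : ¬ r ∣ Nat.card G) {j : ℕ} (hj : j ≤ m) : p j ≠ r := by
  intro e
  haveI := Fact.mk (h.prime j hj)
  obtain ⟨x, hx, hxk⟩ := SetLike.not_le_iff_exists.mp (h.ne j hj)
  obtain ⟨i, hi⟩ := IsPGroup.iff_card.mp (h.pgroup j hj)
  refine hcop (dvd_trans ?_ (Subgroup.card_subgroup_dvd_card (T j)))
  rw [hi, ← e]
  refine dvd_pow_self _ fun h0 => hxk ?_
  rw [h0, pow_zero, Subgroup.card_eq_one] at hi
  rw [hi, Subgroup.mem_bot] at hx
  rw [hx]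
  exact one_mem _

theorem not_dvd_level (hcop : ¬ r ∣ Nat.card G) (j : ℕ) : ¬ r ∣ Nat.card (T j) :=
  fun hd => hcop (hd.trans (Subgroup.card_subgroup_dvd_card (T j)))

theorem not_dvd_sec (hcop : ¬ r ∣ Nat.card G) (j : ℕ) : ¬ r ∣ Nat.card (Sec T j) :=
  fun hd => not_dvd_level h hcop j (hd.trans (Subgroup.card_quotient_dvd_card _))

theorem sec_cls {j : ℕ} (hj : j ≤ m) (a b : Sec T j) : com a b ∈ center (Sec T j) := by
  rcases hj.eq_or_lt with rfl | hlt
  · rw [mem_center_iff]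
    exact fun y => (sec_top_comm h y (com a b)).1
  · exact sec_class_two h hlt a b

theorem sec_pow_center {j : ℕ} (hj : j ≤ m) (a : Sec T j) : a ^ p j ∈ center (Sec T j) := by
  rcases hj.eq_or_lt with rfl | hlt
  · rw [(sec_top_comm h a a).2]
    exact one_mem _
  · exact sec_pow h hlt a

theorem sec_pow_comm {j : ℕ} (hj : j ≤ m) (hab : ∀ a b : Sec T j, a * b = b * a) (a : Sec T j) : a ^ p j = 1 := by
  rcases hj.eq_or_lt with rfl | hlt
  · exact (sec_top_comm h a a).2
  · exact sec_abelian_pow h hlt hab a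

theorem range_fix_zsub {j : ℕ} (hj : j + 1 ≤ m) {t : MulAut (Sec T j)} (ht : t ∈ (secRep h hj).range)
    {z : Sec T j} (hz : z ∈ zsub (Sec T j)) : t z = z := by
  by_cases hab : ∀ a b : Sec T j, a * b = b * a
  · rw [eq_one_of_mem_zsub hab hz, map_one]
  · exact sec_center_fixed h hj hab ht (zsub_le_center (sec_class_two h hj) hz)

theorem mq_pow {j : ℕ} (hj : j ≤ m) (y : Mq (Sec T j)) : y ^ p j = 1 := by
  obtain ⟨a, rfl⟩ := QuotientGroup.mk_surjective y
  rw [← QuotientGroup.mk_pow, QuotientGroup.eq_one_iff]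
  by_cases hab : ∀ a b : Sec T j, a * b = b * a
  · rw [sec_pow_comm h hj hab]
    exact one_mem _
  · exact center_le_zsub hab (sec_pow_center h hj a)

theorem secRep_range_isPGroup {j : ℕ} (hj : j + 1 ≤ m) : IsPGroup (p (j + 1)) (secRep h hj).range :=
  (sec_isPGroup h hj).of_surjective (secRep h hj).rangeRestrict (secRep h hj).rangeRestrict_surjective

theorem secRep_cls {j : ℕ} (hj : j + 1 ≤ m) : ∀ a ∈ (secRep h hj).range, ∀ b ∈ (secRep h hj).range,
    ∀ t ∈ (secRep h hj).range, com a b * t = t * com a b := by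
  rintro _ ⟨a, rfl⟩ _ ⟨b, rfl⟩ _ ⟨t, rfl⟩
  rw [← map_com, ← map_mul, ← map_mul, mem_center_iff.mp (sec_cls h hj a b) t]

theorem secRep_conj {j a : ℕ} (hj : j + 1 ≤ m) (hja : j + 1 ≤ a) (ha : a ≤ m) {x : G} (hx : x ∈ T a)
    (b : Sec T (j + 1)) :
    secAct T j ⟨x, mem_secNorm h ((Nat.le_succ j).trans hja) ha hx⟩ * secRep h hj b =
      secRep h hj (secAct T (j + 1) ⟨x, mem_secNorm h hja ha hx⟩ b) *
        secAct T j ⟨x, mem_secNorm h ((Nat.le_succ j).trans hja) ha hx⟩ := by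
  obtain ⟨y, rfl⟩ := QuotientGroup.mk_surjective b
  rw [secAct_mk, secRep_mk, secRep_mk, ← map_mul, ← map_mul]
  refine congrArg (secAct T j) (Subtype.ext ?_)
  show x * (y : G) = x * (y : G) * x⁻¹ * x
  group

theorem secRep_com {j : ℕ} (hj : j + 1 ≤ m) {x : G} (hx : x ∈ T (j + 1)) {y : G} (hy : y ∈ T j) :
    secRep h hj (QuotientGroup.mk (⟨x, hx⟩ : T (j + 1))) (QuotientGroup.mk (⟨y, hy⟩ : T j)) *
      (QuotientGroup.mk (⟨y, hy⟩ : T j))⁻¹ =
        QuotientGroup.mk (⟨com x y, com_mem_level h.toIsTower hj hx hy⟩ : T j) := by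
  rw [secRep_mk, secAct_mk, ← QuotientGroup.mk_inv, ← QuotientGroup.mk_mul]
  rfl

theorem exists_fixed_level (hσ : σ ^ r = 1) (hcop : ¬ r ∣ Nat.card G) {j : ℕ} {y : Sec T j}
    (hy : secAut h j y = y) : ∃ c : G, ∃ hc : c ∈ T j, σ c = c ∧ (QuotientGroup.mk (⟨c, hc⟩ : T j) : Sec T j) = y := by
  obtain ⟨a, rfl⟩ := QuotientGroup.mk_surjective y
  let θ : MulAut (T j) := H28.subAut σ (T j) (h.inv j)
  obtain ⟨c, hc, hcθ⟩ := exists_fixed_coset (r := r) θ
    (MulEquiv.ext fun x => Subtype.ext (by rw [H28.subAut_pow_coe, hσ]; rfl)) (secKer T j)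
    (fun x hx => secKer_apply_mem T j θ (fun x hx => kers_inv h.inv j (x : G) hx) hx)
    (fun hd => not_dvd_level h hcop j (hd.trans (Subgroup.card_subgroup_dvd_card _))) a
    (QuotientGroup.eq.mp hy.symm)
  exact ⟨c, c.2, congrArg Subtype.val hcθ, (QuotientGroup.eq.mpr hc).symm⟩

theorem secAut_comm_act {j a : ℕ} (hja : j ≤ a) (ha : a ≤ m) {x : G} (hx : x ∈ T a) (hσx : σ x = x) :
    secAut h j * secAct T j ⟨x, mem_secNorm h hja ha hx⟩ = secAct T j ⟨x, mem_secNorm h hja ha hx⟩ * secAut h j := by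
  rw [secAut_conj h j (mem_secNorm h hja ha hx) (hσx.symm ▸ mem_secNorm h hja ha hx)]
  congr 2
  exact Subtype.ext hσx

variable (K : Type v) [Field K]

/-- The action of a section on the module of the section below. -/
noncomputable def lowRep {i : ℕ} (hi : i + 1 ≤ m) :
    Sec T (i + 1) →* Module.End K (BiDual (p i) (Mq (Sec T i)) K) :=
  (biRep (p i) (Mq (Sec T i)) K).comp (toM.comp (secRep h hi))

/-- The automorphism on the module of a section. -/
noncomputable def lowS (i : ℕ) : Module.End K (BiDual (p i) (Mq (Sec T i)) K) :=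
  biRep (p i) (Mq (Sec T i)) K (toM (secAut h i))

theorem lowS_pow (hσ : σ ^ r = 1) (i : ℕ) : lowS h K i ^ r = 1 := by
  rw [lowS, ← map_pow, ← map_pow, secAut_pow h hσ, map_one, map_one]

theorem lowRep_comp {i : ℕ} (hi : i + 1 ≤ m) (a : Sec T (i + 1)) :
    lowS h K i * lowRep h K hi a = lowRep h K hi (secAut h (i + 1) a) * lowS h K i := by
  show biRep (p i) (Mq (Sec T i)) K (toM (secAut h i)) * biRep (p i) (Mq (Sec T i)) K (toM (secRep h hi a)) =
    biRep (p i) (Mq (Sec T i)) K (toM (secRep h hi (secAut h (i + 1) a))) *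
      biRep (p i) (Mq (Sec T i)) K (toM (secAut h i))
  rw [← map_mul, ← map_mul, ← map_mul, ← map_mul, secRep_equiv]

theorem biRep_act_injective {i : ℕ} (g : MulAut (Mq (Sec T i))) :
    Function.Injective (biRep (p i) (Mq (Sec T i)) K g) := by
  refine Function.LeftInverse.injective (g := biRep (p i) (Mq (Sec T i)) K g⁻¹) fun v => ?_
  rw [← Module.End.mul_apply, ← map_mul, inv_mul_cancel, map_one, Module.End.one_apply]

theorem lowRep_injective {i : ℕ} (hi : i + 1 ≤ m) [CharP K (p i)] : Function.Injective (lowRep h K hi) := by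
  haveI := Fact.mk (h.prime i (Nat.le_of_succ_le hi))
  rw [injective_iff_map_eq_one]
  intro a ha
  have h1 : toM (secRep h hi a) = 1 :=
    biRep_injective (p i) (Mq (Sec T i)) K (mq_pow h (Nat.le_of_succ_le hi)) (ha.trans (map_one _).symm)
  obtain ⟨e, he⟩ := secRep_range_isPGroup h hi ⟨_, a, rfl⟩
  obtain ⟨j, hj⟩ := IsPGroup.iff_card.mp (sec_isPGroup h (Nat.le_of_succ_le hi))
  refine secRep_injective h hi ((eq_one_of_toM (congrArg Subtype.val he) ?_ (fun z hz => ?_) h1).trans (map_one _).symm)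
  · rw [hj]
    exact ((Nat.coprime_primes (h.prime _ hi) (Fact.out : (p i).Prime)).mpr (h.ne_prime i hi)).pow e j
  · exact range_fix_zsub h hi ⟨a, rfl⟩ hz

theorem cast_r_ne_zero (hcop : ¬ r ∣ Nat.card G) {i : ℕ} (hi : i ≤ m) [CharP K (p i)] : (r : K) ≠ 0 := fun h0 =>
  prime_ne_r h hcop hi ((Nat.prime_dvd_prime_iff_eq (h.prime i hi) Fact.out).mp ((CharP.cast_eq_zero_iff K (p i) r).mp h0))

theorem cast_p_ne_zero {i : ℕ} (hi : i + 1 ≤ m) [CharP K (p i)] : (p (i + 1) : K) ≠ 0 := fun h0 =>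
  h.ne_prime i hi ((Nat.prime_dvd_prime_iff_eq (h.prime i (Nat.le_of_succ_le hi)) (h.prime _ hi)).mp
    ((CharP.cast_eq_zero_iff K (p i) _).mp h0)).symm

theorem stage_sec (hσ : σ ^ r = 1) (hcop : ¬ r ∣ Nat.card G) {i : ℕ} (hi : i + 2 ≤ m) [CharP K (p i)] :
    Stage (secAut h (i + 1)) (secRep h hi).range r (p (i + 1)) (p (i + 2)) (lowRep h K (Nat.le_of_succ_le hi))
      (lowS h K i) where
  isPGroup := sec_isPGroup h (Nat.le_of_succ_le hi)
  cls := sec_cls h (Nat.le_of_succ_le hi)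
  pow := sec_pow_center h (Nat.le_of_succ_le hi)
  pow_comm := sec_pow_comm h (Nat.le_of_succ_le hi)
  ne_r := prime_ne_r h hcop (Nat.le_of_succ_le hi)
  theta := secAut_pow h hσ _
  rK := cast_r_ne_zero h K hcop (by omega)
  qK := cast_p_ne_zero h K (Nat.le_of_succ_le hi)
  inj := lowRep_injective h K (Nat.le_of_succ_le hi)
  powS := lowS_pow h K hσ i
  comp := lowRep_comp h K (Nat.le_of_succ_le hi)
  ops_ne := h.ne_prime (i + 1) hi
  ops_ne_r := prime_ne_r h hcop hi
  ops_pgroup := secRep_range_isPGroup h hi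
  ops_inv := conj_range_mem _ _ _ (secRep_equiv h hi)
  ops_center := fun hnab _ ht _ hz => sec_center_fixed h hi hnab ht hz
  ops_cls := secRep_cls h hi
  lift := by
    rintro _ ⟨y, rfl⟩
    obtain ⟨x, rfl⟩ := QuotientGroup.mk_surjective y
    refine ⟨biRep (p i) (Mq (Sec T i)) K (toM (secAct T i ⟨x, mem_secNorm h (by omega) hi x.2⟩)),
      biRep_act_injective h K _, fun a => ?_⟩
    show biRep (p i) (Mq (Sec T i)) K (toM (secAct T i _)) *
        biRep (p i) (Mq (Sec T i)) K (toM (secRep h (Nat.le_of_succ_le hi) a)) =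
      biRep (p i) (Mq (Sec T i)) K (toM (secRep h (Nat.le_of_succ_le hi) (secRep h hi (QuotientGroup.mk x) a))) *
        biRep (p i) (Mq (Sec T i)) K (toM (secAct T i _))
    rw [← map_mul, ← map_mul, ← map_mul, ← map_mul,
      secRep_conj h (Nat.le_of_succ_le hi) (Nat.le_succ (i + 1)) hi x.2 a, secRep_mk]

end H1.Turull
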