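import Cfsg.Agent.H1.Turull.Step

/-!
The beginning of the descent: fixed vectors moved by the displacements, and automorphisms trivial on
the fixed vectors.
-/

set_option autoImplicit false
set_option linter.style.haveILetI false

namespace H1.Turull

open Module Subgroup
open H1.Shult

universe u v w

variable {Q : Type u} [Group Q] [Finite Q] {K : Type v} [Field K] {V : Type w} [AddCommGroup V] [Module K V]

/-- The orbit sum of an eigenvector with a moved character is not fixed. -/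
theorem moved_of_orbit {r : ℕ} [Fact r.Prime] (θ : MulAut Q) (hθ : θ ^ r = 1) (ρ : Q →* Module.End K V)
    (S : Module.End K V) (hS : S ^ r = 1) (hcomp : ∀ a, S * ρ a = ρ (θ a) * S) (B : Subgroup Q)
    (hBθ : ∀ b ∈ B, θ b ∈ B) (χ : Q → K) {v : V} (hv : v ≠ 0) (hχ : ∀ b ∈ B, ρ b v = χ b • v)
    (hχθ : ∃ b ∈ B, χ (θ b) ≠ χ b) : ∃ x, ∃ w : V, S w = w ∧ ρ x w ≠ w := by
  classical
  have hr : r.Prime := Fact.out
  by_contra hno
  push Not at hno
  let θB : MulAut B := H28.subAut θ B hBθ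
  have hθB : θB ^ r = 1 := MulEquiv.ext fun a => Subtype.ext (by rw [H28.subAut_pow_coe, hθ]; rfl)
  let ρB : B →* Module.End K V := ρ.comp B.subtype
  have hcB : ∀ a, S * ρB a = ρB (θB a) * S := fun a => hcomp a
  obtain ⟨-, hm⟩ := eigen_mul ρB hv (χ := fun a : B => χ a) fun a => hχ a a.2
  let w := tr S r v
  have hw : ∀ b : B, ρB b w = w := fun b => hno b w (apply_tr hS v)
  obtain ⟨b0, hb0, hne⟩ := hχθ
  have hχ1 : ∀ b : B, χ b = 1 := by
    intro b
    let tw : ℕ → B → K := fun k a => χ (((θB ^ k)⁻¹ : MulAut B) a : B)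
    have htw : ∀ k a, ρB a ((S ^ k) v) = tw k a • (S ^ k) v := by
      intro k a
      conv_lhs => rw [show a = (θB ^ k) (((θB ^ k)⁻¹ : MulAut B) a) from (MulAut.apply_inv_self _ _ _).symm]
      rw [← Module.End.mul_apply, ← pow_compat ρB θB S hcB, Module.End.mul_apply]
      exact (congrArg (S ^ k) (hχ _ (SetLike.coe_mem _))).trans (map_smul _ _ _)
    have hsum : ∑ k ∈ Finset.range r, (tw k b - 1) • (S ^ k) v = 0 := by
      have h1 := hw b
      rw [show w = ∑ k ∈ Finset.range r, (S ^ k) v from tr_apply S r v, map_sum] at h1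
      rw [Finset.sum_congr rfl fun k _ => (sub_smul (tw k b) 1 ((S ^ k) v)).trans (by rw [one_smul, ← htw]),
        Finset.sum_sub_distrib, h1, sub_self]
    have hinj : ∀ i j, i < j → j < r → tw i ≠ tw j := by
      intro i j hij hj h
      have hd : ∀ a : B, χ ((θB ^ (j - i)) a : B) = χ a := by
        intro a
        have := congrFun h ((θB ^ j) a)
        simp only [tw, MulAut.inv_apply_self] at this
        rw [← this, show (θB ^ j) a = (θB ^ i) ((θB ^ (j - i)) a) by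
          rw [← MulAut.mul_apply, ← pow_add, Nat.add_sub_cancel' hij.le], MulAut.inv_apply_self]
      have hiter : ∀ (s : ℕ) (a : B), χ ((θB ^ ((j - i) * s)) a : B) = χ a := by
        intro s
        induction s with
        | zero => intro a; rfl
        | succ s ih => intro a; rw [Nat.mul_succ, pow_add, MulAut.mul_apply, ih, hd]
      obtain ⟨t, -, ht⟩ := Nat.exists_mul_mod_eq_one_of_coprime
        (hr.coprime_iff_not_dvd.mpr (Nat.not_dvd_of_pos_of_lt (Nat.sub_pos_of_lt hij) (by omega))).symm hr.one_lt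
      have := hiter t ⟨b0, hb0⟩
      rw [← Nat.mod_add_div ((j - i) * t) r, ht, pow_add, pow_one, pow_mul, hθB, one_pow, mul_one] at this
      exact hne this
    have h0 := eigen_sum_eq_zero (fun a => ρB a) (Finset.range r) (fun k => (tw k b - 1) • (S ^ k) v) tw
      (fun i hi j hj h => by
        rcases lt_trichotomy i j with hl | hl | hl
        · exact absurd h (hinj i j hl (Finset.mem_range.mp hj))
        · exact hl
        · exact absurd h.symm (hinj j i hl (Finset.mem_range.mp hi)))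
      (fun k _ a => by rw [map_smul, htw, smul_comm]) hsum 0 (Finset.mem_range.mpr hr.pos)
    have h2 : χ (b : Q) - 1 = 0 := by
      exact (smul_eq_zero.mp h0).resolve_right (by simpa using hv)
    exact sub_eq_zero.mp h2
  exact hne ((hχ1 ⟨θ b0, hBθ b0 hb0⟩).trans (hχ1 ⟨b0, hb0⟩).symm)

/-- Commuting automorphisms preserving the form of coprime order are trivial. -/
theorem commuting_trivial {E : Type u} [CommGroup E] [Finite E] (h2 : ∀ e : E, e ^ 2 = 1) {r : ℕ} [Fact r.Prime]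
    (hr2 : r ≠ 2) {m : ℕ} (hm : r = 2 ^ m + 1) (θ φ : MulAut E) (hθ : θ ^ r = 1) (htop : disp θ = ⊤)
    (hcard : Nat.card E = 2 ^ (2 * m)) {b : E → E → K} (hb : IsForm b)
    (hbθ : ∀ x y, b (θ x) (θ y) = b x y) (hbφ : ∀ x y, b (φ x) (φ y) = b x y) (hcomm : θ * φ = φ * θ)
    {n : ℕ} (hn : φ ^ n = 1) (hnr : n.Coprime r) : φ = 1 := by
  haveI : Fact (Nat.Prime 2) := ⟨Nat.prime_two⟩
  rcases subsingleton_or_nontrivial E with hE | hE
  · exact MulEquiv.ext fun x => Subsingleton.elim _ _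
  have hfpf : ∀ x, θ x = x → x = 1 := fun x hx => fixed_disp_eq_one h2
    ((Nat.coprime_primes Nat.prime_two Fact.out).mpr (Ne.symm hr2)) θ hθ (htop ▸ mem_top x) hx
  have h := pow_eq_one_of_form h2 θ φ hθ (k := m) (hm ▸ dvd_rfl) hb hbθ hbφ
    (fun U hU => irreducible_of_card θ hθ hfpf hr2 (Or.inl hm.symm) hcard U hU) hcomm
  rw [← hm] at h
  have := pow_gcd_eq_one.mpr ⟨hn, h⟩
  rwa [hnr, pow_one] at this

theorem disp_radAut_top {ψ : Q → K} (hψ : IsCentralChar ψ) (hcls : ∀ a b : Q, com a b ∈ center Q)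
    (θ : MulAut Q) (hψθ : ∀ z ∈ center Q, ψ (θ z) = ψ z) (htop : disp θ = ⊤) :
    disp (radAut hψ hcls θ hψθ) = ⊤ := by
  rw [disp_radAut, htop, Subgroup.map_top_of_surjective _ (QuotientGroup.mk'_surjective _)]

variable [IsAlgClosed K] [FiniteDimensional K V]
  {q : ℕ} [Fact q.Prime] (hQ : IsPGroup q Q) (hcls : ∀ a b : Q, com a b ∈ center Q)
  (hpow : ∀ a : Q, a ^ q ∈ center Q) {r : ℕ} [Fact r.Prime] (hqr : q ≠ r) (θ : MulAut Q) (hθ : θ ^ r = 1)
  (htop : disp θ = ⊤) (hrK : (r : K) ≠ 0) (hqK : (q : K) ≠ 0) (ρ : Q →* Module.End K V)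
  (hρ : Function.Injective ρ) (S : Module.End K V) (hS : S ^ r = 1) (hcomp : ∀ a, S * ρ a = ρ (θ a) * S)

include hQ hcls hpow hqr hθ htop hrK hqK hρ hS hcomp in
/-- A fixed vector moved by the group. -/
theorem moved_fixed (hne : ∃ a : Q, a ≠ 1) {l : ℕ} [Fact l.Prime] (hlq : l ≠ q) (hlr : l ≠ r)
    (hU : (∀ a b : Q, a * b = b * a) ∨ ∃ U : Subgroup (MulAut Q), IsPGroup l U ∧ (∀ u ∈ U, θ * u = u * θ) ∧
      (∀ u ∈ U, ∀ z ∈ center Q, u z = z) ∧ (⊤ : Subgroup Q) = closure {x | ∃ a, ∃ u ∈ U, x = a⁻¹ * u a}) :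
    ∃ x, ∃ w : V, S w = w ∧ ρ x w ≠ w := by
  classical
  by_cases hab : ∀ a b : Q, a * b = b * a
  · obtain ⟨a, ha⟩ := hne
    obtain ⟨v, hv, χ, hχ, hχne⟩ := exists_eigen_ne hQ hqK ρ (fun a b => by rw [← map_mul, ← map_mul, hab]) a
      (fun h => ha (hρ (h.trans (map_one ρ).symm)))
    obtain ⟨h1, hm⟩ := eigen_mul ρ hv hχ
    refine moved_of_orbit θ hθ ρ S hS hcomp ⊤ (fun _ _ => trivial) χ hv (fun b _ => hχ b) ?_
    by_contra hfix
    push Not at hfix
    have hker : disp θ ≤ ({ toFun := χ, map_one' := h1, map_mul' := hm } : Q →* K).ker := by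
      rw [disp, closure_le]
      rintro _ ⟨b, rfl⟩
      show χ (b⁻¹ * θ b) = 1
      rw [hm, hfix b trivial, ← hm, inv_mul_cancel, h1]
    exact hχne (hker (htop ▸ mem_top a))
  obtain ⟨U, hUl, hUθ, hUZ, hUgen⟩ := hU.resolve_left hab
  push Not at hab
  obtain ⟨a, b, hab⟩ := hab
  have hcne : com a b ≠ 1 := fun h => hab (by rw [com, mul_inv_eq_one, mul_inv_eq_iff_eq_mul] at h; exact h)
  let ρZ : center Q →* Module.End K V := ρ.comp (center Q).subtype
  obtain ⟨v, hv, χ, hχ, hχne⟩ := exists_eigen_ne (hQ.to_subgroup (center Q)) hqK ρZ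
    (fun x y => by
      show ρ (x : Q) * ρ y = ρ y * ρ x
      rw [← map_mul, ← map_mul, (mem_center_iff.mp x.2 y).symm]) ⟨_, hcls a b⟩
    (fun h => hcne (hρ (h.trans (map_one ρ).symm)))
  obtain ⟨hχ1, hχm⟩ := eigen_mul ρZ hv hχ
  let ψ : Q → K := fun x => if h : x ∈ center Q then χ ⟨x, h⟩ else 1
  have hψc : ∀ (x : Q) (h : x ∈ center Q), ψ x = χ ⟨x, h⟩ := fun x h => dif_pos h
  have hψ : IsCentralChar ψ := ⟨(hψc 1 (one_mem _)).trans hχ1, fun x hx y hy => by
    rw [hψc _ (mul_mem hx hy), hψc x hx, hψc y hy]; exact hχm ⟨x, hx⟩ ⟨y, hy⟩⟩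
  have hψab : ψ (com a b) ≠ 1 := by rw [hψc _ (hcls a b)]; exact hχne
  have hvb : v ∈ block ρ ψ := fun z hz => by rw [hψc z hz]; exact hχ ⟨z, hz⟩
  by_cases hψθ : ∀ z ∈ center Q, ψ (θ z) = ψ z
  swap
  · push Not at hψθ
    exact moved_of_orbit θ hθ ρ S hS hcomp (center Q) (fun z hz => apply_center_mem θ hz) ψ hv hvb hψθ
  by_cases hw : ∃ w ∈ block ρ ψ, w ≠ 0 ∧ S w = w
  · obtain ⟨w, hw, hw0, hSw⟩ := hw
    refine ⟨com a b, w, hSw, fun h => hψab (smul_left_injective K hw0 ?_)⟩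
    show ψ (com a b) • w = (1 : K) • w
    rw [← hw _ (hcls a b), h, one_smul]
  exfalso
  push Not at hw
  have hX : ¬ disp θ ≤ rad hψ hcls := fun h => hψab (h (htop ▸ mem_top a) b)
  obtain ⟨hq2, m, hm, hr2, hcard⟩ := exceptional_disp hQ hcls hpow hqr θ hθ hrK ρ S hS hcomp hψ hψθ (block ρ ψ)
    ((Submodule.ne_bot_iff _).mpr ⟨v, hvb, hv⟩) (fun w hw => block_S_mem θ ρ ψ S hcomp hψθ hw)
    (fun x _ w hw => block_apply_mem ρ ψ x hw) le_rfl (fun w hwb hSw => by_contra fun h => hw w hwb h hSw) hX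
  subst hq2
  have htopE := disp_radAut_top hψ hcls θ hψθ htop
  rw [htopE, Subgroup.card_top] at hcard
  refine hψab ((?_ : (⊤ : Subgroup Q) ≤ rad hψ hcls) (mem_top a) b)
  rw [hUgen, closure_le]
  rintro _ ⟨x, u, hu, rfl⟩
  have hψu : ∀ z ∈ center Q, ψ (u z) = ψ z := fun z hz => by rw [hUZ u hu z hz]
  obtain ⟨e, he⟩ := hUl ⟨u, hu⟩
  have h1 := commuting_trivial (radQuot_pow hψ hcls hpow) hr2 hm (radAut hψ hcls θ hψθ) (radAut hψ hcls u hψu)
    (radAut_pow hψ hcls θ hψθ hθ) htopE hcard (radForm_isForm hψ hcls) (radForm_apply hψ hcls θ hψθ)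
    (radForm_apply hψ hcls u hψu)
    (MulEquiv.ext fun y => by
      obtain ⟨y, rfl⟩ := QuotientGroup.mk_surjective y
      exact congrArg QuotientGroup.mk (congrArg (fun f : MulAut Q => f y) (hUθ u hu)))
    (radAut_pow hψ hcls u hψu (n := l ^ e) (congrArg Subtype.val he))
    (((Nat.coprime_primes Fact.out Fact.out).mpr hlr).pow_left e)
  have h2 := congrArg (fun f : MulAut (Q ⧸ rad hψ hcls) => f (QuotientGroup.mk x)) h1
  exact QuotientGroup.eq.mp h2.symm

omit [FiniteDimensional K V] [IsAlgClosed K] in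
include hθ hcomp in
/-- An operator trivial on the fixed vectors is trivial on the blocks of moved characters. -/
theorem moved_block_trivial (g : MulAut Q) (hgZ : ∀ z ∈ center Q, g z = z) (G : Module.End K V)
    (hSG : G * S = S * G) (hgρ : ∀ a, G * ρ a = ρ (g a) * G) (hS' : S ^ r = 1) (hGfix : ∀ v, S v = v → G v = v)
    {ψ : Q → K} (hψ : IsCentralChar ψ) {v : V} (hv0 : v ≠ 0) (hv : v ∈ block ρ ψ)
    (hψθ : ∃ z ∈ center Q, ψ (θ z) ≠ ψ z) (a : Q) : a⁻¹ * g a ∈ rad hψ hcls := by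
  have hGw : ∀ w ∈ block ρ ψ, G w = w := by
    intro w hw
    rw [← sub_eq_zero]
    obtain ⟨z, hz, hne⟩ := hψθ
    refine orbit_zero (A := center Q) (fun x => ρ (x : Q)) (H28.subAut θ (center Q) fun _ h => apply_center_mem θ h)
      (r := r) Fact.out (MulEquiv.ext fun x => Subtype.ext (by rw [H28.subAut_pow_coe, hθ]; rfl)) S
      (fun x => hcomp x) _ (fun x => ψ x) (fun x => ?_) ⟨⟨z, hz⟩, hne⟩ ?_
    · have hGb : ρ (x : Q) (G w) = ψ x • G w := by
        conv_lhs => rw [← hgZ x x.2]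
        rw [← Module.End.mul_apply, ← hgρ, Module.End.mul_apply, hw x x.2, map_smul]
      rw [map_sub, hGb, hw x x.2, smul_sub]
    · rw [map_sub, ← Module.End.mul_apply (tr S r) G, ← commute_tr hSG, Module.End.mul_apply,
        hGfix _ (apply_tr hS' w), sub_self]
  have hd : ∀ w ∈ block ρ ψ, ρ (a⁻¹ * g a) w = w := by
    intro w hw
    have h1 : ρ (g a) w = ρ a w := by
      conv_lhs => rw [← hGw w hw]
      rw [← Module.End.mul_apply, ← hgρ, Module.End.mul_apply, hGw _ (block_apply_mem ρ ψ a hw)]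
    rw [map_mul, Module.End.mul_apply, h1, ← Module.End.mul_apply, ← map_mul, inv_mul_cancel, map_one,
      Module.End.one_apply]
  intro y
  refine smul_left_injective K hv0 ?_
  have h1 := block_com ρ ψ (hcls (a⁻¹ * g a) y) hv
  rw [hd v hv, hd _ (block_apply_mem ρ ψ y hv)] at h1
  have h2 := congrArg (ρ y⁻¹) h1
  rw [map_smul, ← Module.End.mul_apply, ← map_mul, inv_mul_cancel, map_one, Module.End.one_apply] at h2
  exact h2.symm.trans (one_smul K v).symm

end H1.Turull
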