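import Cfsg.Agent.H1.Turull.Strong

/-!
The step down the tower.
-/

set_option autoImplicit false
set_option linter.style.haveILetI false

namespace H1.Turull

open Module Subgroup
open H1.Shult

universe u v w

variable {Q : Type u} [Group Q] [Finite Q]

/-- The automorphism of the quotient by the radical. -/
noncomputable def radAut {K : Type v} [Field K] {ψ : Q → K} (hψ : IsCentralChar ψ)
    (hcls : ∀ a b : Q, com a b ∈ center Q) (φ : MulAut Q) (hφ : ∀ z ∈ center Q, ψ (φ z) = ψ z) :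
    MulAut (Q ⧸ rad hψ hcls) :=
  H28.quotAut φ (rad hψ hcls) fun _ h => rad_apply_mem hψ hcls φ hφ h

theorem radAut_mk {K : Type v} [Field K] {ψ : Q → K} (hψ : IsCentralChar ψ)
    (hcls : ∀ a b : Q, com a b ∈ center Q) (φ : MulAut Q) (hφ : ∀ z ∈ center Q, ψ (φ z) = ψ z) (a : Q) :
    radAut hψ hcls φ hφ (QuotientGroup.mk a) = QuotientGroup.mk (φ a) := rfl

theorem apply_center_mem (φ : MulAut Q) {z : Q} (hz : z ∈ center Q) : φ z ∈ center Q :=
  Subgroup.characteristic_iff_le_comap.mp inferInstance φ hz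

theorem radAut_pow {K : Type v} [Field K] {ψ : Q → K} (hψ : IsCentralChar ψ)
    (hcls : ∀ a b : Q, com a b ∈ center Q) (φ : MulAut Q) (hφ : ∀ z ∈ center Q, ψ (φ z) = ψ z) {n : ℕ}
    (hn : φ ^ n = 1) : radAut hψ hcls φ hφ ^ n = 1 := MulEquiv.ext fun y => by
  obtain ⟨a, rfl⟩ := QuotientGroup.mk_surjective y
  rw [radAut, H28.quotAut_pow_mk, hn]
  rfl

theorem disp_radAut {K : Type v} [Field K] {ψ : Q → K} (hψ : IsCentralChar ψ)
    (hcls : ∀ a b : Q, com a b ∈ center Q) (φ : MulAut Q) (hφ : ∀ z ∈ center Q, ψ (φ z) = ψ z) :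
    disp (radAut hψ hcls φ hφ) = (disp φ).map (QuotientGroup.mk' (rad hψ hcls)) := by
  rw [disp, disp, MonoidHom.map_closure]
  congr 1
  ext y
  constructor
  · rintro ⟨x, rfl⟩
    obtain ⟨a, rfl⟩ := QuotientGroup.mk_surjective x
    exact ⟨_, ⟨a, rfl⟩, rfl⟩
  · rintro ⟨_, ⟨a, rfl⟩, rfl⟩
    exact ⟨QuotientGroup.mk a, rfl⟩

/-- A group of automorphisms fixing the centre acts on the quotient by the radical. -/
noncomputable def radRes {K : Type v} [Field K] {ψ : Q → K} (hψ : IsCentralChar ψ)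
    (hcls : ∀ a b : Q, com a b ∈ center Q) (R : Subgroup (MulAut Q)) (hR : ∀ t ∈ R, ∀ z ∈ center Q, t z = z) :
    R →* MulAut (Q ⧸ rad hψ hcls) :=
  H1.Gross.quotHom R.subtype (rad hψ hcls) fun t _ h =>
    rad_apply_mem hψ hcls t (fun z hz => by rw [hR t t.2 z hz]) h

/-- The exceptional prime. -/
theorem exceptional_prime {q r : ℕ} (hq : q.Prime) (hr : r.Prime) (h3 : 3 ≤ r) {j : ℕ}
    (h : (r - 1) ^ 2 = q ^ j) : q = 2 ∧ ∃ m, r = 2 ^ m + 1 ∧ (r - 1) ^ 2 = 2 ^ (2 * m) := by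
  obtain ⟨i, -, hi⟩ := (Nat.dvd_prime_pow hq).mp (h ▸ dvd_pow_self (r - 1) two_ne_zero)
  have hi0 : i ≠ 0 := fun h0 => by rw [h0, pow_zero] at hi; omega
  obtain ⟨c, hc⟩ := hr.eq_two_or_odd'.resolve_left (by omega)
  have h2 : 2 ∣ q ^ i := ⟨c, by omega⟩
  have hq2 : q = 2 := ((Nat.prime_dvd_prime_iff_eq Nat.prime_two hq).mp (Nat.prime_two.dvd_of_dvd_pow h2)).symm
  refine ⟨hq2, i, by rw [← hq2]; omega, ?_⟩
  rw [hi, hq2, ← pow_mul, mul_comm]

section

variable {q : ℕ} [Fact q.Prime] (hQ : IsPGroup q Q) (hcls : ∀ a b : Q, com a b ∈ center Q)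
  (hpow : ∀ a : Q, a ^ q ∈ center Q) {r : ℕ} [Fact r.Prime] (hqr : q ≠ r) (θ : MulAut Q) (hθ : θ ^ r = 1)
  {K : Type v} [Field K] [IsAlgClosed K] (hrK : (r : K) ≠ 0) (hqK : (q : K) ≠ 0)
  {V : Type w} [AddCommGroup V] [Module K V] [FiniteDimensional K V] (ρ : Q →* Module.End K V)
  (hρ : Function.Injective ρ) (S : Module.End K V) (hS : S ^ r = 1) (hcomp : ∀ a, S * ρ a = ρ (θ a) * S)

include hQ hqr in
theorem not_dvd_card : ¬ r ∣ Nat.card Q := by
  obtain ⟨j, hj⟩ := IsPGroup.iff_card.mp hQ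
  rw [hj]
  exact fun h => hqr ((Nat.prime_dvd_prime_iff_eq Fact.out Fact.out).mp
    ((Fact.out : r.Prime).dvd_of_dvd_pow h)).symm

include hQ hpow hqr hθ hrK hS hcomp in
theorem exceptional_disp {ψ : Q → K} (hψ : IsCentralChar ψ) (hψθ : ∀ z ∈ center Q, ψ (θ z) = ψ z)
    (W : Submodule K V) (hW0 : W ≠ ⊥) (hWS : ∀ w ∈ W, S w ∈ W)
    (hWρ : ∀ a ∈ disp θ ⊔ center Q, ∀ w ∈ W, ρ a w ∈ W) (hWb : W ≤ block ρ ψ)
    (hWfix : ∀ w ∈ W, S w = w → w = 0) (hX : ¬ disp θ ≤ rad hψ hcls) :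
    q = 2 ∧ ∃ m, r = 2 ^ m + 1 ∧ r ≠ 2 ∧ Nat.card (disp (radAut hψ hcls θ hψθ)) = 2 ^ (2 * m) := by
  classical
  have hr : r.Prime := Fact.out
  have hq : q.Prime := Fact.out
  haveI : NeZero (r : K) := ⟨hrK⟩
  obtain ⟨η, hη⟩ := HasEnoughRootsOfUnity.exists_primitiveRoot K r
  -- a complement to the radical
  letI : CommGroup (Q ⧸ center Q) := { (inferInstance : Group (Q ⧸ center Q)) with
    mul_comm := fun x y => by
      obtain ⟨a, rfl⟩ := QuotientGroup.mk_surjective x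
      obtain ⟨b, rfl⟩ := QuotientGroup.mk_surjective y
      refine (QuotientGroup.eq.mpr ?_ : (QuotientGroup.mk (a * b) : Q ⧸ center Q) = QuotientGroup.mk (b * a))
      rw [show (a * b)⁻¹ * (b * a) = com b⁻¹ a⁻¹ by simp [com, mul_assoc]]
      exact hcls _ _ }
  let θ0 : MulAut (Q ⧸ center Q) := H28.quotAut θ (center Q) fun _ h => apply_center_mem θ h
  obtain ⟨Yb, hYX, hYθ, hYB, hXY⟩ := exists_complement (q := q) (fun x => by
      obtain ⟨a, rfl⟩ := QuotientGroup.mk_surjective x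
      exact (QuotientGroup.eq_one_iff _).mpr (hpow a))
    ((Nat.coprime_primes hr hq).mpr (Ne.symm hqr)) θ0
    (MulEquiv.ext fun y => by
      obtain ⟨a, rfl⟩ := QuotientGroup.mk_surjective y
      rw [H28.quotAut_pow_mk, hθ]; rfl)
    ((rad hψ hcls).map (QuotientGroup.mk' (center Q))) ((disp θ).map (QuotientGroup.mk' (center Q)))
    (by rintro _ ⟨a, ha, rfl⟩; exact ⟨θ a, rad_apply_mem hψ hcls θ hψθ ha, rfl⟩)
    (by rintro _ ⟨a, ha, rfl⟩; exact ⟨θ a, disp_apply_mem θ ha, rfl⟩)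
  let Y := Yb.comap (QuotientGroup.mk' (center Q))
  have hYdisp : Y ≤ disp θ ⊔ center Q := by
    intro y hy
    have h : QuotientGroup.mk' (center Q) y ∈ (disp θ).map (QuotientGroup.mk' (center Q)) := hYX hy
    rw [← Subgroup.mem_comap, Subgroup.comap_map_eq, QuotientGroup.ker_mk'] at h
    exact h
  have hXY' : disp θ ≤ Y ⊔ rad hψ hcls := by
    intro x hx
    obtain ⟨u, hu, b, ⟨-, a, ha, hab⟩, huab⟩ := Subgroup.mem_sup.mp (hXY (Subgroup.mem_map_of_mem _ hx))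
    rw [show x = (x * a⁻¹) * a by group]
    refine mul_mem (Subgroup.mem_sup_left ?_) (Subgroup.mem_sup_right ha)
    show QuotientGroup.mk' (center Q) (x * a⁻¹) ∈ Yb
    rw [map_mul, map_inv, ← huab, hab, mul_inv_cancel_right]
    exact hu
  have hYrad : Y ⊓ rad hψ hcls ≤ center Q := fun y hy => by
    have h : QuotientGroup.mk' (center Q) y ∈ Yb ⊓ (rad hψ hcls).map (QuotientGroup.mk' (center Q)) :=
      ⟨hy.1, y, hy.2, rfl⟩
    rw [hYB, Subgroup.mem_bot] at h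
    exact (QuotientGroup.eq_one_iff y).mp h
  set θE := radAut hψ hcls θ hψθ with hθE
  have hθEr : θE ^ r = 1 := radAut_pow hψ hcls θ hψθ hθ
  have hdisp := disp_radAut hψ hcls θ hψθ
  obtain ⟨h3, hcard, -⟩ := exceptional hcls hr.pos hrK hη θ hψ hψθ ρ S hcomp W hW0 hWS Y
    (fun a ha w hw => hWρ a (hYdisp ha) w hw) (fun z hz w hw => hWb hw z hz) hWfix
    (fun w _ => by rw [hS]; rfl) (fun a _ => by rw [hθ]; rfl) (fun y hy => hYθ _ hy) hYrad
    (fun hle => hX (hXY'.trans (sup_le (hle.trans (center_le_rad hψ hcls)) le_rfl)))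
    (fun k hk0 hkr a haY ha => by
      have hmem : (QuotientGroup.mk a : Q ⧸ rad hψ hcls) ∈ disp θE := by
        rw [hdisp]
        obtain ⟨x, hx, z, hz, hxz⟩ := Subgroup.mem_sup_of_normal_right.mp (hYdisp haY)
        refine ⟨x, hx, (QuotientGroup.eq.mpr ?_).symm⟩
        rw [← hxz, mul_inv_rev, mul_assoc, inv_mul_cancel, mul_one]
        exact inv_mem (center_le_rad hψ hcls hz)
      obtain ⟨t, -, ht⟩ := Nat.exists_mul_mod_eq_one_of_coprime
        (hr.coprime_iff_not_dvd.mpr (Nat.not_dvd_of_pos_of_lt hk0 hkr)).symm hr.one_lt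
      have hfix : (θE ^ k) (QuotientGroup.mk a) = QuotientGroup.mk a := by
        rw [hθE, radAut, H28.quotAut_pow_mk]
        exact (QuotientGroup.eq.mpr ha).symm
      have hiter : ∀ i : ℕ, (θE ^ (k * i)) (QuotientGroup.mk a) = QuotientGroup.mk a := by
        intro i
        induction i with
        | zero => rfl
        | succ i ih => rw [Nat.mul_succ, pow_add, MulAut.mul_apply, hfix, ih]
      have hone := hiter t
      rw [← Nat.mod_add_div (k * t) r, ht, pow_add, pow_one, pow_mul, hθEr, one_pow, mul_one] at hone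
      exact (QuotientGroup.eq_one_iff a).mp (fixed_disp_eq_one (radQuot_pow hψ hcls hpow)
        ((Nat.coprime_primes hq hr).mpr hqr) θE hθEr hmem hone))
    ⟨1, one_pos, hr.one_lt, fun a => hXY' (by rw [pow_one]; exact disp_mem θ a)⟩
  let f : Y →* Q ⧸ rad hψ hcls := (QuotientGroup.mk' _).comp Y.subtype
  have hrange : f.range = disp θE := by
    rw [hdisp]
    apply le_antisymm
    · rintro _ ⟨y, rfl⟩
      obtain ⟨x, hx, z, hz, hxz⟩ := Subgroup.mem_sup_of_normal_right.mp (hYdisp y.2)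
      refine ⟨x, hx, (QuotientGroup.eq.mpr ?_).symm⟩
      show ((y : Q))⁻¹ * x ∈ _
      rw [← hxz, mul_inv_rev, mul_assoc, inv_mul_cancel, mul_one]
      exact inv_mem (center_le_rad hψ hcls hz)
    · rintro _ ⟨x, hx, rfl⟩
      obtain ⟨y, hy, d, hd, hyd⟩ := Subgroup.mem_sup_of_normal_right.mp (hXY' hx)
      exact ⟨⟨y, hy⟩, QuotientGroup.eq.mpr (by show y⁻¹ * x ∈ _; rw [← hyd, inv_mul_cancel_left]; exact hd)⟩
  have hker : f.ker = (rad hψ hcls).subgroupOf Y := by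
    ext y
    exact QuotientGroup.eq_one_iff (y : Q)
  have hc2 : Nat.card (disp θE) = (r - 1) ^ 2 := by
    rw [← hrange, ← Nat.card_congr (QuotientGroup.quotientKerEquivRange f).toEquiv, hker, hcard]
  obtain ⟨j, hj⟩ := IsPGroup.iff_card.mp ((hQ.to_quotient (rad hψ hcls)).to_subgroup (disp θE))
  obtain ⟨hq2, m, hm, hm2⟩ := exceptional_prime hq hr h3 (hc2.symm.trans hj)
  exact ⟨hq2, m, hm, by omega, hc2.trans hm2⟩

include hQ hcls hpow hqr hθ hrK hqK hρ hS hcomp in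
/-- The step for a group of class two. -/
theorem step_nonabelian {p : ℕ} [Fact p.Prime] (hpq : p ≠ q) (hpr : p ≠ r) (R : Subgroup (MulAut Q))
    (hR : IsPGroup p R) (hRθ : ∀ t ∈ R, θ * t * θ⁻¹ ∈ R) (hRZ : ∀ t ∈ R, ∀ z ∈ center Q, t z = z)
    {c : Q} (hc : θ c = c) (hmove : ∃ t ∈ rdisp θ R, t c ≠ c) : Strong θ r ρ S c := by
  classical
  have hr : r.Prime := Fact.out
  have hq : q.Prime := Fact.out
  haveI : Finite (MulAut Q) := Finite.of_injective (fun g : MulAut Q => (g : Q → Q)) DFunLike.coe_injective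
  obtain ⟨t, htT, ht⟩ := hmove
  have htR := rdisp_le hRθ htT
  set d := c⁻¹ * t c with hd
  have hdZ : d ∉ center Q := by
    intro hdc
    obtain ⟨e, he⟩ := hR ⟨t, htR⟩
    obtain ⟨j, hj⟩ := IsPGroup.iff_card.mp hQ
    exact ht (H1.Gross.eq_of_disp_fixed t (congrArg Subtype.val he)
      (hj ▸ ((Nat.coprime_primes Fact.out hq).mpr hpq).pow e j) c (hRZ t htR d hdc))
  obtain ⟨y, hy⟩ : ∃ y, com d y ≠ 1 := by
    by_contra h
    push Not at h
    apply hdZ
    rw [mem_center_iff]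
    intro y
    have := h y
    rw [com, mul_inv_eq_one, mul_inv_eq_iff_eq_mul] at this
    exact this.symm
  let ρZ : center Q →* Module.End K V := ρ.comp (center Q).subtype
  obtain ⟨v, hv, χ, hχ, hχne⟩ := exists_eigen_ne (hQ.to_subgroup (center Q)) hqK ρZ
    (fun a b => by
      show ρ (a : Q) * ρ b = ρ b * ρ a
      rw [← map_mul, ← map_mul, (mem_center_iff.mp a.2 b).symm]) ⟨_, hcls d y⟩
    (fun h => hy (hρ (h.trans (map_one ρ).symm)))
  obtain ⟨hχ1, hχm⟩ := eigen_mul ρZ hv hχ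
  let ψ : Q → K := fun a => if h : a ∈ center Q then χ ⟨a, h⟩ else 1
  have hψc : ∀ (a : Q) (h : a ∈ center Q), ψ a = χ ⟨a, h⟩ := fun a h => dif_pos h
  have hψ : IsCentralChar ψ := ⟨(hψc 1 (one_mem _)).trans hχ1, fun a ha b hb => by
    rw [hψc _ (mul_mem ha hb), hψc a ha, hψc b hb]; exact hχm ⟨a, ha⟩ ⟨b, hb⟩⟩
  have hψt : ∀ g ∈ R, ∀ z ∈ center Q, ψ (g z) = ψ z := fun g hg z hz => by rw [hRZ g hg z hz]
  have hψd : ψ (com d y) ≠ 1 := by rw [hψc _ (hcls d y)]; exact hχne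
  have hcrad : c ∉ rad hψ hcls := fun h => hψd ((mul_mem (inv_mem h)
    (rad_apply_mem hψ hcls t (hψt t htR) h) : d ∈ rad hψ hcls) y)
  have hvb : v ∈ block ρ ψ := fun z hz => by rw [hψc z hz]; exact hχ ⟨z, hz⟩
  obtain ⟨w, hw, hcw⟩ : ∃ w ∈ block ρ ψ, ρ c w ≠ w := by
    by_contra h
    push Not at h
    refine hcrad fun a => smul_left_injective K hv ?_
    have h2 := block_com ρ ψ (hcls c a) hvb
    rw [h v hvb, h _ (block_apply_mem ρ ψ a hvb)] at h2
    have h3 := congrArg (ρ a⁻¹) h2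
    rw [map_smul, ← Module.End.mul_apply, ← map_mul, inv_mul_cancel, map_one, Module.End.one_apply] at h3
    exact h3.symm.trans (one_smul K v).symm
  have hcomm : ρ c * S = S * ρ c := by rw [hcomp, hc]
  by_cases hψθ : ∀ z ∈ center Q, ψ (θ z) = ψ z
  swap
  · push Not at hψθ
    exact strong_of_orbit θ ρ S hθ hcomp (center Q) (fun b hb => apply_center_mem θ hb) ψ hw hψθ hc
      (fun b hb => (mem_center_iff.mp hb c).symm) hcw
  have hθE : radAut hψ hcls θ hψθ ^ r = 1 := radAut_pow hψ hcls θ hψθ hθ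
  let φ := radRes hψ hcls R hRZ
  have hφ : ∀ g : R, ∀ x : Q, φ g (QuotientGroup.mk x) = QuotientGroup.mk ((g : MulAut Q) x) :=
    fun g x => rfl
  let T' : Subgroup (MulAut (Q ⧸ rad hψ hcls)) := ((rdisp θ R).subgroupOf R).map φ
  have hgen : T' ≤ closure {u | ∃ s ∈ T',
      u = s⁻¹ * (radAut hψ hcls θ hψθ * s * (radAut hψ hcls θ hψθ)⁻¹)} := by
    have hconj : ∀ (s : MulAut Q) (hs : s ∈ R),
        φ ⟨θ * s * θ⁻¹, hRθ s hs⟩ = radAut hψ hcls θ hψθ * φ ⟨s, hs⟩ * (radAut hψ hcls θ hψθ)⁻¹ := by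
      intro s hs
      rw [eq_mul_inv_iff_mul_eq]
      refine MulEquiv.ext fun x => ?_
      obtain ⟨a, rfl⟩ := QuotientGroup.mk_surjective x
      show (QuotientGroup.mk ((θ * s * θ⁻¹) (θ a)) : Q ⧸ rad hψ hcls) = QuotientGroup.mk (θ (s a))
      rw [MulAut.mul_apply, MulAut.mul_apply, MulAut.inv_apply_self]
    rintro _ ⟨⟨g, hgR⟩, hg, rfl⟩
    have hrR : ¬ r ∣ Nat.card R := not_dvd_card hR hpr
    refine closure_induction (p := fun u _ => ∀ hu : u ∈ R, φ ⟨u, hu⟩ ∈ closure {u | ∃ s ∈ T',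
      u = s⁻¹ * (radAut hψ hcls θ hψθ * s * (radAut hψ hcls θ hψθ)⁻¹)}) ?_ ?_ ?_ ?_
      (rdisp_gen hθ hRθ hrR hg) hgR
    · rintro u ⟨s, hs, rfl⟩ hu
      refine subset_closure ⟨φ ⟨s, rdisp_le hRθ hs⟩, ⟨_, hs, rfl⟩, ?_⟩
      rw [show (⟨s⁻¹ * (θ * s * θ⁻¹), hu⟩ : R) =
        (⟨s, rdisp_le hRθ hs⟩ : R)⁻¹ * ⟨θ * s * θ⁻¹, hRθ s (rdisp_le hRθ hs)⟩ from rfl, map_mul, map_inv, hconj]
    · intro hu
      rw [show (⟨1, hu⟩ : R) = 1 from rfl, map_one]
      exact one_mem _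
    · intro a b ha hb iha ihb hu
      have ha' := rdisp_le hRθ ((closure_le _).mpr (by
        rintro _ ⟨s, hs, rfl⟩; exact mul_mem (inv_mem hs) (rdisp_conj hRθ hs)) ha)
      have hb' := rdisp_le hRθ ((closure_le _).mpr (by
        rintro _ ⟨s, hs, rfl⟩; exact mul_mem (inv_mem hs) (rdisp_conj hRθ hs)) hb)
      rw [show (⟨a * b, hu⟩ : R) = ⟨a, ha'⟩ * ⟨b, hb'⟩ from rfl, map_mul]
      exact mul_mem (iha ha') (ihb hb')
    · intro a _ iha hu
      have ha' : a ∈ R := inv_mem_iff.mp hu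
      rw [show (⟨a⁻¹, hu⟩ : R) = (⟨a, ha'⟩ : R)⁻¹ from rfl, map_inv]
      exact inv_mem (iha ha')
  have hT'ne : T' ≠ ⊥ := by
    intro h
    have h1 := congrArg (fun f : MulAut (Q ⧸ rad hψ hcls) => f (QuotientGroup.mk c))
      ((Subgroup.eq_bot_iff_forall _).mp h (φ ⟨t, htR⟩) ⟨⟨t, htR⟩, htT, rfl⟩)
    rw [hφ] at h1
    exact hψd ((QuotientGroup.eq.mp h1.symm : d ∈ rad hψ hcls) y)
  have hT'θ : ∀ s ∈ T', radAut hψ hcls θ hψθ * s * (radAut hψ hcls θ hψθ)⁻¹ ∈ T' := by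
    rintro _ ⟨⟨s, hsR⟩, hs, rfl⟩
    refine ⟨⟨θ * s * θ⁻¹, hRθ s hsR⟩, rdisp_conj hRθ hs, ?_⟩
    rw [eq_mul_inv_iff_mul_eq]
    refine MulEquiv.ext fun x => ?_
    obtain ⟨a, rfl⟩ := QuotientGroup.mk_surjective x
    show (QuotientGroup.mk ((θ * s * θ⁻¹) (θ a)) : Q ⧸ rad hψ hcls) = QuotientGroup.mk (θ (s a))
    rw [MulAut.mul_apply, MulAut.mul_apply, MulAut.inv_apply_self]
  have hX : ¬ disp θ ≤ rad hψ hcls := by
    intro hle
    have hθ1 : radAut hψ hcls θ hψθ = 1 := MulEquiv.ext fun x => by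
      obtain ⟨a, rfl⟩ := QuotientGroup.mk_surjective x
      exact (QuotientGroup.eq.mpr (hle (disp_mem θ a))).symm
    refine hT'ne (eq_bot_iff.mpr (hgen.trans ((closure_le _).mpr ?_)))
    rintro _ ⟨s, -, rfl⟩
    rw [hθ1]
    simp
  obtain ⟨z, hz, hzd, hψz⟩ : ∃ z ∈ center Q, z ∈ disp θ ∧ ψ z ≠ 1 := by
    obtain ⟨x, hx, hxr⟩ := SetLike.not_le_iff_exists.mp hX
    rw [mem_rad] at hxr
    push Not at hxr
    obtain ⟨a, ha⟩ := hxr
    refine ⟨com x a, hcls x a, ?_, ha⟩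
    rw [show com x a = x * (a * x⁻¹ * a⁻¹) by simp [com, mul_assoc]]
    exact mul_mem hx (conj_mem_disp θ a (inv_mem hx))
  by_cases hex : ∃ u ∈ block ρ ψ, S u = u ∧ ρ c u ≠ u
  · obtain ⟨u, hu, huS, huc⟩ := hex
    exact strong_of_fixed θ ρ S hrK hz hzd hψz hu huS huc
  exfalso
  push Not at hex
  set W := (block ρ ψ).map (ρ c - 1) with hW
  have hWb : W ≤ block ρ ψ := by
    rintro _ ⟨u, hu, rfl⟩
    exact (block ρ ψ).sub_mem (block_apply_mem ρ ψ c hu) hu
  obtain ⟨hq2, m, hm, hr2, hcard⟩ := exceptional_disp hQ hcls hpow hqr θ hθ hrK ρ S hS hcomp hψ hψθ W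
    (fun h => hcw (sub_eq_zero.mp ((Submodule.eq_bot_iff W).mp h _ ⟨w, hw, rfl⟩)))
    (by
      rintro _ ⟨u, hu, rfl⟩
      exact ⟨S u, block_S_mem θ ρ ψ S hcomp hψθ hu, by
        rw [LinearMap.sub_apply, LinearMap.sub_apply, map_sub, ← Module.End.mul_apply, hcomm, Module.End.mul_apply]
        rfl⟩)
    (by
      intro a ha
      rintro _ ⟨u, hu, rfl⟩
      refine ⟨ρ a u, block_apply_mem ρ ψ a hu, ?_⟩
      have hψca : ψ (com c a) = 1 := by
        obtain ⟨x, hx, z, hz, rfl⟩ := Subgroup.mem_sup_of_normal_right.mp ha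
        rw [com_mul_right hcls, hψ.mul _ (hcls _ _) _ (hcls _ _),
          show com c z = 1 by rw [com_swap, com_eq_one_of_mem_center hz, inv_one], hψ.one, mul_one]
        clear hu ha
        induction hx using closure_induction with
        | mem b hb =>
          obtain ⟨b, rfl⟩ := hb
          have h1 : ψ (com c (θ b)) = ψ (com c b) := by
            conv_lhs => rw [← hc, ← map_com']
            exact hψθ _ (hcls c b)
          have h2 : com c b * com c (b⁻¹ * θ b) = com c (θ b) := by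
            rw [← com_mul_right hcls, mul_inv_cancel_left]
          rw [← h2, hψ.mul _ (hcls _ _) _ (hcls _ _)] at h1
          exact (mul_eq_left₀ (hψ.ne_zero (hcls c b))).mp h1
        | one => rw [com_swap, com_eq_one_of_mem_center (one_mem _), inv_one, hψ.one]
        | mul b b' _ _ ih ih' => rw [com_mul_right hcls, hψ.mul _ (hcls _ _) _ (hcls _ _), ih, ih', one_mul]
        | inv b _ ih =>
          have h := hψ.mul _ (hcls c b⁻¹) _ (hcls c b)
          rw [← com_mul_right hcls, inv_mul_cancel, com_swap, com_eq_one_of_mem_center (one_mem _), inv_one,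
            hψ.one, ih, mul_one] at h
          exact h.symm
      rw [LinearMap.sub_apply, LinearMap.sub_apply, map_sub, Module.End.one_apply, Module.End.one_apply,
        block_com ρ ψ (hcls c a) hu, hψca, one_smul])
    hWb
    (by
      rintro _ ⟨u, hu, rfl⟩ hfix
      have h1 : (ρ c - 1) (tr S r u) = 0 := by
        rw [LinearMap.sub_apply, Module.End.one_apply, sub_eq_zero]
        refine hex _ ?_ (apply_tr hS u)
        rw [tr_apply]
        refine Submodule.sum_mem _ fun i hi => ?_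
        clear hi
        induction i with
        | zero => exact hu
        | succ i ih => rw [pow_succ', Module.End.mul_apply]; exact block_S_mem θ ρ ψ S hcomp hψθ ih
      rw [← Module.End.mul_apply, commute_tr (show (ρ c - 1) * S = S * (ρ c - 1) by
        rw [sub_mul, mul_sub, hcomm, one_mul, mul_one]), Module.End.mul_apply, tr_of_fixed r hfix] at h1
      exact (smul_eq_zero.mp h1).resolve_left hrK)
    hX
  subst hq2
  refine no_exceptional (radQuot_pow hψ hcls hpow) hpq hr2 hpr (radAut hψ hcls θ hψθ) hθE T'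
    ((hR.to_subgroup _).map φ) hT'θ hgen hT'ne (radForm_isForm hψ hcls) ?_ (radForm_apply hψ hcls θ hψθ) ?_ hm hcard
  · intro x x'
    have hb := radForm_isForm hψ hcls
    have h2 : radForm hψ hcls x x' * radForm hψ hcls x x' = 1 := by
      rw [← hb.mul_right, ← pow_two, radQuot_pow hψ hcls hpow, hb.one_right]
    obtain ⟨a, rfl⟩ := QuotientGroup.mk_surjective x
    obtain ⟨b, rfl⟩ := QuotientGroup.mk_surjective x'
    rw [radForm_mk] at h2 ⊢
    rw [radForm_mk, com_swap a b, hψ.inv (hcls _ _)]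
    exact eq_inv_of_mul_eq_one_left h2
  · rintro _ ⟨g, -, rfl⟩ x x'
    exact radForm_apply hψ hcls (g : MulAut Q) (hψt g g.2) x x'

end

end H1.Turull
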