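import Cfsg.Agent.H1.Turull.Basic

/-!
Two lemmas on the translates of a vector: the orbit sums of the moved translates determine the fixed one.
-/

set_option autoImplicit false
set_option linter.style.haveILetI false

namespace H1.Turull

open Module Subgroup
open H1.Shult

universe u v w

variable {K : Type v} [Field K]

/-- The commuting case on a fixed character. -/
theorem eigen_fixed_char {Q : Type u} [CommGroup Q] [Finite Q] {r : ℕ} [Fact r.Prime] (θ : MulAut Q) (hθ : θ ^ r = 1)
    (hrQ : ¬ r ∣ Nat.card Q) (A : Subgroup (MulAut Q)) (hAθ : ∀ a ∈ A, θ * a * θ⁻¹ ∈ A)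
    (hrA : ¬ r ∣ Nat.card A) (hcen : ∀ a ∈ A, θ * a * θ⁻¹ = a → ∀ a' ∈ A, a * a' = a' * a)
    (hgen : A ≤ closure {u | ∃ t ∈ A, u = t⁻¹ * (θ * t * θ⁻¹)})
    (f : Q →* Q) (hfθ : ∀ x, f (θ x) = θ (f x)) (hfA : ∀ a ∈ A, ∀ x, f (a x) = a (f x))
    (Ω : Set (Q →* K)) (hΩA : ∀ o ∈ Ω, ∀ a ∈ A, o.comp a.toMonoidHom ∈ Ω)
    (hmov : ∀ o ∈ Ω, o.comp θ.toMonoidHom ≠ o → ∀ d, θ d = d → o (f d) = 1)
    (o : Q →* K) (ho : o ∈ Ω) (hofix : o.comp θ.toMonoidHom = o) :
    ∀ a ∈ A, ∀ q, o (f (a q)) = o (f q) := by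
  classical
  have hr : r.Prime := Fact.out
  haveI : Finite (MulAut Q) := Finite.of_injective (fun g : MulAut Q => (g : Q → Q)) DFunLike.coe_injective
  let x : Q →* K := o.comp f
  have hxθ : ∀ q, x (θ q) = x q := fun q => by
    show o (f (θ q)) = o (f q)
    rw [hfθ]
    exact congrArg (fun g : Q →* K => g (f q)) hofix
  have hxpow : ∀ (k : ℕ) q, x ((θ ^ k) q) = x q := by
    intro k
    induction k with
    | zero => intro q; rfl
    | succ k ih => intro q; rw [pow_succ', MulAut.mul_apply, hxθ, ih]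
  -- a moved translate has trivial norm
  have hnorm : ∀ b ∈ A, (∃ q, x (b (θ q)) ≠ x (b q)) → ∀ d, θ d = d → x (b d) = 1 := by
    rintro b hb ⟨q, hq⟩ d hd
    show o (f (b d)) = 1
    rw [hfA b hb]
    refine hmov (o.comp b.toMonoidHom) (hΩA o ho b hb) (fun h => hq ?_) d hd
    show o (f (b (θ q))) = o (f (b q))
    rw [hfA b hb, hfA b hb, hfθ]
    exact congrArg (fun g : Q →* K => g (f q)) h
  let θA : MulAut A := H28.subAut (MulAut.conj θ) A hAθ
  have hθAr : θA ^ r = 1 := MulEquiv.ext fun a => Subtype.ext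
    ((H28.subAut_pow_coe _ _ _ _ _).trans (by rw [← map_pow, hθ, map_one]; rfl))
  let St : Subgroup A :=
    { carrier := {b | ∀ q, x ((b : MulAut Q) q) = x q}
      one_mem' := fun q => rfl
      mul_mem' := fun {b b'} hb hb' q => by
        rw [Subgroup.coe_mul, MulAut.mul_apply, hb, hb']
      inv_mem' := fun {b} hb q => by
        rw [← hb ((((b⁻¹ : A) : MulAut Q)) q), Subgroup.coe_inv, MulAut.apply_inv_self] }
  have hStθ : ∀ b ∈ St, θA b ∈ St := by
    intro b hb q
    show x (θ ((b : MulAut Q) ((θ⁻¹ : MulAut Q) q))) = x q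
    rw [hxθ, hb, ← hxθ, MulAut.apply_inv_self]
  -- a fixed translate is a translate by a fixed operator
  have hfixed : ∀ b : A, (∀ q, x ((b : MulAut Q) (θ q)) = x ((b : MulAut Q) q)) →
      ∃ d ∈ A, θ * d * θ⁻¹ = d ∧ ∀ q, x ((b : MulAut Q) q) = x (d q) := by
    intro b hb
    obtain ⟨d, hd, hdθ⟩ := exists_fixed_coset θA hθAr St hStθ
      (fun h => hrA (h.trans (Subgroup.card_subgroup_dvd_card St))) b⁻¹ (fun q => by
        rw [inv_inv, Subgroup.coe_mul, map_inv, Subgroup.coe_inv, MulAut.mul_apply]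
        show x ((b : MulAut Q) ((θ * (b : MulAut Q) * θ⁻¹)⁻¹ q)) = x q
        rw [mul_inv_rev, mul_inv_rev, inv_inv, MulAut.mul_apply, MulAut.mul_apply, hb,
          MulAut.apply_inv_self]
        exact (hxθ _).symm.trans (by rw [MulAut.apply_inv_self]))
    rw [inv_inv] at hd
    have hdA : θ * (d : MulAut Q) * θ⁻¹ = d := congrArg Subtype.val hdθ
    refine ⟨(d : MulAut Q)⁻¹, inv_mem d.2, ?_, fun q => ?_⟩
    · conv_rhs => rw [← hdA]
      group
    · have := hd ((d : MulAut Q)⁻¹ q)
      rw [Subgroup.coe_mul, MulAut.mul_apply, MulAut.apply_inv_self] at this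
      exact this
  have hallfix : ∀ b ∈ A, ∀ q, x (b (θ q)) = x (b q) := by
    by_contra hno
    push Not at hno
    obtain ⟨b, hb, q0, hq0⟩ := hno
    let bk : ℕ → A := fun k => (⟨b, hb⟩ : A) * (θA ^ k) (⟨b, hb⟩ : A)⁻¹
    have hbk : ∀ k q, x (b ((θ ^ k) ((b⁻¹ : MulAut Q) q))) = x ((bk k : MulAut Q) ((θ ^ k) q)) := by
      intro k q
      have h1 : (((θA ^ k) (⟨b, hb⟩ : A)⁻¹ : A) : MulAut Q) = θ ^ k * b⁻¹ * (θ ^ k)⁻¹ := by
        exact (H28.subAut_pow_coe _ _ _ _ _).trans (by rw [← map_pow]; rfl)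
      rw [Subgroup.coe_mul, h1]
      simp [MulAut.mul_apply]
    have hbkmov : ∀ k, 0 < k → k < r → ∃ q, x ((bk k : MulAut Q) (θ q)) ≠ x ((bk k : MulAut Q) q) := by
      intro k hk0 hkr
      by_contra hk
      push Not at hk
      obtain ⟨d, hd, hdθ, hdx⟩ := hfixed (bk k) hk
      have hdc := hcen d hd hdθ
      have hdθ' : θ * d = d * θ := mul_inv_eq_iff_eq_mul.mp hdθ
      have hdk : ∀ (i : ℕ) (q : Q), (θ ^ i) (d q) = d ((θ ^ i) q) := fun i q => by
        rw [← MulAut.mul_apply, ((show Commute θ d from hdθ').pow_left i).eq, MulAut.mul_apply]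
      have hstep : ∀ q, x (b ((θ ^ k) q)) = x (b (d q)) := by
        intro q
        have h1 := hbk k (b q)
        rw [MulAut.inv_apply_self, hdx] at h1
        rw [h1, ← hdk, hxpow, ← MulAut.mul_apply, hdc b hb, MulAut.mul_apply]
      have hiter : ∀ (i : ℕ) q, x (b ((θ ^ (k * i)) q)) = x (b ((d ^ i) q)) := by
        intro i
        induction i with
        | zero => intro q; rfl
        | succ i ih =>
          intro q
          rw [Nat.mul_succ, add_comm, pow_add, MulAut.mul_apply, hstep, ← hdk, ih, pow_succ, MulAut.mul_apply]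
      have hdr : ∀ (j : ℕ) q, x (b ((d ^ (r * j)) q)) = x (b q) := by
        intro j q
        rw [← hiter, show k * (r * j) = r * (k * j) by ring, pow_mul, hθ, one_pow, MulAut.one_apply]
      obtain ⟨t, -, ht⟩ : ∃ t, t < r ∧ k * t % r = 1 :=
        Nat.exists_mul_mod_eq_one_of_coprime (hr.coprime_iff_not_dvd.mpr (Nat.not_dvd_of_pos_of_lt hk0 hkr)).symm
          hr.one_lt
      have hdco : r.Coprime (orderOf d) := hr.coprime_iff_not_dvd.mpr fun h =>
        hrA (h.trans (Subgroup.orderOf_dvd_natCard A hd))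
      have hd1 : ∀ q, x (b (d q)) = x (b q) := by
        intro q
        by_cases h1 : orderOf d = 1
        · rw [orderOf_eq_one_iff.mp h1]; rfl
        obtain ⟨j, -, hj⟩ := Nat.exists_mul_mod_eq_one_of_coprime hdco
          (lt_of_le_of_ne (orderOf_pos d) (Ne.symm h1))
        have := hdr j q
        rwa [← pow_mod_orderOf, hj, pow_one] at this
      have hkt : ∀ (i : ℕ) q, x (b ((θ ^ (k * i)) q)) = x (b q) := by
        intro i
        induction i with
        | zero => intro q; rfl
        | succ i ih => intro q; rw [Nat.mul_succ, add_comm, pow_add, MulAut.mul_apply, hstep, hd1, ih]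
      have := hkt t q0
      rw [← Nat.mod_add_div (k * t) r, ht, pow_add, pow_one, pow_mul, hθ, one_pow, mul_one] at this
      exact hq0 this
    -- so `x` is trivial
    have hx1 : ∀ q, x q = 1 := by
      intro q
      set d := orbitProd θ r q with hd
      have hdfix : θ d = d := apply_orbitProd θ hθ q
      have h1 : x (b (orbitProd θ r ((b⁻¹ : MulAut Q) q))) = 1 :=
        hnorm b hb ⟨q0, hq0⟩ _ (apply_orbitProd θ hθ _)
      have h2 : ∀ q, ∏ k ∈ Finset.range r, x ((bk k : MulAut Q) ((θ ^ k) q)) = 1 := fun q => by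
        have h3 := hnorm b hb ⟨q0, hq0⟩ _ (apply_orbitProd θ hθ ((b⁻¹ : MulAut Q) q))
        rw [orbitProd, map_prod, map_prod] at h3
        exact (Finset.prod_congr rfl fun k _ => (hbk k q).symm).trans h3
      have h4 : ∏ k ∈ Finset.range r, x ((bk k : MulAut Q) d) = 1 := by
        have h5 : ∀ k, (θ ^ k) d = d := by
          intro k
          induction k with
          | zero => rfl
          | succ k ih => rw [pow_succ', MulAut.mul_apply, ih, hdfix]
        exact (Finset.prod_congr rfl fun k _ => by rw [h5]).trans (h2 d)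
      rw [← Finset.mul_prod_erase _ _ (Finset.mem_range.mpr hr.pos), Finset.prod_eq_one, mul_one] at h4
      · have hb0 : bk 0 = 1 := by show _ * (θA ^ 0) _ = 1; rw [pow_zero, MulAut.one_apply, mul_inv_cancel]
        rw [hb0, OneMemClass.coe_one, MulAut.one_apply, hd, orbitProd, map_prod,
          Finset.prod_congr rfl fun k _ => hxpow k q, Finset.prod_const, Finset.card_range] at h4
        have h6 : x q ^ Nat.card Q = 1 := by rw [← map_pow, pow_card_eq_one', map_one]
        have := pow_gcd_eq_one.mpr ⟨h4, h6⟩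
        rwa [hr.coprime_iff_not_dvd.mpr hrQ, pow_one] at this
      · intro k hk
        rw [Finset.mem_erase, Finset.mem_range] at hk
        exact hnorm _ (bk k).2 (hbkmov k (Nat.pos_of_ne_zero hk.1) hk.2) d hdfix
    exact hq0 (by rw [hx1, hx1])
  intro a ha
  have hle : A ≤ St.map A.subtype := by
    refine hgen.trans ((closure_le _).mpr ?_)
    rintro _ ⟨t, ht, rfl⟩
    refine ⟨⟨t⁻¹ * (θ * t * θ⁻¹), mul_mem (inv_mem ht) (hAθ t ht)⟩, fun q => ?_, rfl⟩
    obtain ⟨d, hd, hdθ, hdx⟩ := hfixed ⟨t⁻¹, inv_mem ht⟩ (hallfix _ (inv_mem ht))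
    show x ((t⁻¹ : MulAut Q) ((θ * t * θ⁻¹) q)) = x q
    rw [hdx]
    show x ((d * (θ * t * θ⁻¹)) q) = x q
    rw [hcen d hd hdθ _ (hAθ t ht)]
    show x (θ (t ((θ⁻¹ : MulAut Q) (d q)))) = x q
    have h7 := hallfix t ht ((θ⁻¹ : MulAut Q) (d q))
    rw [MulAut.apply_inv_self] at h7
    rw [hxθ, ← h7, ← MulAut.mul_apply, ← hcen d hd hdθ t ht, MulAut.mul_apply, ← hdx, MulAut.inv_apply_self]
  obtain ⟨b, hb, rfl⟩ := hle ha
  exact hb

/-- The commuting case: if `f` kills the fixed points under the moved characters then the images of the fixed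
points are fixed by the operators. -/
theorem eigen_fixed {Q : Type u} [CommGroup Q] [Finite Q] {r : ℕ} [Fact r.Prime] (θ : MulAut Q) (hθ : θ ^ r = 1)
    (hrQ : ¬ r ∣ Nat.card Q) (A : Subgroup (MulAut Q)) (hAθ : ∀ a ∈ A, θ * a * θ⁻¹ ∈ A)
    (hrA : ¬ r ∣ Nat.card A) (hcen : ∀ a ∈ A, θ * a * θ⁻¹ = a → ∀ a' ∈ A, a * a' = a' * a)
    (hgen : A ≤ closure {u | ∃ t ∈ A, u = t⁻¹ * (θ * t * θ⁻¹)})
    (f : Q →* Q) (hfθ : ∀ x, f (θ x) = θ (f x)) (hfA : ∀ a ∈ A, ∀ x, f (a x) = a (f x))
    (Ω : Set (Q →* K)) (hΩA : ∀ o ∈ Ω, ∀ a ∈ A, o.comp a.toMonoidHom ∈ Ω)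
    (hmov : ∀ o ∈ Ω, o.comp θ.toMonoidHom ≠ o → ∀ d, θ d = d → o (f d) = 1)
    (hsep : ∀ x, (∀ o ∈ Ω, o x = 1) → x = 1) {c : Q} (hc : θ c = c) (a : MulAut Q) (ha : a ∈ A) :
    a (f c) = f c := by
  classical
  have hr : r.Prime := Fact.out
  haveI : Finite (MulAut Q) := Finite.of_injective (fun g : MulAut Q => (g : Q → Q)) DFunLike.coe_injective
  have main : ∀ o ∈ Ω, o.comp θ.toMonoidHom = o → ∀ a ∈ A, ∀ q, o (f (a q)) = o (f q) := fun o ho hof =>
    eigen_fixed_char θ hθ hrQ A hAθ hrA hcen hgen f hfθ hfA Ω hΩA hmov o ho hof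
  -- separation
  rw [← div_eq_one]
  refine hsep _ fun o ho => ?_
  have hne : ∀ o : Q →* K, ∀ q, o q ≠ 0 := fun o q h => by
    have := o.map_mul q q⁻¹
    rw [mul_inv_cancel, map_one, h, zero_mul] at this
    exact one_ne_zero this
  have hkey : o (a (f c)) = o (f c) := by
    by_cases hof : o.comp θ.toMonoidHom = o
    · rw [← hfA a ha]; exact main o ho hof a ha c
    · rw [hmov o ho hof c hc]
      by_cases hoa : (o.comp a.toMonoidHom).comp θ.toMonoidHom = o.comp a.toMonoidHom
      · have h := main _ (hΩA o ho a ha) hoa _ (inv_mem ha) c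
        rw [hfA _ (inv_mem ha)] at h
        show (o.comp a.toMonoidHom) (f c) = 1
        rw [← h]
        show o (a ((a⁻¹ : MulAut Q) (f c))) = 1
        rw [MulAut.apply_inv_self, hmov o ho hof c hc]
      · exact hmov _ (hΩA o ho a ha) hoa c hc
  have h2 : o (a (f c) / f c) * o (f c) = o (f c) := by rw [← map_mul, div_mul_cancel, hkey]
  exact (mul_eq_right₀ (hne o _)).mp h2

variable {V : Type w} [AddCommGroup V] [Module K V]

/-- An operator of order prime to `p` fixing the orbit sums of the moved translates fixes the vector. -/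
theorem block_fixed {T : Type u} [Group T] [Finite T] {p : ℕ} (hT : IsPGroup p T) (ρ : T →* Module.End K V)
    (θ γ : MulAut T) (S G : Module.End K V) {r : ℕ} [Fact r.Prime] (hS : S ^ r = 1) (hθ : θ ^ r = 1) {n : ℕ}
    (hn : 0 < n) (hG : G ^ n = 1) (hnp : n.Coprime p) (hrK : (r : K) ≠ 0)
    (hSG : G * S = S * G) (hθc : ∀ a, S * ρ a = ρ (θ a) * S) (hγc : ∀ a, G * ρ a = ρ (γ a) * G)
    (S0 : Subgroup T) (hcls : ∀ a b, com a b ∈ S0) (hS0θ : ∀ u ∈ S0, θ u ∈ S0)
    (hfpf : ∀ a, a⁻¹ * θ a ∈ S0 → a ∈ S0) {x : V} (hx0 : x ≠ 0) (hSx : S x = x) (χ : T → K)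
    (hχ : ∀ u ∈ S0, ρ u x = χ u • x) (hmov : ∀ a, a ∉ S0 → (G - 1) (tr S r (ρ a x)) = 0) (hex : ∃ a, a ∉ S0) :
    G x = x := by
  classical
  have hr : r.Prime := Fact.out
  haveI hS0n : S0.Normal := ⟨fun u hu g => by
    rw [show g * u * g⁻¹ = com g u * u by simp [com]]; exact mul_mem (hcls g u) hu⟩
  have hfpfk : ∀ k, 0 < k → k < r → ∀ a, a⁻¹ * (θ ^ k) a ∈ S0 → a ∈ S0 := by
    intro k hk0 hkr a ha
    obtain ⟨t, -, ht⟩ := Nat.exists_mul_mod_eq_one_of_coprime
      (hr.coprime_iff_not_dvd.mpr (Nat.not_dvd_of_pos_of_lt hk0 hkr)).symm hr.one_lt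
    have hit : ∀ i : ℕ, a⁻¹ * (θ ^ (k * i)) a ∈ S0 := by
      intro i
      induction i with
      | zero => simp
      | succ i ih =>
        have h := mul_mem ih (pow_apply_mem hS0θ (k * i) ha)
        rwa [map_mul, map_inv, mul_assoc, mul_inv_cancel_left, ← MulAut.mul_apply, ← pow_add,
          ← Nat.mul_succ] at h
    have h := hit t
    rw [← Nat.mod_add_div (k * t) r, ht, pow_add, pow_one, pow_mul, hθ, one_pow, mul_one] at h
    exact hfpf a h
  set L := (G - 1) * tr S r with hL
  set v0 := L x with hv0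
  by_contra hne
  have hv0e : v0 = (r : K) • (G x - x) := by
    rw [hv0, hL, Module.End.mul_apply, tr_of_fixed r hSx, map_smul, LinearMap.sub_apply, Module.End.one_apply]
  have hv0ne : v0 ≠ 0 := by
    rw [hv0e]; exact smul_ne_zero hrK (sub_ne_zero.mpr hne)
  have hLa : ∀ a, L (ρ a x) = if a ∈ S0 then χ a • v0 else 0 := by
    intro a
    split_ifs with ha
    · rw [hχ a ha, map_smul]
    · rw [hL, Module.End.mul_apply]; exact hmov a ha
  have hχmul : ∀ u ∈ S0, ∀ u' ∈ S0, χ (u * u') = χ u * χ u' := by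
    intro u hu u' hu'
    refine smul_left_injective K hx0 ?_
    show χ (u * u') • x = (χ u * χ u') • x
    rw [← hχ _ (mul_mem hu hu'), map_mul, Module.End.mul_apply, hχ u' hu', map_smul, hχ u hu, smul_smul, mul_comm]
  have hχ1 : χ 1 = 1 := smul_left_injective K hx0 (show χ 1 • x = (1 : K) • x by
    rw [← hχ _ (one_mem S0), map_one, Module.End.one_apply, one_smul])
  haveI : Fintype (T ⧸ S0) := Fintype.ofFinite _
  let Φ : (T ⧸ S0 → K) →ₗ[K] V :=
    { toFun := fun c => ∑ q, c q • ρ (Quotient.out q) x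
      map_add' := fun c c' => by simp [add_smul, Finset.sum_add_distrib]
      map_smul' := fun e c => by simp [Finset.smul_sum, smul_smul] }
  set W := LinearMap.range Φ with hW
  have hgen : ∀ a, ρ a x ∈ W := by
    intro a
    obtain ⟨u, hu⟩ := QuotientGroup.mk_out_eq_mul S0 a
    refine ⟨fun q => if q = QuotientGroup.mk a then (χ u)⁻¹ else 0, ?_⟩
    show ∑ q, (if q = (QuotientGroup.mk a : T ⧸ S0) then (χ u)⁻¹ else 0) • ρ (Quotient.out q) x = ρ a x
    have hχu : χ u ≠ 0 := fun h => by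
      have := hχmul _ u.2 _ (inv_mem u.2)
      rw [mul_inv_cancel, hχ1, h, zero_mul] at this
      exact one_ne_zero this
    rw [Finset.sum_eq_single (QuotientGroup.mk a : T ⧸ S0), if_pos rfl, hu, map_mul, Module.End.mul_apply,
      hχ _ u.2, map_smul, smul_smul, inv_mul_cancel₀ hχu, one_smul]
    · intro q _ hq; rw [if_neg hq, zero_smul]
    · intro h; exact absurd (Finset.mem_univ _) h
  have hspan : ∀ (P : Submodule K V), (∀ a, ρ a x ∈ P) → W ≤ P := by
    rintro P hP _ ⟨c, rfl⟩
    exact Submodule.sum_mem _ fun q _ => Submodule.smul_mem _ _ (hP _)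
  have hWρ : ∀ b, ∀ w ∈ W, ρ b w ∈ W := fun b =>
    hspan (W.comap (ρ b)) fun a => by
      rw [Submodule.mem_comap, ← Module.End.mul_apply, ← map_mul]; exact hgen _
  -- separation
  have hsep : ∀ w ∈ W, (∀ b, L (ρ b w) = 0) → w = 0 := by
    rintro _ ⟨c, rfl⟩ h
    have hc : c = 0 := by
      funext q0
      have h1 := h (Quotient.out q0)⁻¹
      rw [show Φ c = ∑ q, c q • ρ (Quotient.out q) x from rfl, map_sum, map_sum, Finset.sum_eq_single q0] at h1
      · rw [map_smul, map_smul, ← Module.End.mul_apply (ρ _) (ρ _), ← map_mul, inv_mul_cancel, hLa, if_pos (one_mem _),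
          hχ1, one_smul] at h1
        exact (smul_eq_zero.mp h1).resolve_right hv0ne
      · intro q _ hq
        rw [map_smul, map_smul, ← Module.End.mul_apply (ρ _) (ρ _), ← map_mul, hLa, if_neg, smul_zero]
        intro hmem
        exact hq (by
          have := QuotientGroup.eq.mpr hmem
          rwa [QuotientGroup.out_eq', QuotientGroup.out_eq', eq_comm] at this)
      · intro h'; exact absurd (Finset.mem_univ _) h'
    rw [hc, map_zero]
  have hGL : G * L = L * G := by
    rw [hL, ← mul_assoc, show G * (G - 1) = (G - 1) * G by rw [mul_sub, sub_mul, one_mul, mul_one], mul_assoc,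
      commute_tr hSG, mul_assoc]
  have hGap : ∀ v, G (L v) = L (G v) := fun v => congrArg (fun f : Module.End K V => f v) hGL
  have hpowS : ∀ (k : ℕ) a, (S ^ k) (ρ a x) = ρ ((θ ^ k) a) x := by
    intro k
    induction k with
    | zero => intro a; rfl
    | succ k ih =>
      intro a
      rw [pow_succ', Module.End.mul_apply, ih, pow_succ', MulAut.mul_apply, ← Module.End.mul_apply, hθc,
        Module.End.mul_apply, hSx]
  have htrW : ∀ a, tr S r (ρ a x) ∈ W := fun a => by
    rw [tr_apply]; exact Submodule.sum_mem _ fun k _ => by rw [hpowS]; exact hgen _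
  have hGtr : ∀ a, a ∉ S0 → G (tr S r (ρ a x)) = tr S r (ρ a x) := fun a ha => by
    have := hmov a ha
    rwa [LinearMap.sub_apply, Module.End.one_apply, sub_eq_zero] at this
  -- the image of the vector is in the span
  obtain ⟨a, ha⟩ := hex
  have hy : G x ∈ W := by
    set A : Module.End K V := ∑ k ∈ Finset.range r, ρ ((θ ^ k) a) with hA
    set A' : Module.End K V := ∑ k ∈ Finset.range r, ρ (γ ((θ ^ k) a)) with hA'
    have hAS : A * S = S * A := by
      rw [hA, Finset.sum_mul, Finset.mul_sum]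
      have h1 := (Finset.sum_range_succ (fun k => ρ ((θ ^ k) a) * S) r).symm.trans
        (Finset.sum_range_succ' (fun k => ρ ((θ ^ k) a) * S) r)
      rw [hθ, pow_zero] at h1
      rw [add_right_cancel h1]
      exact Finset.sum_congr rfl fun k _ => by rw [hθc, pow_succ', MulAut.mul_apply]
    have hGA : G * A = A' * G := by
      rw [hA, hA', Finset.mul_sum, Finset.sum_mul]
      exact Finset.sum_congr rfl fun k _ => hγc _
    set u := tr S r (ρ a⁻¹ x) with hu
    have hAu : A u = ∑ k ∈ Finset.range r, tr S r (ρ ((θ ^ k) a * a⁻¹) x) := by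
      rw [hu, ← Module.End.mul_apply, commute_tr hAS, Module.End.mul_apply, hA, LinearMap.sum_apply, map_sum]
      exact Finset.sum_congr rfl fun k _ => by rw [← Module.End.mul_apply (ρ _) (ρ _), ← map_mul]
    have h1 : G (A u) ∈ W := by
      rw [← Module.End.mul_apply, hGA, Module.End.mul_apply,
        hGtr _ (fun h => ha (inv_inv a ▸ inv_mem h)), hA', LinearMap.sum_apply]
      exact Submodule.sum_mem _ fun k _ => hWρ _ _ (htrW _)
    rw [hAu, map_sum, ← Finset.add_sum_erase _ _ (Finset.mem_range.mpr hr.pos), pow_zero, MulAut.one_apply,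
      mul_inv_cancel, map_one, Module.End.one_apply, tr_of_fixed r hSx, map_smul] at h1
    have h2 : ∑ k ∈ (Finset.range r).erase 0, G (tr S r (ρ ((θ ^ k) a * a⁻¹) x)) ∈ W := by
      refine Submodule.sum_mem _ fun k hk => ?_
      rw [Finset.mem_erase, Finset.mem_range] at hk
      rw [hGtr _ fun h => ha (hfpfk k (Nat.pos_of_ne_zero hk.1) hk.2 a (by
        have := hS0n.conj_mem _ h a⁻¹
        rwa [inv_inv, ← mul_assoc, inv_mul_cancel_right] at this))]
      exact htrW _
    have h3 := (W.add_mem_iff_left h2).mp h1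
    have := W.smul_mem (r : K)⁻¹ h3
    rwa [smul_smul, inv_mul_cancel₀ hrK, one_smul] at this
  have hWG : ∀ w ∈ W, G w ∈ W := hspan (W.comap G) fun b => by
    rw [Submodule.mem_comap, ← Module.End.mul_apply, hγc, Module.End.mul_apply]; exact hWρ _ _ hy
  -- the eigenvalue
  have hLW : ∀ w ∈ W, L w ∈ Submodule.span K {v0} := hspan ((Submodule.span K {v0}).comap L) fun b => by
    rw [Submodule.mem_comap, hLa]
    split_ifs
    · exact Submodule.smul_mem _ _ (Submodule.mem_span_singleton_self v0)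
    · exact zero_mem _
  obtain ⟨μ, hμ⟩ := Submodule.mem_span_singleton.mp (hLW _ hy)
  have hGv0 : G v0 = μ • v0 := by rw [hv0, hGap]; exact hμ.symm
  have hGpow : ∀ i : ℕ, (G ^ i) v0 = μ ^ i • v0 := by
    intro i
    induction i with
    | zero => simp
    | succ i ih => rw [pow_succ', Module.End.mul_apply, ih, map_smul, hGv0, smul_smul, pow_succ]
  have hμn : μ ^ n = 1 := smul_left_injective K hv0ne (show μ ^ n • v0 = (1 : K) • v0 by
    rw [← hGpow, hG, one_smul]; rfl)
  -- the stabiliser is preserved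
  have hLu : ∀ u ∈ S0, ∀ w ∈ W, L (ρ u w) = χ u • L w := fun u hu =>
    hspan (LinearMap.eqLocus (L * ρ u) (χ u • L)) fun b => by
      rw [LinearMap.mem_eqLocus, Module.End.mul_apply, LinearMap.smul_apply, ← Module.End.mul_apply (ρ u) (ρ b), ← map_mul,
        hLa, hLa]
      by_cases hb : b ∈ S0
      · rw [if_pos (mul_mem hu hb), if_pos hb, hχmul u hu b hb, smul_smul]
      · rw [if_neg fun h => hb ((Subgroup.mul_mem_cancel_left _ hu).mp h), if_neg hb, smul_zero]
  have hγS0 : ∀ u ∈ S0, γ u ∈ S0 := by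
    intro u hu
    have hGn : ∀ i : ℕ, ∀ w ∈ W, (G ^ i) w ∈ W := by
      intro i
      induction i with
      | zero => intro w hw; exact hw
      | succ i ih => intro w hw; rw [pow_succ', Module.End.mul_apply]; exact hWG _ (ih w hw)
    set w := (G ^ (n - 1)) x with hw
    have hwW : w ∈ W := hGn _ _ (by simpa using hgen 1)
    have hGw : G w = x := by
      rw [hw, ← Module.End.mul_apply, ← pow_succ', Nat.sub_add_cancel hn, hG]; rfl
    have h1 : L (ρ (γ u) x) = χ u • v0 := by
      conv_lhs => rw [← hGw]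
      rw [← Module.End.mul_apply (ρ _) G, ← hγc, Module.End.mul_apply G (ρ u), ← hGap, hLu u hu w hwW, map_smul, hGap, hGw]
    rw [hLa] at h1
    by_contra hne'
    rw [if_neg hne'] at h1
    have hχu : χ u ≠ 0 := fun h => by
      have := hχmul _ hu _ (inv_mem hu)
      rw [mul_inv_cancel, hχ1, h, zero_mul] at this
      exact one_ne_zero this
    exact smul_ne_zero hχu hv0ne h1.symm
  have hγout : ∀ b, b ∉ S0 → γ b ∉ S0 := by
    intro b hb hγb
    obtain ⟨⟨c, hc⟩, hcb⟩ := (Finite.injective_iff_surjective.mp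
      (fun u u' h => Subtype.ext (γ.injective (congrArg Subtype.val h)) :
        Function.Injective fun u : S0 => (⟨γ u, hγS0 u u.2⟩ : S0))) ⟨γ b, hγb⟩
    exact hb (γ.injective (congrArg Subtype.val hcb) ▸ hc)
  have hyx : G x = μ • x := by
    rw [← sub_eq_zero]
    refine hsep _ (W.sub_mem hy (W.smul_mem _ (by simpa using hgen 1))) fun b => ?_
    rw [map_sub, map_smul, map_sub, map_smul, hLa]
    by_cases hb : b ∈ S0
    · rw [hLu b hb _ hy, ← hGap, ← hv0, hGv0, if_pos hb, smul_comm, sub_self]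
    · obtain ⟨c, rfl⟩ := γ.surjective b
      rw [← Module.End.mul_apply (ρ _) G, ← hγc, Module.End.mul_apply G (ρ c), ← hGap, hLa,
        if_neg fun h => hb (hγS0 c h), map_zero, if_neg hb, smul_zero, sub_zero]
  have hμ1 : μ ≠ 1 := fun h => hne (by rw [hyx, h, one_smul])
  -- matching the orbit sums
  have h1 := congrArg (fun v => L (ρ a⁻¹ v)) (hGtr a ha)
  rw [← Module.End.mul_apply G (tr S r), commute_tr hSG, Module.End.mul_apply (tr S r) G, ← Module.End.mul_apply G (ρ a), hγc,
    Module.End.mul_apply (ρ (γ a)) G, hyx, map_smul, map_smul, map_smul, map_smul, tr_apply, tr_apply] at h1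
  simp only [hpowS, map_sum, map_smul] at h1
  simp only [← Module.End.mul_apply (ρ a⁻¹), ← map_mul, hLa] at h1
  rw [Finset.sum_eq_single (s := Finset.range r) (f := fun k => if a⁻¹ * (θ ^ k) a ∈ S0 then
    χ (a⁻¹ * (θ ^ k) a) • v0 else 0) 0] at h1
  · rw [pow_zero, MulAut.one_apply, inv_mul_cancel, if_pos (one_mem _), hχ1, one_smul] at h1
    by_cases hex' : ∃ k ∈ Finset.range r, a⁻¹ * (θ ^ k) (γ a) ∈ S0
    · obtain ⟨k, hk, hmem⟩ := hex'
      rw [Finset.sum_eq_single k, if_pos hmem, smul_smul] at h1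
      · set u := a⁻¹ * (θ ^ k) (γ a) with hu
        have h2 : μ * χ u = 1 := smul_left_injective K hv0ne (h1.trans (one_smul K v0).symm)
        obtain ⟨e, he⟩ := hT u
        have hχpow : ∀ i : ℕ, χ (u ^ i) = χ u ^ i := by
          intro i
          induction i with
          | zero => rw [pow_zero, pow_zero, hχ1]
          | succ i ih => rw [pow_succ, pow_succ, hχmul _ (pow_mem hmem i) _ hmem, ih]
        have h3 : χ u ^ p ^ e = 1 := by rw [← hχpow, he, hχ1]
        have h4 : μ ^ p ^ e = 1 := by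
          have := congrArg (fun t => t ^ p ^ e) h2
          simpa [mul_pow, h3] using this
        have h5 := pow_gcd_eq_one.mpr ⟨hμn, h4⟩
        rw [hnp.pow_right e, pow_one] at h5
        exact hμ1 h5
      · intro l hl hlk
        rw [if_neg]
        intro hlm
        have hb : γ a ∉ S0 := hγout a ha
        rcases Nat.lt_or_gt_of_ne hlk with hlt | hlt
        · have hmul := mul_mem (inv_mem hlm) hmem
          rw [mul_inv_rev, inv_inv, mul_assoc, mul_inv_cancel_left,
            show (θ ^ k) (γ a) = (θ ^ (k - l)) ((θ ^ l) (γ a)) by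
              show _ = (θ ^ (k - l) * θ ^ l) (γ a); rw [← pow_add, Nat.sub_add_cancel hlt.le]] at hmul
          have := hfpfk (k - l) (by omega) (by have := Finset.mem_range.mp hk; omega) _ hmul
          exact hb (by
            have h' := pow_apply_mem hS0θ (r - l) this
            rwa [← MulAut.mul_apply, ← pow_add, Nat.sub_add_cancel (Finset.mem_range.mp hl).le, hθ,
              MulAut.one_apply] at h')
        · have hmul := mul_mem (inv_mem hmem) hlm
          rw [mul_inv_rev, inv_inv, mul_assoc, mul_inv_cancel_left,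
            show (θ ^ l) (γ a) = (θ ^ (l - k)) ((θ ^ k) (γ a)) by
              show _ = (θ ^ (l - k) * θ ^ k) (γ a); rw [← pow_add, Nat.sub_add_cancel hlt.le]] at hmul
          have := hfpfk (l - k) (by omega) (by have := Finset.mem_range.mp hl; omega) _ hmul
          exact hb (by
            have h' := pow_apply_mem hS0θ (r - k) this
            rwa [← MulAut.mul_apply, ← pow_add, Nat.sub_add_cancel (Finset.mem_range.mp hk).le, hθ,
              MulAut.one_apply] at h')
      · intro h; exact absurd hk h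
    · push Not at hex'
      rw [Finset.sum_eq_zero fun k hk => if_neg (hex' k hk), smul_zero] at h1
      exact hv0ne h1.symm
  · intro k hk hk0
    rw [if_neg]
    exact fun h => ha (hfpfk k (Nat.pos_of_ne_zero hk0) (Finset.mem_range.mp hk) a h)
  · intro h; exact absurd (Finset.mem_range.mpr hr.pos) h

end H1.Turull
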