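import Cfsg.Agent.H1.Turull.NoFix
import Cfsg.Agent.H1.Turull.Rank
import Cfsg.Agent.H1.Turull.Translates

/-!
Elements moving a fixed vector of the space moved by the displacements; the quotient by the radical.
-/

set_option autoImplicit false
set_option linter.style.haveILetI false

namespace H1.Turull

open Module Subgroup
open H1.Shult

universe u v w

section Quot

variable {Q : Type u} [Group Q] {K : Type v} [Field K] {ψ : Q → K}
  (hψ : IsCentralChar ψ) (hcls : ∀ a b : Q, com a b ∈ center Q)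

instance radNormalInst : (rad hψ hcls).Normal := rad_normal hψ hcls

instance radQuotCommInst : CommGroup (Q ⧸ rad hψ hcls) :=
  { (inferInstance : Group (Q ⧸ rad hψ hcls)) with
    mul_comm := fun x y => by
      obtain ⟨a, rfl⟩ := QuotientGroup.mk_surjective x
      obtain ⟨b, rfl⟩ := QuotientGroup.mk_surjective y
      refine (QuotientGroup.eq.mpr ?_ : (QuotientGroup.mk (a * b) : Q ⧸ rad hψ hcls) = QuotientGroup.mk (b * a))
      refine center_le_rad hψ hcls ?_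
      rw [show (a * b)⁻¹ * (b * a) = com b⁻¹ a⁻¹ by simp [com, mul_assoc]]
      exact hcls _ _ }

/-- The commutator form on the quotient by the radical. -/
noncomputable def radForm (x y : Q ⧸ rad hψ hcls) : K := ψ (com (Quotient.out x) (Quotient.out y))

theorem radForm_mk (x y : Q) :
    radForm hψ hcls (QuotientGroup.mk x) (QuotientGroup.mk y) = ψ (com x y) := by
  obtain ⟨u, hu⟩ := QuotientGroup.mk_out_eq_mul (rad hψ hcls) x
  obtain ⟨u', hu'⟩ := QuotientGroup.mk_out_eq_mul (rad hψ hcls) y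
  rw [radForm, hu, hu', com_mul_left hcls, hψ.mul _ (hcls _ _) _ (hcls _ _), u.2, mul_one, com_mul_right hcls,
    hψ.mul _ (hcls _ _) _ (hcls _ _)]
  have h : ψ (com x (u' : Q)) = 1 := by rw [com_swap, hψ.inv (hcls _ _), u'.2, inv_one]
  rw [h, mul_one]

theorem radForm_isForm : IsForm (radForm hψ hcls) where
  mul_left x x' y := by
    obtain ⟨a, rfl⟩ := QuotientGroup.mk_surjective x
    obtain ⟨a', rfl⟩ := QuotientGroup.mk_surjective x'
    obtain ⟨b, rfl⟩ := QuotientGroup.mk_surjective y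
    rw [← QuotientGroup.mk_mul, radForm_mk, radForm_mk, radForm_mk, com_mul_left hcls,
      hψ.mul _ (hcls _ _) _ (hcls _ _)]
  mul_right x y y' := by
    obtain ⟨a, rfl⟩ := QuotientGroup.mk_surjective x
    obtain ⟨b, rfl⟩ := QuotientGroup.mk_surjective y
    obtain ⟨b', rfl⟩ := QuotientGroup.mk_surjective y'
    rw [← QuotientGroup.mk_mul, radForm_mk, radForm_mk, radForm_mk, com_mul_right hcls,
      hψ.mul _ (hcls _ _) _ (hcls _ _)]
  one_left y := by
    obtain ⟨b, rfl⟩ := QuotientGroup.mk_surjective y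
    rw [← QuotientGroup.mk_one, radForm_mk, com_eq_one_of_mem_center (one_mem _), hψ.one]
  one_right x := by
    obtain ⟨a, rfl⟩ := QuotientGroup.mk_surjective x
    rw [← QuotientGroup.mk_one, radForm_mk, com_swap, com_eq_one_of_mem_center (one_mem _), inv_one, hψ.one]
  nondeg y h := by
    obtain ⟨b, rfl⟩ := QuotientGroup.mk_surjective y
    refine (QuotientGroup.eq_one_iff b).mpr fun a => ?_
    have := h (QuotientGroup.mk a)
    rw [radForm_mk] at this
    rw [com_swap, hψ.inv (hcls _ _), this, inv_one]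

theorem radForm_apply [Finite Q] (φ : MulAut Q) (hφ : ∀ z ∈ center Q, ψ (φ z) = ψ z)
    (x y : Q ⧸ rad hψ hcls) :
    radForm hψ hcls (H28.quotAut φ (rad hψ hcls) (fun _ h => rad_apply_mem hψ hcls φ hφ h) x)
      (H28.quotAut φ (rad hψ hcls) (fun _ h => rad_apply_mem hψ hcls φ hφ h) y) = radForm hψ hcls x y := by
  obtain ⟨a, rfl⟩ := QuotientGroup.mk_surjective x
  obtain ⟨b, rfl⟩ := QuotientGroup.mk_surjective y
  rw [H28.quotAut_mk, H28.quotAut_mk, radForm_mk, radForm_mk, ← map_com', hφ _ (hcls a b)]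

theorem radQuot_pow {q : ℕ} (hpow : ∀ a : Q, a ^ q ∈ center Q) (x : Q ⧸ rad hψ hcls) : x ^ q = 1 := by
  obtain ⟨a, rfl⟩ := QuotientGroup.mk_surjective x
  exact (QuotientGroup.eq_one_iff _).mpr (center_le_rad hψ hcls (hpow a))

end Quot

section Displacements

variable {Q : Type u} [Group Q]

theorem conj_mem_disp (θ : MulAut Q) (g : Q) {x : Q} (hx : x ∈ disp θ) : g * x * g⁻¹ ∈ disp θ := by
  suffices h : disp θ ≤ (disp θ).comap (MulAut.conj g).toMonoidHom from h hx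
  rw [disp, closure_le]
  rintro _ ⟨a, rfl⟩
  show g * (a⁻¹ * θ a) * g⁻¹ ∈ disp θ
  rw [show g * (a⁻¹ * θ a) * g⁻¹ = ((a * g⁻¹)⁻¹ * θ (a * g⁻¹)) * (g⁻¹⁻¹ * θ g⁻¹)⁻¹ by
    simp [mul_assoc]]
  exact mul_mem (disp_mem θ _) (inv_mem (disp_mem θ _))

theorem disp_normal (θ : MulAut Q) : (disp θ).Normal := ⟨fun _ hx g => conj_mem_disp θ g hx⟩

/-- Coprimely, every displacement is the displacement of a displacement. -/
theorem exists_disp_eq [Finite Q] {r : ℕ} [Fact r.Prime] (θ : MulAut Q) (hθ : θ ^ r = 1)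
    (hr : ¬ r ∣ Nat.card Q) (a : Q) : ∃ x ∈ disp θ, a⁻¹ * θ a = x⁻¹ * θ x := by
  obtain ⟨c, hc, hcθ⟩ := exists_fixed_coset θ hθ (disp θ) (fun _ h => disp_apply_mem θ h)
    (fun h => hr (h.trans (Subgroup.card_subgroup_dvd_card _))) a (disp_mem θ a)
  refine ⟨c⁻¹ * a, by simpa using inv_mem hc, ?_⟩
  rw [map_mul, map_inv, hcθ]
  group

/-- The displacements of a normalised group of automorphisms. -/
def rdisp [Finite Q] (θ : MulAut Q) (R : Subgroup (MulAut Q)) : Subgroup (MulAut Q) :=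
  closure {u | ∃ t ∈ R, u = t⁻¹ * (θ * t * θ⁻¹)}

theorem rdisp_le [Finite Q] {θ : MulAut Q} {R : Subgroup (MulAut Q)} (hR : ∀ t ∈ R, θ * t * θ⁻¹ ∈ R) :
    rdisp θ R ≤ R := by
  rw [rdisp, closure_le]
  rintro _ ⟨t, ht, rfl⟩
  exact mul_mem (inv_mem ht) (hR t ht)

theorem rdisp_conj [Finite Q] {θ : MulAut Q} {R : Subgroup (MulAut Q)} (hR : ∀ t ∈ R, θ * t * θ⁻¹ ∈ R)
    {u : MulAut Q} (hu : u ∈ rdisp θ R) : θ * u * θ⁻¹ ∈ rdisp θ R := by
  suffices h : rdisp θ R ≤ (rdisp θ R).comap (MulAut.conj θ).toMonoidHom from h hu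
  rw [rdisp, closure_le]
  rintro _ ⟨t, ht, rfl⟩
  refine subset_closure ⟨θ * t * θ⁻¹, hR t ht, ?_⟩
  show θ * (t⁻¹ * (θ * t * θ⁻¹)) * θ⁻¹ = _
  group

theorem rdisp_gen [Finite Q] {r : ℕ} [Fact r.Prime] {θ : MulAut Q} (hθ : θ ^ r = 1) {R : Subgroup (MulAut Q)}
    (hR : ∀ t ∈ R, θ * t * θ⁻¹ ∈ R) (hr : ¬ r ∣ Nat.card R) :
    rdisp θ R ≤ closure {u | ∃ t ∈ rdisp θ R, u = t⁻¹ * (θ * t * θ⁻¹)} := by
  haveI : Finite (MulAut Q) := Finite.of_injective (fun g : MulAut Q => (g : Q → Q)) DFunLike.coe_injective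
  let θR : MulAut R := H28.subAut (MulAut.conj θ) R hR
  have hθR : θR ^ r = 1 := MulEquiv.ext fun a => Subtype.ext
    ((H28.subAut_pow_coe _ _ _ _ _).trans (by rw [← map_pow, hθ, map_one]; rfl))
  have hle : (disp θR).map R.subtype ≤ rdisp θ R := by
    rw [disp, MonoidHom.map_closure, closure_le]
    rintro _ ⟨_, ⟨a, rfl⟩, rfl⟩
    exact subset_closure ⟨a, a.2, rfl⟩
  rw [rdisp, closure_le]
  rintro _ ⟨t, ht, rfl⟩
  obtain ⟨x, hx, hxe⟩ := exists_disp_eq θR hθR hr ⟨t, ht⟩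
  exact subset_closure ⟨x, hle ⟨x, hx, rfl⟩, congrArg Subtype.val hxe⟩

end Displacements

section Strong

variable {Q : Type u} [Group Q] {K : Type v} [Field K] {V : Type w} [AddCommGroup V] [Module K V]

/-- The element moves a fixed vector of the part moved by the displacements. -/
def Strong (θ : MulAut Q) (r : ℕ) (ρ : Q →* Module.End K V) (S : Module.End K V) (h : Q) : Prop :=
  ∃ x ∈ disp θ, ∃ v : V, ρ h (tr S r (ρ x v - v)) ≠ tr S r (ρ x v - v)

/-- The block of a central character. -/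
def block (ρ : Q →* Module.End K V) (ψ : Q → K) : Submodule K V where
  carrier := {v | ∀ z ∈ center Q, ρ z v = ψ z • v}
  add_mem' := fun {a b} ha hb z hz => by rw [map_add, ha z hz, hb z hz, smul_add]
  zero_mem' := fun z _ => by rw [map_zero, smul_zero]
  smul_mem' := fun e a ha z hz => by rw [map_smul, ha z hz, smul_comm]

theorem mem_block {ρ : Q →* Module.End K V} {ψ : Q → K} {v : V} :
    v ∈ block ρ ψ ↔ ∀ z ∈ center Q, ρ z v = ψ z • v := Iff.rfl

theorem block_apply_mem (ρ : Q →* Module.End K V) (ψ : Q → K) (a : Q) {v : V} (hv : v ∈ block ρ ψ) :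
    ρ a v ∈ block ρ ψ := fun z hz => by
  rw [← Module.End.mul_apply, ← map_mul, ← mem_center_iff.mp hz a, map_mul, Module.End.mul_apply, hv z hz,
    map_smul]

theorem block_S_mem (θ : MulAut Q) (ρ : Q →* Module.End K V) (ψ : Q → K) (S : Module.End K V)
    (hcomp : ∀ a, S * ρ a = ρ (θ a) * S) (hψθ : ∀ z ∈ center Q, ψ (θ z) = ψ z) {v : V}
    (hv : v ∈ block ρ ψ) : S v ∈ block ρ ψ := by
  intro z hz
  obtain ⟨y, rfl⟩ := θ.surjective z
  have hy : y ∈ center Q := by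
    rw [mem_center_iff] at hz ⊢
    exact fun g => θ.injective (by rw [map_mul, map_mul, hz])
  rw [← Module.End.mul_apply, ← hcomp, Module.End.mul_apply, hv y hy, map_smul, hψθ y hy]

theorem block_com (ρ : Q →* Module.End K V) (ψ : Q → K) {a b : Q} (hab : com a b ∈ center Q)
    {v : V} (hv : v ∈ block ρ ψ) : ρ a (ρ b v) = ψ (com a b) • ρ b (ρ a v) := by
  have h1 : a * b = com a b * (b * a) := by simp [com, mul_assoc]
  rw [← Module.End.mul_apply, ← map_mul, h1, map_mul, map_mul, Module.End.mul_apply, Module.End.mul_apply]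
  exact block_apply_mem ρ ψ b (block_apply_mem ρ ψ a hv) _ hab

variable (θ : MulAut Q) {r : ℕ} [Fact r.Prime] (ρ : Q →* Module.End K V) (S : Module.End K V)

/-- Moved characters give moved fixed vectors. -/
theorem strong_of_orbit [Finite Q] (hθ : θ ^ r = 1) (hcomp : ∀ a, S * ρ a = ρ (θ a) * S) (B : Subgroup Q)
    (hBθ : ∀ b ∈ B, θ b ∈ B) (χ : Q → K) {v : V} (hχ : ∀ b ∈ B, ρ b v = χ b • v)
    (hχθ : ∃ b ∈ B, χ (θ b) ≠ χ b) {h : Q} (hh : θ h = h) (hhB : ∀ b ∈ B, b * h = h * b) (hhv : ρ h v ≠ v) :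
    Strong θ r ρ S h := by
  obtain ⟨b, hb, hbne⟩ := hχθ
  have hv0 : v ≠ 0 := fun h0 => hhv (by rw [h0, map_zero])
  let ρB : B →* Module.End K V := ρ.comp B.subtype
  obtain ⟨-, hmul⟩ := eigen_mul ρB hv0 (χ := fun a : B => χ a) (fun a => hχ a a.2)
  have hz : χ (b⁻¹ * θ b) ≠ 1 := by
    intro h1
    apply hbne
    have := hmul ⟨b, hb⟩ ⟨b⁻¹ * θ b, mul_mem (inv_mem hb) (hBθ b hb)⟩
    simp only [MulMemClass.mk_mul_mk, mul_inv_cancel_left] at this
    rw [this, h1, mul_one]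
  refine ⟨b⁻¹ * θ b, disp_mem θ b, (χ (b⁻¹ * θ b) - 1)⁻¹ • v, ?_⟩
  rw [map_smul, hχ _ (mul_mem (inv_mem hb) (hBθ b hb)), smul_smul, ← sub_smul, ← mul_sub_one,
    inv_mul_cancel₀ (sub_ne_zero.mpr hz), one_smul]
  intro hfix
  apply hhv
  rw [← sub_eq_zero]
  have hcomm : ρ h * S = S * ρ h := by rw [hcomp, hh]
  refine orbit_zero (A := B) (fun a => ρ (a : Q)) (H28.subAut θ B hBθ) (r := r) Fact.out
    (MulEquiv.ext fun a => Subtype.ext (by rw [H28.subAut_pow_coe, hθ]; rfl)) S (fun a => hcomp a)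
    _ (fun a : B => χ a) (fun a => ?_) ⟨⟨b, hb⟩, hbne⟩ ?_
  · rw [map_sub, smul_sub, hχ a a.2, ← Module.End.mul_apply, ← map_mul, hhB a a.2, map_mul, Module.End.mul_apply,
      hχ a a.2, map_smul]
  · rw [map_sub, ← Module.End.mul_apply, ← commute_tr hcomm, Module.End.mul_apply, hfix, sub_self]

/-- A fixed vector in a block moved by the displacements. -/
theorem strong_of_fixed (hrK : (r : K) ≠ 0) {ψ : Q → K} {z : Q} (hz : z ∈ center Q) (hzd : z ∈ disp θ)
    (hψz : ψ z ≠ 1) {h : Q} {w : V} (hw : w ∈ block ρ ψ) (hwS : S w = w) (hhw : ρ h w ≠ w) :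
    Strong θ r ρ S h := by
  refine ⟨z, hzd, ((r : K) * (ψ z - 1))⁻¹ • w, ?_⟩
  have hne : ((r : K) * (ψ z - 1))⁻¹ * (ψ z - 1) * (r : K) = 1 := by
    rw [mul_assoc, mul_comm (ψ z - 1)]
    exact inv_mul_cancel₀ (mul_ne_zero hrK (sub_ne_zero.mpr hψz))
  rw [map_smul, hw z hz, smul_smul, ← sub_smul, ← mul_sub_one, map_smul, tr_of_fixed r hwS, smul_smul, hne,
    one_smul]
  exact hhw

end Strong

end H1.Turull
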