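import Cfsg.Agent.H1.Turull.Basic
import Cfsg.Agent.H1.Gross.Reduction
import Cfsg.Agent.H31.FittingLength

/-!
Invariant towers of subgroups of prime power order, and their existence in solvable groups.
-/

set_option autoImplicit false
set_option linter.style.haveILetI false
set_option linter.unusedSectionVars false

namespace H1.Turull

open Subgroup
open H31.FitLen

universe u

variable {G : Type u} [Group G]

/-- The elements of `A` centralising `B` modulo `C`, with all their conjugates under `A`. -/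
def cker (A B C : Subgroup G) : Subgroup G where
  carrier := {x | x ∈ A ∧ ∀ y ∈ B, ∀ a ∈ A, a * com x y * a⁻¹ ∈ C}
  one_mem' := ⟨one_mem A, fun y _ a _ => by simp [com]⟩
  mul_mem' := fun {x x'} hx hx' => ⟨mul_mem hx.1 hx'.1, fun y hy a ha => by
    rw [show a * com (x * x') y * a⁻¹ = ((a * x) * com x' y * (a * x)⁻¹) * (a * com x y * a⁻¹) by
      simp only [com]; group]
    exact mul_mem (hx'.2 y hy _ (mul_mem ha hx.1)) (hx.2 y hy a ha)⟩
  inv_mem' := fun {x} hx => ⟨inv_mem hx.1, fun y hy a ha => by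
    rw [show a * com x⁻¹ y * a⁻¹ = ((a * x⁻¹) * com x y * (a * x⁻¹)⁻¹)⁻¹ by simp only [com]; group]
    exact inv_mem (hx.2 y hy _ (mul_mem ha (inv_mem hx.1)))⟩

theorem mem_cker {A B C : Subgroup G} {x : G} :
    x ∈ cker A B C ↔ x ∈ A ∧ ∀ y ∈ B, ∀ a ∈ A, a * com x y * a⁻¹ ∈ C := Iff.rfl

/-- The kernels of the actions in a tower. -/
def kers (L : ℕ → Subgroup G) : ℕ → Subgroup G
  | 0 => ⊥
  | j + 1 => cker (L (j + 1)) (L j) (kers L j)

theorem kers_le (L : ℕ → Subgroup G) : ∀ j, kers L j ≤ L j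
  | 0 => bot_le
  | _ + 1 => fun _ hx => hx.1

/-- A tower of subgroups of prime power order invariant under an automorphism. -/
structure IsTower (σ : MulAut G) (m : ℕ) (p : ℕ → ℕ) (L : ℕ → Subgroup G) : Prop where
  prime : ∀ j ≤ m, (p j).Prime
  pgroup : ∀ j ≤ m, IsPGroup (p j) (L j)
  inv : ∀ j, ∀ x ∈ L j, σ x ∈ L j
  norm : ∀ a b, b < a → a ≤ m → ∀ x ∈ L a, ∀ y ∈ L b, x * y * x⁻¹ ∈ L b
  ne_prime : ∀ j < m, p (j + 1) ≠ p j
  top : ¬ L m ≤ kers L m

variable {σ : MulAut G} {m : ℕ} {p : ℕ → ℕ} {L : ℕ → Subgroup G}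

/-- The kernels are normalised by the higher levels. -/
theorem kers_conj (hn : ∀ a b, b < a → a ≤ m → ∀ x ∈ L a, ∀ y ∈ L b, x * y * x⁻¹ ∈ L b) :
    ∀ j a, j ≤ a → a ≤ m → ∀ x ∈ L a, ∀ y ∈ kers L j, x * y * x⁻¹ ∈ kers L j := by
  intro j
  induction j with
  | zero =>
    intro a _ _ x _ y hy
    rw [show y = 1 from Subgroup.mem_bot.mp hy, mul_one, mul_inv_cancel]
    exact one_mem _
  | succ j ih =>
    intro a hja ham x hx y hy
    have hnL : ∀ x ∈ L a, ∀ z ∈ L (j + 1), x * z * x⁻¹ ∈ L (j + 1) := by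
      intro x hx z hz
      rcases hja.eq_or_lt with h | h
      · subst h; exact mul_mem (mul_mem hx hz) (inv_mem hx)
      · exact hn a (j + 1) h ham x hx z hz
    refine ⟨hnL x hx y hy.1, fun b hb c hc => ?_⟩
    rw [show c * com (x * y * x⁻¹) b * c⁻¹ =
      x * ((x⁻¹ * c * x) * com y (x⁻¹ * b * x) * (x⁻¹ * c * x)⁻¹) * x⁻¹ by simp only [com]; group]
    refine ih a (by omega) ham x hx _ (hy.2 _ ?_ _ ?_)
    · simpa using hn a j (by omega) ham _ (inv_mem hx) b hb
    · simpa using hnL _ (inv_mem hx) c hc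

theorem mem_kers_succ (hn : ∀ a b, b < a → a ≤ m → ∀ x ∈ L a, ∀ y ∈ L b, x * y * x⁻¹ ∈ L b) {j : ℕ}
    (hj : j + 1 ≤ m) {x : G} : x ∈ kers L (j + 1) ↔ x ∈ L (j + 1) ∧ ∀ y ∈ L j, com x y ∈ kers L j := by
  refine ⟨fun h => ⟨h.1, fun y hy => ?_⟩, fun h => ⟨h.1, fun y hy a ha => ?_⟩⟩
  · simpa using h.2 y hy 1 (one_mem _)
  · exact kers_conj hn j (j + 1) (Nat.le_succ j) hj a ha _ (h.2 y hy)

theorem pow_inv_mem [Finite G] {S : Subgroup G} (hS : ∀ x ∈ S, σ x ∈ S) {x : G} (hx : x ∈ S) :
    (σ⁻¹ : MulAut G) x ∈ S := by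
  haveI : Finite (MulAut G) := Finite.of_injective (fun g : MulAut G => (g : G → G)) DFunLike.coe_injective
  obtain ⟨k, hk⟩ : ∃ k, σ⁻¹ = σ ^ k := by
    obtain ⟨k, hk⟩ := mem_powers_iff_mem_zpowers.mpr (inv_mem (Subgroup.mem_zpowers σ))
    exact ⟨k, hk.symm⟩
  rw [hk]
  exact pow_apply_mem hS k hx

theorem kers_inv [Finite G] (hinv : ∀ j, ∀ x ∈ L j, σ x ∈ L j) : ∀ j, ∀ x ∈ kers L j, σ x ∈ kers L j := by
  intro j
  induction j with
  | zero =>
    intro x hx
    rw [show x = 1 from Subgroup.mem_bot.mp hx, map_one]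
    exact one_mem _
  | succ j ih =>
    intro x hx
    refine ⟨hinv _ x hx.1, fun y hy a ha => ?_⟩
    have h := ih _ (hx.2 _ (pow_inv_mem (hinv j) hy) _ (pow_inv_mem (hinv (j + 1)) ha))
    rwa [map_mul, map_mul, map_inv, map_com', MulAut.apply_inv_self, MulAut.apply_inv_self] at h

theorem exists_inv_sylow [Finite G] {r : ℕ} [Fact r.Prime] (hσ : σ ^ r = 1) (hr : ¬ r ∣ Nat.card G)
    (N : Subgroup G) (hN : ∀ x ∈ N, σ x ∈ N) (q : ℕ) [Fact q.Prime] :
    ∃ P : Sylow q N, ∀ x ∈ (P : Subgroup N).map N.subtype, σ x ∈ (P : Subgroup N).map N.subtype := by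
  classical
  let τ : MulAut N := H28.subAut σ N hN
  have hτ : τ ^ r = 1 := MulEquiv.ext fun x => Subtype.ext (by rw [H28.subAut_pow_coe, hσ]; rfl)
  obtain ⟨k, -, hk⟩ := (Nat.dvd_prime_pow (Fact.out : r.Prime)).mp
    (show orderOf τ ∣ r ^ 1 by rw [pow_one]; exact orderOf_dvd_of_pow_eq_one hτ)
  have hP : IsPGroup r (zpowers τ) := IsPGroup.of_card (n := k) (by rw [Nat.card_zpowers, hk])
  obtain ⟨P, hPfix⟩ := hP.nonempty_fixed_point_of_prime_not_dvd_card (Sylow q N) (by
    obtain ⟨P⟩ := (inferInstance : Nonempty (Sylow q N))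
    rw [P.card_eq_index_normalizer]
    exact fun h => hr ((h.trans (Subgroup.index_dvd_card _)).trans (Subgroup.card_subgroup_dvd_card N)))
  refine ⟨P, ?_⟩
  rintro _ ⟨x, hx, rfl⟩
  refine ⟨τ x, ?_, rfl⟩
  have h2 : ((⟨τ, mem_zpowers τ⟩ : zpowers τ) • P : Sylow q N) = P := hPfix ⟨τ, mem_zpowers τ⟩
  have h3 := congrArg (fun S : Sylow q N => (S : Subgroup N)) h2
  rw [← h3]
  exact Subgroup.smul_mem_pointwise_smul x τ (P : Subgroup N) hx

/-- Towers lift through homomorphisms. -/
theorem exists_lift_levels [Finite G] {H : Type u} [Group H] (f : G →* H) (τ : MulAut H)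
    (hf : ∀ x, f (σ x) = τ (f x)) {r : ℕ} [Fact r.Prime] (hσ : σ ^ r = 1) (hr : ¬ r ∣ Nat.card G) :
    ∀ (k : ℕ) (p : ℕ → ℕ) (M : ℕ → Subgroup H), (∀ j < k, (p j).Prime) → (∀ j < k, IsPGroup (p j) (M j)) →
      (∀ j < k, ∀ x ∈ M j, τ x ∈ M j) → (∀ a b, b < a → a < k → ∀ x ∈ M a, ∀ y ∈ M b, x * y * x⁻¹ ∈ M b) →
      ∀ N : Subgroup G, (∀ x ∈ N, σ x ∈ N) → (∀ j < k, M j ≤ N.map f) →
      ∃ L : ℕ → Subgroup G, (∀ j < k, L j ≤ N) ∧ (∀ j < k, IsPGroup (p j) (L j)) ∧
        (∀ j, ∀ x ∈ L j, σ x ∈ L j) ∧ (∀ j < k, (L j).map f = M j) ∧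
        ∀ a b, b < a → a < k → ∀ x ∈ L a, ∀ y ∈ L b, x * y * x⁻¹ ∈ L b := by
  intro k
  induction k with
  | zero =>
    intro p M _ _ _ _ N _ _
    exact ⟨fun _ => ⊥, by simp, by simp, fun j x hx => by rw [Subgroup.mem_bot.mp hx, map_one]; exact one_mem _,
      by simp, by simp⟩
  | succ k ih =>
    intro p M hp hpg hinv hnorm N hN hM
    haveI := Fact.mk (hp 0 (Nat.succ_pos k))
    set X := N ⊓ (M 0).comap f with hX
    have hXσ : ∀ x ∈ X, σ x ∈ X := fun x hx =>
      ⟨hN x hx.1, by show f (σ x) ∈ M 0; rw [hf]; exact hinv 0 (Nat.succ_pos k) _ hx.2⟩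
    obtain ⟨P, hP⟩ := exists_inv_sylow hσ hr X hXσ (p 0)
    set L0 := (P : Subgroup X).map X.subtype with hL0
    have hL0X : L0 ≤ X := Subgroup.map_subtype_le _
    let fX : X →* M 0 := (f.comp X.subtype).codRestrict (M 0) fun x => x.2.2
    have hfX : Function.Surjective fX := by
      rintro ⟨y, hy⟩
      obtain ⟨x, hx, rfl⟩ := hM 0 (Nat.succ_pos k) hy
      exact ⟨⟨x, hx, hy⟩, rfl⟩
    haveI : Finite (M 0) := Finite.of_surjective fX hfX
    have hL0map : L0.map f = M 0 := by
      refine le_antisymm (Subgroup.map_le_iff_le_comap.mpr fun x hx => (hL0X hx).2) fun y hy => ?_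
      have h1 : ((P.mapSurjective (f := fX) hfX : Sylow (p 0) (M 0)) : Subgroup (M 0)) = ⊤ := by
        obtain ⟨i, hi⟩ := IsPGroup.iff_card.mp (hpg 0 (Nat.succ_pos k))
        refine Subgroup.eq_top_of_card_eq _ ?_
        rw [Sylow.card_eq_multiplicity, hi, Nat.factorization_pow, (Fact.out : (p 0).Prime).factorization]
        simp only [Finsupp.smul_single, smul_eq_mul, mul_one, Finsupp.single_eq_same]
      have h2 : (⟨y, hy⟩ : M 0) ∈ ((P.mapSurjective (f := fX) hfX : Sylow (p 0) (M 0)) : Subgroup (M 0)) :=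
        h1 ▸ Subgroup.mem_top _
      obtain ⟨x, hx, hxy⟩ := h2
      exact ⟨x, ⟨x, hx, rfl⟩, congrArg Subtype.val hxy⟩
    set N' := N ⊓ Subgroup.normalizer (L0 : Set G) with hN'
    have hN'σ : ∀ x ∈ N', σ x ∈ N' := fun x hx => ⟨hN x hx.1, Subgroup.mem_normalizer_iff.mpr fun y => by
      have hx' := Subgroup.mem_normalizer_iff.mp hx.2
      obtain ⟨y, rfl⟩ := σ.surjective y
      rw [← map_inv, ← map_mul, ← map_mul]
      constructor <;> intro h
      · exact hP _ ((hx' y).mp (by simpa using pow_inv_mem hP h))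
      · exact hP _ ((hx' y).mpr (by simpa using pow_inv_mem hP h))⟩
    obtain ⟨L, hLN, hLp, hLi, hLm, hLn⟩ := ih (fun j => p (j + 1)) (fun j => M (j + 1))
      (fun j hj => hp _ (by omega)) (fun j hj => hpg _ (by omega)) (fun j hj => hinv _ (by omega))
      (fun a b hab ha => hnorm _ _ (by omega) (by omega)) N' hN'σ
      (fun j hj y hy => by
        obtain ⟨x, hx, rfl⟩ := hM (j + 1) (by omega) hy
        -- the Frattini argument
        have hxX : ∀ z, z ∈ X ↔ x * z * x⁻¹ ∈ X := by
          intro z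
          have hfx : ∀ z, f (x * z * x⁻¹) = f x * f z * (f x)⁻¹ := fun z => by rw [map_mul, map_mul, map_inv]
          constructor
          · rintro ⟨hz1, hz2⟩
            refine ⟨N.mul_mem (N.mul_mem hx hz1) (N.inv_mem hx), ?_⟩
            show f (x * z * x⁻¹) ∈ M 0
            rw [hfx]
            exact hnorm (j + 1) 0 (by omega) (by omega) _ hy _ hz2
          · rintro ⟨hz1, hz2⟩
            refine ⟨?_, ?_⟩
            · simpa [mul_assoc] using N.mul_mem (N.mul_mem (N.inv_mem hx) hz1) hx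
            · have h := hnorm (j + 1) 0 (by omega) (by omega) _ (inv_mem hy) _ hz2
              rw [hfx] at h
              simpa [mul_assoc] using h
        let c : X ≃* X :=
          { toFun := fun z => ⟨x * z * x⁻¹, (hxX z).mp z.2⟩
            invFun := fun z => ⟨x⁻¹ * z * x, (hxX _).mpr (by simp [mul_assoc, z.2])⟩
            left_inv := fun z => Subtype.ext (by simp [mul_assoc])
            right_inv := fun z => Subtype.ext (by simp [mul_assoc])
            map_mul' := fun z z' => Subtype.ext (by simp [mul_assoc]) }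
        obtain ⟨a, ha⟩ := MulAction.exists_smul_eq X (P.mapSurjective (f := c.toMonoidHom) c.surjective) P
        obtain ⟨b, hb, k0, hk0, hab⟩ : ∃ b ∈ L0, ∃ k0 : G, f k0 = 1 ∧ (a : G) = b * k0 := by
          obtain ⟨b, hb, hfb⟩ := (hL0map.ge a.2.2 : f (a : G) ∈ L0.map f)
          exact ⟨b, hb, b⁻¹ * a, by rw [map_mul, map_inv, hfb, inv_mul_cancel], by group⟩
        refine ⟨k0 * x, ⟨N.mul_mem ?_ hx, ?_⟩, by rw [map_mul, hk0, one_mul]⟩
        · rw [show k0 = b⁻¹ * a by rw [hab]; group]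
          exact N.mul_mem (N.inv_mem (hL0X hb).1) a.2.1
        · -- the product normalises the Sylow subgroup
          have hkey : ∀ z ∈ L0, ((a : G) * x) * z * ((a : G) * x)⁻¹ ∈ L0 := by
            rintro _ ⟨z, hz, rfl⟩
            refine ⟨(MulAut.conj a) (c z), ?_, by simp [c, mul_assoc]⟩
            rw [← congrArg (fun S : Sylow (p 0) X => (S : Subgroup X)) ha]
            exact Subgroup.smul_mem_pointwise_smul _ (MulAut.conj a)
              ((P.mapSurjective (f := c.toMonoidHom) c.surjective : Sylow (p 0) X) : Subgroup X)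
              (Subgroup.mem_map_of_mem _ hz)
          refine Subgroup.mem_normalizer_iff.mpr fun z => ?_
          have hmem : ∀ z ∈ L0, (k0 * x) * z * (k0 * x)⁻¹ ∈ L0 := fun z hz => by
            rw [show (k0 * x) * z * (k0 * x)⁻¹ = b⁻¹ * (((a : G) * x) * z * ((a : G) * x)⁻¹) * b by rw [hab]; group]
            exact mul_mem (mul_mem (inv_mem hb) (hkey z hz)) hb
          refine ⟨hmem z, fun h => ?_⟩
          haveI : Finite L0 := inferInstance
          obtain ⟨⟨w, hw⟩, hwe⟩ := (Finite.injective_iff_surjective.mp (fun u v huv => Subtype.ext (by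
            have := congrArg Subtype.val huv
            simpa using this) : Function.Injective fun u : L0 => (⟨_, hmem u u.2⟩ : L0))) ⟨_, h⟩
          have h4 : (k0 * x) * w * (k0 * x)⁻¹ = (k0 * x) * z * (k0 * x)⁻¹ := congrArg Subtype.val hwe
          rw [← mul_left_cancel (mul_right_cancel h4)]
          exact hw)
    refine ⟨fun j => j.casesOn L0 L, fun j hj => ?_, fun j hj => ?_, fun j => ?_, fun j hj => ?_,
      fun a b hab ha => ?_⟩
    · cases j with
      | zero => exact hL0X.trans inf_le_left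
      | succ j => exact (hLN j (by omega)).trans inf_le_left
    · cases j with
      | zero => exact P.isPGroup'.map _
      | succ j => exact hLp j (by omega)
    · cases j with
      | zero => exact hP
      | succ j => exact hLi j
    · cases j with
      | zero => exact hL0map
      | succ j => exact hLm j (by omega)
    · cases b with
      | zero =>
        obtain ⟨a, rfl⟩ : ∃ a', a = a' + 1 := ⟨a - 1, by omega⟩
        intro x hx y hy
        exact (Subgroup.mem_normalizer_iff.mp (hLN a (by omega) hx).2 y).mp hy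
      | succ b =>
        obtain ⟨a, rfl⟩ : ∃ a', a = a' + 1 := ⟨a - 1, by omega⟩
        exact hLn a b (by omega) (by omega)

/-- Solvable groups of large Fitting length have long towers. -/
theorem exists_tower (n : ℕ) : ∀ {G : Type u} [Group G] [Finite G], Group.IsSolvable G → ∀ (σ : MulAut G) (r : ℕ),
    r.Prime → σ ^ r = 1 → ¬ r ∣ Nat.card G → res n (⊤ : Subgroup G) ≠ ⊥ →
    ∃ p L, IsTower σ n p L ∧ L 0 = Cfsg.pCore (p 0) G := by
  induction n with
  | zero =>
    intro G _ _ hG σ r _ _ _ hne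
    haveI := hG
    haveI : Nontrivial G := (Subgroup.nontrivial_iff (G := G)).mp ⟨⟨⊥, ⊤, fun h => hne h.symm⟩⟩
    obtain ⟨s, V, hs, hV, hV1, hVs⟩ := H1.exists_normal_pgroup_ne_bot G
    haveI := Fact.mk hs
    haveI := hV
    have hne' : Cfsg.pCore s G ≠ ⊥ := fun h => hV1 (le_bot_iff.mp (h ▸ H1.le_pCore hVs))
    refine ⟨fun _ => s, fun j => if j = 0 then Cfsg.pCore s G else ⊥,
      ⟨fun _ _ => hs, fun j hj => ?_, fun j x hx => ?_, fun a b hab ha => by omega, fun j hj => by omega, ?_⟩, rfl⟩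
    · obtain rfl : j = 0 := by omega
      exact H1.isPGroup_pCore s G
    · split_ifs at hx ⊢
      · haveI := H1.pCore_characteristic s G
        exact H28.char_apply_mem σ _ _ hx
      · rw [Subgroup.mem_bot.mp hx, map_one]; exact one_mem _
    · intro h
      exact hne' (le_bot_iff.mp (by simpa [kers] using h))
  | succ n ih =>
    intro G _ _ hG σ r hr hσ hcop hne
    haveI := hG
    haveI := Fact.mk hr
    set F := Cfsg.fittingSubgroup G with hF
    haveI hFn : F.Normal := H1.fittingSubgroup_normal G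
    haveI hFc : F.Characteristic := H1.fittingSubgroup_characteristic G
    have hFσ : ∀ x ∈ F, σ x ∈ F := fun x hx => H28.char_apply_mem σ F x hx
    have hne' : res n (⊤ : Subgroup (G ⧸ F)) ≠ ⊥ := by
      intro h
      apply hne
      have h1 : (res n (⊤ : Subgroup G)).map (QuotientGroup.mk' F) = ⊥ := by
        rw [map_res, Subgroup.map_top_of_surjective _ (QuotientGroup.mk'_surjective F), h]
      rw [Subgroup.map_eq_bot_iff, QuotientGroup.ker_mk'] at h1
      haveI : Group.IsNilpotent F := H1.isNilpotent_fittingSubgroup G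
      obtain ⟨k, hk⟩ := (Subgroup.isNilpotent_iff_lowerCentralSeries F).mp inferInstance
      exact le_bot_iff.mp ((nres_le _ k).trans ((Subgroup.lowerCentralSeries_mono k h1).trans hk.le))
    set τ : MulAut (G ⧸ F) := H28.quotAut σ F hFσ with hτ
    obtain ⟨p, M, hM, hM0⟩ := ih (G := G ⧸ F) (Group.isSolvable_of_surjective (f := QuotientGroup.mk' F)
      (QuotientGroup.mk'_surjective F)) τ r hr
      (MulEquiv.ext fun y => by
        obtain ⟨a, rfl⟩ := QuotientGroup.mk_surjective y
        rw [hτ, H28.quotAut_pow_mk, hσ]; rfl)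
      (fun h => hcop (h.trans (Subgroup.card_quotient_dvd_card F))) hne'
    obtain ⟨L, -, hLp, hLi, hLm, hLn⟩ := exists_lift_levels (σ := σ) (QuotientGroup.mk' F) τ (fun x => rfl) hσ hcop
      (n + 1) p M (fun j hj => hM.prime j (by omega)) (fun j hj => hM.pgroup j (by omega)) (fun j _ => hM.inv j)
      (fun a b hab ha => hM.norm a b hab (by omega)) ⊤ (fun _ _ => trivial)
      (fun j _ => by rw [Subgroup.map_top_of_surjective _ (QuotientGroup.mk'_surjective F)]; exact le_top)
    -- candidates for the new bottom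
    let P' : ℕ → ℕ → ℕ := fun t j => j.casesOn t p
    let L' : ℕ → ℕ → Subgroup G := fun t j => j.casesOn (Cfsg.pCore t G) L
    have hnorm' : ∀ t a b, b < a → a ≤ n + 1 → ∀ x ∈ L' t a, ∀ y ∈ L' t b, x * y * x⁻¹ ∈ L' t b := by
      intro t a b hab ha
      obtain ⟨a, rfl⟩ : ∃ a', a = a' + 1 := ⟨a - 1, by omega⟩
      cases b with
      | zero =>
        intro x _ y hy
        exact (H1.pCore_normal' t G).conj_mem y hy x
      | succ b => exact hLn a b (by omega) (by omega)
    obtain ⟨t, ht, htp, htop⟩ : ∃ t, t.Prime ∧ t ≠ p 0 ∧ ¬ L n ≤ kers (L' t) (n + 1) := by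
      by_contra hno
      push Not at hno
      apply hM.top
      have hclaim : ∀ j ≤ n, ∀ x ∈ L j, (∀ t, t.Prime → t ≠ p 0 → x ∈ kers (L' t) (j + 1)) →
          QuotientGroup.mk' F x ∈ kers M j := by
        intro j
        induction j with
        | zero =>
          intro _ x hx hker
          rw [show kers M 0 = ⊥ from rfl, Subgroup.mem_bot]
          refine (QuotientGroup.eq_one_iff x).mpr ?_
          haveI := Fact.mk (hM.prime 0 (by omega))
          refine H1.Gross.mem_fitting_of_centralizes (q := p 0) ?_ fun t ht htp y hy => ?_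
          · rw [← hM0, ← hLm 0 (by omega)]
            exact Subgroup.mem_map_of_mem _ hx
          · have h := ((mem_kers_succ (hnorm' t) (by omega)).mp (hker t ht htp)).2 y hy
            rw [show kers (L' t) 0 = ⊥ from rfl, Subgroup.mem_bot, com, mul_inv_eq_one,
              mul_inv_eq_iff_eq_mul] at h
            exact h.symm
        | succ j ihj =>
          intro hj x hx hker
          refine (mem_kers_succ hM.norm hj).mpr ⟨hLm (j + 1) (by omega) ▸ Subgroup.mem_map_of_mem _ hx, ?_⟩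
          intro y hy
          rw [← hLm j (by omega)] at hy
          obtain ⟨y, hy', rfl⟩ := hy
          rw [← map_com]
          refine ihj (by omega) (com x y) ?_ fun t ht htp => ?_
          · exact mul_mem (hLn (j + 1) j (by omega) (by omega) x hx y hy') (inv_mem hy')
          · exact ((mem_kers_succ (hnorm' t) (by omega)).mp (hker t ht htp)).2 y hy'
      rw [← hLm n (by omega)]
      rintro _ ⟨x, hx, rfl⟩
      exact hclaim n le_rfl x hx fun t ht htp => hno t ht htp hx
    haveI := Fact.mk ht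
    refine ⟨P' t, L' t, ⟨fun j hj => ?_, fun j hj => ?_, fun j => ?_, hnorm' t, fun j hj => ?_, htop⟩, rfl⟩
    · cases j with
      | zero => exact ht
      | succ j => exact hM.prime j (by omega)
    · cases j with
      | zero => exact H1.isPGroup_pCore t G
      | succ j => exact hLp j (by omega)
    · cases j with
      | zero =>
        haveI := H1.pCore_characteristic t G
        exact fun x hx => H28.char_apply_mem σ (Cfsg.pCore t G) x hx
      | succ j => exact hLi j
    · cases j with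
      | zero => exact Ne.symm htp
      | succ j => exact hM.ne_prime j (by omega)

end H1.Turull
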