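import Cfsg.Agent.H1.Shult.CyclicHH2

/-!
Irreducible representations of a group of class two with scalar centre: the basis from the cosets of the
centre, intertwiners of an automorphism, and the orbit bound for their centralisers.
-/

set_option autoImplicit false
set_option linter.style.haveILetI false
set_option linter.unusedSectionVars false

namespace H1.Turull

open Module Subgroup
open H1.Shult
open Cfsg.Agent.H29 (subalgebra_eq_top_of_irreducible)

variable {Q : Type*} [Group Q] [Finite Q] (hcls : ∀ a b : Q, a * b * a⁻¹ * b⁻¹ ∈ center Q)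
  {K : Type*} [Field K] [IsAlgClosed K] {S : Type*} [AddCommGroup S] [Module K S] [FiniteDimensional K S]
  [Nontrivial S] (ρS : Q →* Module.End K S)
  (hscal : ∀ c ∈ center Q, ∃ k : K, ρS c = k • (1 : Module.End K S))
  (hcenter_inj : ∀ c ∈ center Q, ρS c = 1 → c = 1)
  (hirr : ∀ U : Submodule K S, (∀ a, ∀ v ∈ U, ρS a v ∈ U) → U = ⊥ ∨ U = ⊤)

include hcls hscal hcenter_inj hirr in
/-- The cosets of the centre give a basis of all operators. -/
theorem exists_coset_basis : ∃ B : Basis (Q ⧸ center Q) K (Module.End K S),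
    ∀ t, B t = ρS (Quotient.out t) := by
  classical
  have hunit : ∀ a, IsUnit (ρS a) := fun a => by
    refine IsUnit.map ρS (Group.isUnit a)
  have hcommcenter := hcls
  -- the coset representatives
  let T := Q ⧸ center Q
  haveI : Fintype T := Fintype.ofFinite T
  let out : T → Q := fun t => Quotient.out t
  have hout : ∀ t : T, QuotientGroup.mk (out t) = t := fun t => Quotient.out_eq t
  let b : T → Module.End K S := fun t => ρS (out t)
  have hdecomp : ∀ a : Q, ∃ k : K, ρS a = k • b (QuotientGroup.mk a) := by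
    intro a
    obtain ⟨k, hk⟩ := hscal _ (QuotientGroup.eq.mp (hout (QuotientGroup.mk a)))
    refine ⟨k, ?_⟩
    have : a = out (QuotientGroup.mk a) * ((out (QuotientGroup.mk a))⁻¹ * a) := by group
    conv_lhs => rw [this]
    rw [map_mul, hk, mul_smul_comm, mul_one]
  -- linear independence
  have hindep : ∀ s : Finset T, ∀ c : T → K, ∑ t ∈ s, c t • b t = 0 → ∀ t ∈ s, c t = 0 := by
    intro s
    induction s using Finset.induction with
    | empty => intro c _ t ht; exact absurd ht (Finset.notMem_empty t)
    | @insert t₁ s ht₁ ih =>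
      intro c hc
      choose χ hχ using fun (y : Q) (t : T) => hscal _ (hcommcenter y (out t))
      have hconj : ∀ y t, ρS y * b t = χ y t • (b t * ρS y) := by
        intro y t
        show ρS y * ρS (out t) = _
        rw [← map_mul, show y * out t = (y * out t * y⁻¹ * (out t)⁻¹) * (out t * y) by group,
          map_mul, hχ, smul_mul_assoc, one_mul, map_mul]
      have hs : ∀ t ∈ s, c t = 0 := by
        intro t ht
        by_contra hct
        have hall : ∀ y, χ y t = χ y t₁ := by
          intro y
          have h1 : ∑ x ∈ insert t₁ s, (χ y x * c x) • b x = 0 := by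
            have h2 : (∑ x ∈ insert t₁ s, (χ y x * c x) • b x) * ρS y =
                ρS y * ∑ x ∈ insert t₁ s, c x • b x := by
              rw [Finset.sum_mul, Finset.mul_sum]
              refine Finset.sum_congr rfl fun x _ => ?_
              rw [mul_smul_comm, hconj, smul_smul, smul_mul_assoc, mul_comm (χ y x)]
            rw [hc, mul_zero] at h2
            exact (hunit y).mul_left_eq_zero.mp h2
          have h3 : ∑ x ∈ insert t₁ s, ((χ y x - χ y t₁) * c x) • b x = 0 := by
            have e0 : ∀ x, ((χ y x - χ y t₁) * c x) • b x =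
                (χ y x * c x) • b x - χ y t₁ • (c x • b x) := fun x => by
              rw [smul_smul, sub_mul]
              exact sub_smul (χ y x * c x) (χ y t₁ * c x) (b x)
            rw [Finset.sum_congr rfl (fun x _ => e0 x), Finset.sum_sub_distrib, h1,
              ← Finset.smul_sum, hc, smul_zero, sub_zero]
          rw [Finset.sum_insert ht₁, sub_self, zero_mul, zero_smul, zero_add] at h3
          rcases mul_eq_zero.mp (ih _ h3 t ht) with h | h
          · exact sub_eq_zero.mp h
          · exact absurd h hct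
        apply ht₁
        have heq : ∀ y, y * out t * y⁻¹ * (out t)⁻¹ = y * out t₁ * y⁻¹ * (out t₁)⁻¹ := by
          intro y
          have h4 : ρS (y * out t * y⁻¹ * (out t)⁻¹) = ρS (y * out t₁ * y⁻¹ * (out t₁)⁻¹) := by
            rw [hχ, hχ, hall]
          have := hcenter_inj _ (mul_mem (inv_mem (hcommcenter y (out t₁))) (hcommcenter y (out t)))
            (by rw [map_mul, h4, ← map_mul, inv_mul_cancel, map_one])
          rw [inv_mul_eq_one] at this
          exact this.symm
        have hmem : (out t)⁻¹ * out t₁ ∈ center Q := by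
          rw [Subgroup.mem_center_iff]
          intro y
          set w := y * out t * y⁻¹ * (out t)⁻¹ with hw
          have e1 : y * out t = w * out t * y := by rw [hw]; group
          have e2 : y * out t₁ = w * out t₁ * y := by rw [hw, heq y]; group
          calc y * ((out t)⁻¹ * out t₁)
              = (out t)⁻¹ * w⁻¹ * (y * out t₁) := by
                have e3 : y * (out t)⁻¹ = (out t)⁻¹ * w⁻¹ * y := by rw [hw]; group
                rw [← mul_assoc, e3, mul_assoc]
            _ = (out t)⁻¹ * out t₁ * y := by rw [e2]; group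
        have : t = t₁ := by
          rw [← hout t, ← hout t₁]; exact QuotientGroup.eq.mpr hmem
        exact this ▸ ht
      intro t ht
      rcases Finset.mem_insert.mp ht with rfl | ht'
      · rw [Finset.sum_insert ht₁, Finset.sum_eq_zero (fun x hx => by rw [hs x hx, zero_smul]),
          add_zero] at hc
        exact (smul_eq_zero.mp hc).resolve_right (hunit (out t)).ne_zero
      · exact hs t ht'
  have hli : LinearIndependent K b := by
    rw [Fintype.linearIndependent_iff]
    exact fun g hg t => hindep Finset.univ g hg t (Finset.mem_univ t)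
  -- spanning
  have hsmall : ∀ a, ρS a ∈ Submodule.span K (Set.range b) := fun a => by
    obtain ⟨k, hk⟩ := hdecomp a
    rw [hk]; exact Submodule.smul_mem _ _ (Submodule.subset_span ⟨_, rfl⟩)
  have hspan : ⊤ ≤ Submodule.span K (Set.range b) := by
    have hA : Algebra.adjoin K (Set.range ρS) = ⊤ := by
      apply subalgebra_eq_top_of_irreducible
      intro U hU
      exact hirr U fun a v hv => hU _ (Algebra.subset_adjoin ⟨a, rfl⟩) v hv
    have hB : Subalgebra.toSubmodule (Algebra.adjoin K (Set.range ρS)) =
        Submodule.span K (Set.range ρS) := by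
      rw [Algebra.adjoin_eq_span, ← MonoidHom.coe_mrange, Submonoid.closure_eq]
    rw [hA, Algebra.top_toSubmodule] at hB
    rw [hB, Submodule.span_le]
    rintro _ ⟨a, rfl⟩
    exact hsmall a
  let B : Basis T K (Module.End K S) := Basis.mk hli hspan
  exact ⟨B, fun t => Basis.mk_apply hli hspan t⟩

omit [IsAlgClosed K] [FiniteDimensional K S] [Nontrivial S] in
include hscal in
theorem coset_decomp (a : Q) :
    ∃ k : K, ρS a = k • ρS (Quotient.out (QuotientGroup.mk a : Q ⧸ center Q)) := by
  obtain ⟨k, hk⟩ := hscal _ (QuotientGroup.eq.mp (Quotient.out_eq (QuotientGroup.mk a : Q ⧸ center Q)))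
  refine ⟨k, ?_⟩
  conv_lhs => rw [show a = Quotient.out (QuotientGroup.mk a : Q ⧸ center Q) *
    ((Quotient.out (QuotientGroup.mk a : Q ⧸ center Q))⁻¹ * a) by group]
  rw [map_mul, hk, mul_smul_comm, mul_one]

include hcls hscal hcenter_inj hirr in
theorem card_quot_center : Nat.card (Q ⧸ center Q) = Module.finrank K S ^ 2 := by
  obtain ⟨B, -⟩ := exists_coset_basis hcls ρS hscal hcenter_inj hirr
  haveI : Fintype (Q ⧸ center Q) := Fintype.ofFinite _
  rw [Nat.card_eq_fintype_card, ← Module.finrank_eq_card_basis B, Module.finrank_linearMap, sq]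

include hcls hscal hcenter_inj hirr in
/-- The orbit bound for the centraliser of an intertwiner of a semiregular automorphism. -/
theorem centralizer_le {N : ℕ} (hNpos : 0 < N) (θ : MulAut Q) (hθN : ∀ a, (θ ^ N) a = a)
    (hθZ : ∀ c ∈ center Q, θ c = c)
    (hfree : ∀ k : ℕ, 0 < k → k < N → ∀ a, a⁻¹ * (θ ^ k) a ∈ center Q → a ∈ center Q)
    (hnc : ∃ a : Q, a ∉ center Q) (u' : Module.End K S) (hu : IsUnit u')
    (hcomm : ∀ a, u' * ρS a = ρS (θ a) * u') :
    ∃ o, Module.finrank K (Subalgebra.centralizer K ({u'} : Set (Module.End K S))) ≤ o ∧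
      Module.finrank K S ^ 2 + N = N * o + 1 := by
  classical
  obtain ⟨B, hB'⟩ := exists_coset_basis hcls ρS hscal hcenter_inj hirr
  let T := Q ⧸ center Q
  haveI : Fintype T := Fintype.ofFinite T
  let out : T → Q := fun t => Quotient.out t
  let b : T → Module.End K S := fun t => ρS (out t)
  have hB : ∀ t, B t = b t := hB'
  have hout : ∀ t : T, QuotientGroup.mk (out t) = t := fun t => Quotient.out_eq t
  have hdecomp : ∀ a : Q, ∃ k : K, ρS a = k • b (QuotientGroup.mk a) := coset_decomp ρS hscal
  have hunit : ∀ a, IsUnit (ρS a) := fun a => by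
    refine IsUnit.map ρS (Group.isUnit a)
  -- the induced permutation
  have hθcenter : (center Q).map θ.toMonoidHom = center Q := by
    ext c
    constructor
    · rintro ⟨d, hd, rfl⟩
      show θ d ∈ _
      rw [hθZ d hd]; exact hd
    · intro hc; exact ⟨c, hc, hθZ c hc⟩
  let σ : Equiv.Perm T := (QuotientGroup.congr (center Q) (center Q) θ hθcenter).toEquiv
  have hσmk : ∀ a : Q, σ (QuotientGroup.mk a) = QuotientGroup.mk (θ a) := fun a => rfl
  let L : Module.End K S →ₗ[K] Module.End K S := B.constr K fun t => ρS (θ (out t))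
  have hL : ∀ a, L (ρS a) = ρS (θ a) := by
    intro a
    obtain ⟨k, hk⟩ := hscal _ (QuotientGroup.eq.mp (hout (QuotientGroup.mk a)))
    have ha : a = out (QuotientGroup.mk a) * ((out (QuotientGroup.mk a))⁻¹ * a) := by group
    have hc := hθZ _ (QuotientGroup.eq.mp (hout (QuotientGroup.mk a)))
    conv_rhs => rw [ha, map_mul θ, hc, map_mul ρS, hk]
    conv_lhs => rw [ha, map_mul, hk]
    rw [mul_smul_comm, mul_smul_comm, mul_one, mul_one, map_smul]
    congr 1
    show L (b (QuotientGroup.mk a)) = _
    rw [← hB, Basis.constr_basis]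
  have hcen : ∀ f ∈ Subalgebra.centralizer K ({u'} : Set (Module.End K S)), L f = f := by
    intro f hf
    have h1 : (LinearMap.mulRight K u').comp L = LinearMap.mulLeft K u' := by
      refine B.ext fun t => ?_
      rw [LinearMap.comp_apply, LinearMap.mulRight_apply, LinearMap.mulLeft_apply, hB, hcomm]
      exact congrArg (· * u') (hL _)
    have h2 : L f * u' = u' * f := congrArg (fun φ : Module.End K S →ₗ[K] Module.End K S => φ f) h1
    rw [(Subalgebra.mem_centralizer_iff K).mp hf u' (Set.mem_singleton _)] at h2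
    exact hu.mul_right_cancel h2
  let C : Submodule K (Module.End K S) :=
    Subalgebra.toSubmodule (Subalgebra.centralizer K ({u'} : Set (Module.End K S)))
  let Ω := MulAction.orbitRel.Quotient (zpowers σ) T
  haveI : Fintype Ω := Fintype.ofFinite Ω
  let Ψ : C →ₗ[K] (Ω → K) :=
    { toFun := fun f o => B.repr (f : Module.End K S) (Quotient.out o)
      map_add' := fun f g => by funext o; simp
      map_smul' := fun k f => by funext o; simp }
  have hΨ : Function.Injective Ψ := by
    suffices H : ∀ f, Ψ f = 0 → f = 0 by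
      intro f g hfg
      refine sub_eq_zero.mp (H (f - g) ?_)
      funext o
      have h := congrFun hfg o
      simp only [Ψ, LinearMap.coe_mk, AddHom.coe_mk] at h ⊢
      simp [h]
    intro f hf
    have hrel : ∀ t, B.repr (f : Module.End K S) t = 0 ↔ B.repr (f : Module.End K S) (σ t) = 0 := by
      intro t
      obtain ⟨k, hk, hk0⟩ : ∃ k : K, L (B t) = k • B (σ t) ∧ k ≠ 0 := by
        obtain ⟨k, hk⟩ := hdecomp (θ (out t))
        have hσt : QuotientGroup.mk (θ (out t)) = σ t := by rw [← hσmk, hout]
        rw [hσt] at hk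
        refine ⟨k, by rw [hB, hB, hL]; exact hk, fun h => ?_⟩
        rw [h, zero_smul] at hk
        exact (hunit _).ne_zero hk
      have h1 : ∀ g : Module.End K S, B.repr (L g) (σ t) = k * B.repr g t := by
        intro g
        have : B.coord (σ t) ∘ₗ L = k • B.coord t := by
          refine B.ext fun t' => ?_
          obtain ⟨k', hk'⟩ := hdecomp (θ (out t'))
          have hσt : QuotientGroup.mk (θ (out t')) = σ t' := by rw [← hσmk, hout]
          simp only [LinearMap.comp_apply, LinearMap.smul_apply, Basis.coord_apply]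
          by_cases h : t' = t
          · subst h; rw [hk]; simp
          · rw [hB t', hL, hk', hσt, ← hB, ← hB t']
            simp [Finsupp.single_eq_of_ne, h, (σ.injective.ne h)]
        exact congrArg (fun l : Module.End K S →ₗ[K] K => l g) this
      have h2 := h1 (f : Module.End K S)
      rw [hcen _ f.2] at h2
      rw [h2, mul_eq_zero]
      exact ⟨Or.inr, fun h => h.resolve_left hk0⟩
    apply Subtype.ext
    show (f : Module.End K S) = 0
    apply B.repr.injective
    rw [map_zero]
    ext t
    have hrep : B.repr (f : Module.End K S) (Quotient.out (Quotient.mk'' t : Ω)) = 0 :=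
      congrFun hf _
    obtain ⟨g, hg⟩ := MulAction.orbitRel_apply.mp
      (Quotient.exact' (Quotient.out_eq' (Quotient.mk'' t : Ω)))
    obtain ⟨j, hj⟩ := Subgroup.mem_zpowers_iff.mp g.2
    have key : ∀ j : ℤ, ∀ t, B.repr (f : Module.End K S) t = 0 ↔
        B.repr (f : Module.End K S) ((σ ^ j) t) = 0 := by
      intro j
      induction j using Int.induction_on with
      | zero => intro t; simp
      | succ n ih => intro t; rw [add_comm, zpow_add, zpow_one, Equiv.Perm.mul_apply, ih t, hrel]
      | pred n ih =>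
        intro t
        rw [sub_eq_neg_add, zpow_add, zpow_neg_one, Equiv.Perm.mul_apply, ih t,
          hrel (σ⁻¹ _), ← Equiv.Perm.mul_apply σ σ⁻¹, mul_inv_cancel, Equiv.Perm.one_apply]
    rw [Finsupp.zero_apply]
    rw [key j t, hj]
    rw [show (g : Equiv.Perm T) t = g • t from rfl, show g • t = _ from hg]
    exact hrep
  have hCle : Module.finrank K C ≤ Nat.card Ω := by
    refine (LinearMap.finrank_le_finrank_of_injective hΨ).trans ?_
    rw [Module.finrank_fintype_fun_eq_card, Nat.card_eq_fintype_card]
  have hσit : ∀ k : ℕ, ∀ a : Q, (σ ^ k) (QuotientGroup.mk a) = QuotientGroup.mk ((θ ^ k) a) := by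
    intro k
    induction k with
    | zero => intro a; rfl
    | succ k ih =>
      intro a
      rw [pow_succ', Equiv.Perm.mul_apply, ih, hσmk, pow_succ', MulAut.mul_apply]
  have hσN : σ ^ N = 1 := by
    ext t
    rw [← hout t, hσit, hθN]
    rfl
  have hσ0 : σ (1 : T) = 1 := by
    show σ (QuotientGroup.mk 1) = _
    rw [hσmk, map_one]
    rfl
  have hσfree : ∀ k : ℕ, 0 < k → k < N → ∀ t : T, (σ ^ k) t = t → t = 1 := by
    intro k hk0 hkN t ht
    rw [← hout t, hσit] at ht
    rw [← hout t]
    exact (QuotientGroup.eq_one_iff _).mpr (hfree k hk0 hkN _ (QuotientGroup.eq.mp ht.symm))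
  obtain ⟨a₀, ha₀⟩ := hnc
  have hne : ∃ t : T, t ≠ 1 := ⟨QuotientGroup.mk a₀, fun h => ha₀ ((QuotientGroup.eq_one_iff _).mp h)⟩
  have hcount := card_orbits_semiregular σ hNpos 1 hσN hσ0 hσfree hne
  rw [card_quot_center hcls ρS hscal hcenter_inj hirr] at hcount
  exact ⟨_, hCle, hcount⟩

omit [Nontrivial S] [FiniteDimensional K S] in
/-- An operator compatible with an automorphism fixing the centre is seen on an irreducible module. -/
theorem exists_twist (hnc' : ∀ a b : Q, a * b * a⁻¹ * b⁻¹ ∈ center Q) {W : Type*} [AddCommGroup W] [Module K W]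
    [FiniteDimensional K W] [Nontrivial W] (ρ : Q →* Module.End K W) (hρ : Function.Injective ρ)
    (hscalW : ∀ c ∈ center Q, ∃ k : K, ρ c = k • (1 : Module.End K W)) (θ : MulAut Q)
    (hθZ : ∀ c ∈ center Q, θ c = c) {N : ℕ} (u : Module.End K W) (hu : u ^ N = 1)
    (hcomm : ∀ a, u * ρ a = ρ (θ a) * u) :
    ∃ (S : Submodule K W) (ρS : Q →* Module.End K S) (u' : Module.End K S) (φ : S →ₗ[K] W),
      Nontrivial S ∧ (∀ c ∈ center Q, ∃ k : K, ρS c = k • (1 : Module.End K S)) ∧
      (∀ c ∈ center Q, ρS c = 1 → c = 1) ∧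
      (∀ U : Submodule K S, (∀ a, ∀ v ∈ U, ρS a v ∈ U) → U = ⊥ ∨ U = ⊤) ∧
      Function.Injective φ ∧ u' ^ N = 1 ∧ (∀ a, u' * ρS a = ρS (θ a) * u') ∧ ∀ v, u (φ v) = φ (u' v) := by
  classical
  have hcls := hnc'
  -- a minimal invariant subspace 
  let W0 : Submodule K W := ⊤
  have hW0 : W0 ≠ ⊥ := top_ne_bot
  have hW0inv : ∀ a : Q, ∀ v ∈ W0, ρ a v ∈ W0 := fun _ _ _ => Submodule.mem_top
  obtain ⟨S, ⟨hS0, hSinv, hSle⟩, hSmin⟩ := wellFounded_lt.has_min
    {U : Submodule K W | U ≠ ⊥ ∧ (∀ a : Q, ∀ v ∈ U, ρ a v ∈ U) ∧ U ≤ W0}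
    ⟨W0, hW0, hW0inv, le_rfl⟩
  haveI : Nontrivial S := Submodule.nontrivial_iff_ne_bot.mpr hS0
  let ρS : Q →* Module.End K S :=
    { toFun := fun a => (ρ a).restrict (hSinv a)
      map_one' := by
        refine LinearMap.ext fun v => Subtype.ext ?_
        show ρ 1 (v : W) = _
        rw [map_one]; rfl
      map_mul' := fun a b => by
        refine LinearMap.ext fun v => Subtype.ext ?_
        show ρ (a * b) (v : W) = _
        rw [map_mul]; rfl }
  have hρScoe : ∀ a (v : S), (ρS a v : W) = ρ a (v : W) := fun _ _ => rfl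
  have hirr : ∀ U : Submodule K S, (∀ a, ∀ v ∈ U, ρS a v ∈ U) → U = ⊥ ∨ U = ⊤ := by
    intro U hU
    by_cases h0 : U = ⊥
    · exact Or.inl h0
    right
    by_contra htop
    have hlt : U.map S.subtype < S := by
      refine lt_of_le_of_ne (Submodule.map_subtype_le S U) fun h => htop ?_
      apply Submodule.map_injective_of_injective (f := S.subtype) Subtype.val_injective
      rw [h, Submodule.map_subtype_top]
    refine hSmin (U.map S.subtype) ⟨?_, ?_, le_trans hlt.le hSle⟩ hlt
    · intro h
      exact h0 (Submodule.map_injective_of_injective (f := S.subtype) Subtype.val_injective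
        (by rw [h, Submodule.map_bot]))
    · intro a v hv
      obtain ⟨w, hw, rfl⟩ := Submodule.mem_map.mp hv
      exact Submodule.mem_map.mpr ⟨ρS a w, hU a w hw, rfl⟩
  -- the centre acts by scalars
  have hscal : ∀ c ∈ center Q, ∃ k : K, ρS c = k • (1 : Module.End K S) := by
    intro c hc
    obtain ⟨k, hk⟩ := hscalW c hc
    refine ⟨k, LinearMap.ext fun v => Subtype.ext ?_⟩
    show ρ c (v : W) = k • (v : W)
    rw [hk]; rfl
  have hcenter_inj : ∀ c ∈ center Q, ρS c = 1 → c = 1 := by
    intro c hc h
    obtain ⟨k, hk⟩ := hscalW c hc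
    obtain ⟨v, hv⟩ := exists_ne (0 : S)
    have h1 : k • (v : W) = (v : W) := by
      have := congrArg (fun f : Module.End K S => ((f v : S) : W)) h
      simpa [hρScoe, hk] using this
    have hk1 : k = 1 := by
      by_contra hne
      exact hv (Subtype.ext (smul_right_injective W (sub_ne_zero.mpr hne)
        (show (k - 1) • (v : W) = (k - 1) • (0 : W) by rw [sub_smul, h1, one_smul, sub_self, smul_zero])))
    apply hρ
    rw [hk, hk1, one_smul, map_one]
  obtain ⟨B, hB'⟩ := exists_coset_basis hcls ρS hscal hcenter_inj hirr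
  let T := Q ⧸ center Q
  haveI : Fintype T := Fintype.ofFinite T
  let out : T → Q := fun t => Quotient.out t
  let b : T → Module.End K S := fun t => ρS (out t)
  have hB : ∀ t, B t = b t := hB'
  have hout : ∀ t : T, QuotientGroup.mk (out t) = t := fun t => Quotient.out_eq t
  have hspan : ⊤ ≤ Submodule.span K (Set.range b) := by
    rw [← B.span_eq, show (B : T → Module.End K S) = b from funext hB]
  -- the algebra automorphism
  let L : Module.End K S →ₗ[K] Module.End K S := B.constr K fun t => ρS (θ (out t))
  have hL : ∀ a, L (ρS a) = ρS (θ a) := by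
    intro a
    obtain ⟨k, hk⟩ := hscal _ (QuotientGroup.eq.mp (hout (QuotientGroup.mk a)))
    have ha : a = out (QuotientGroup.mk a) * ((out (QuotientGroup.mk a))⁻¹ * a) := by group
    have hc := hθZ _ (QuotientGroup.eq.mp (hout (QuotientGroup.mk a)))
    conv_rhs => rw [ha, map_mul θ, hc, map_mul ρS, hk]
    conv_lhs => rw [ha, map_mul, hk]
    rw [mul_smul_comm, mul_smul_comm, mul_one, mul_one, map_smul]
    congr 1
    show L (b (QuotientGroup.mk a)) = _
    rw [← hB, Basis.constr_basis]
  have hLmul : ∀ f g, L (f * g) = L f * L g := by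
    intro f g
    have hf : f ∈ Submodule.span K (Set.range b) := hspan trivial
    have hg : g ∈ Submodule.span K (Set.range b) := hspan trivial
    induction hf using Submodule.span_induction with
    | zero => simp
    | add x y _ _ hx hy => rw [add_mul, map_add, map_add, add_mul, hx, hy]
    | smul k x _ hx => rw [smul_mul_assoc, map_smul, map_smul, smul_mul_assoc, hx]
    | mem x hx =>
      obtain ⟨t, rfl⟩ := hx
      induction hg using Submodule.span_induction with
      | zero => simp
      | add x y _ _ hx hy => rw [mul_add, map_add, map_add, mul_add, hx, hy]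
      | smul k x _ hx => rw [mul_smul_comm, map_smul, map_smul, mul_smul_comm, hx]
      | mem x hx =>
        obtain ⟨t', rfl⟩ := hx
        show L (ρS (out t) * ρS (out t')) = L (ρS _) * L (ρS _)
        rw [← map_mul ρS, hL, hL, hL, map_mul θ, map_mul ρS]
  have hL1 : L 1 = 1 := by
    rw [← map_one ρS, hL, map_one θ]
  let Λ : Module.End K S →ₐ[K] Module.End K S := AlgHom.ofLinearMap L hL1 hLmul
  have hΛsurj : Function.Surjective L := by
    rw [← LinearMap.range_eq_top, eq_top_iff]
    refine hspan.trans (Submodule.span_le.mpr ?_)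
    rintro _ ⟨t, rfl⟩
    refine ⟨ρS (θ.symm (out t)), ?_⟩
    rw [hL, MulEquiv.apply_symm_apply]
  have hΛbij : Function.Bijective Λ :=
    ⟨(LinearMap.injective_iff_surjective (f := L)).mpr hΛsurj, hΛsurj⟩
  obtain ⟨s, hs⟩ := LinearEquiv.conjAlgEquiv_surjective K S S (AlgEquiv.ofBijective Λ hΛbij)
  have hsL : ∀ f v, s (f v) = L f (s v) := by
    intro f v
    have h1 := congrArg (fun e : Module.End K S ≃ₐ[K] Module.End K S => e f (s v)) hs
    simp only [LinearEquiv.conjAlgEquiv_apply, LinearMap.coe_comp, LinearEquiv.coe_coe,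
      Function.comp_apply, LinearEquiv.symm_apply_apply] at h1
    exact h1
  -- correct the scalar
  let U : Submodule K (S →ₗ[K] W) :=
    { carrier := {φ | ∀ a v, ρ a (φ v) = φ (ρS a v)}
      add_mem' := fun {φ ψ} hφ hψ a v => by
        simp only [LinearMap.add_apply, map_add, hφ a v, hψ a v]
      zero_mem' := fun a v => by simp
      smul_mem' := fun k φ hφ a v => by
        simp only [LinearMap.smul_apply, map_smul, hφ a v] }
  let Tφ : U →ₗ[K] U :=
    { toFun := fun φ => ⟨u ∘ₗ (φ : S →ₗ[K] W) ∘ₗ s.symm.toLinearMap, by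
        intro a v
        obtain ⟨a', rfl⟩ := θ.surjective a
        show ρ (θ a') (u ((φ : S →ₗ[K] W) (s.symm v))) = u ((φ : S →ₗ[K] W) (s.symm (ρS (θ a') v)))
        rw [← Module.End.mul_apply, ← hcomm, Module.End.mul_apply, φ.2 a']
        congr 2
        apply s.injective
        rw [hsL, LinearEquiv.apply_symm_apply, LinearEquiv.apply_symm_apply, hL]⟩
      map_add' := fun φ ψ => by
        apply Subtype.ext
        refine LinearMap.ext fun v => ?_
        simp
      map_smul' := fun k φ => by
        apply Subtype.ext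
        refine LinearMap.ext fun v => ?_
        simp }
  haveI : Nontrivial U := by
    refine Submodule.nontrivial_iff_ne_bot.mpr ?_
    rw [Submodule.ne_bot_iff]
    refine ⟨S.subtype, fun a v => rfl, fun h => ?_⟩
    obtain ⟨v, hv⟩ := exists_ne (0 : S)
    exact hv (Subtype.ext (congrArg (fun f : S →ₗ[K] W => f v) h))
  obtain ⟨lam, hlam⟩ := Module.End.exists_eigenvalue Tφ
  obtain ⟨φ, hφmem, hφ0⟩ := hlam.exists_hasEigenvector
  have hφinj : Function.Injective (φ : S →ₗ[K] W) := by
    rw [← LinearMap.ker_eq_bot]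
    refine (hirr _ fun a v hv => ?_).resolve_right fun h => hφ0 (Subtype.ext ?_)
    · rw [LinearMap.mem_ker] at hv ⊢
      rw [← φ.2 a v, hv, map_zero]
    · exact LinearMap.ker_eq_top.mp h
  let u' : Module.End K S := lam • s.toLinearMap
  have hu' : ∀ v, u ((φ : S →ₗ[K] W) v) = (φ : S →ₗ[K] W) (u' v) := by
    intro v
    have h1 := congrArg (fun ψ : U => (ψ : S →ₗ[K] W) (s v))
      (Module.End.mem_eigenspace_iff.mp hφmem)
    simpa [Tφ, u'] using h1
  have hu'pow : ∀ k : ℕ, ∀ v, (u ^ k) ((φ : S →ₗ[K] W) v) = (φ : S →ₗ[K] W) ((u' ^ k) v) := by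
    intro k
    induction k with
    | zero => intro v; rfl
    | succ k ih =>
      intro v
      rw [pow_succ', pow_succ', Module.End.mul_apply, Module.End.mul_apply, ih, hu']
  have hu'r : u' ^ N = 1 := by
    refine LinearMap.ext fun v => hφinj ?_
    rw [← hu'pow, hu]; rfl
  refine ⟨S, ρS, u', φ, inferInstance, hscal, hcenter_inj, hirr, hφinj, hu'r, fun a => ?_, hu'⟩
  refine LinearMap.ext fun v => hφinj ?_
  show (φ : S →ₗ[K] W) (u' (ρS a v)) = (φ : S →ₗ[K] W) (ρS (θ a) (u' v))
  rw [← hu', ← φ.2 a, ← φ.2 (θ a), ← hu', ← Module.End.mul_apply, hcomm, Module.End.mul_apply]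

end H1.Turull
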